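import Mathlib.AlgebraicGeometry.Morphisms.Flat
import Mathlib.AlgebraicGeometry.IdealSheaf.Functorial

/-! Flatness of a closed subscheme over an affine base, on an affine cover of the ambient scheme. -/

set_option autoImplicit false
universe u

open CategoryTheory CategoryTheory.Limits AlgebraicGeometry

namespace K680.FlatIdeal

variable {X S : Scheme.{u}}

lemma isAffineOpen_preimage (I : X.IdealSheafData) (U : X.affineOpens) :
    IsAffineOpen (I.subschemeι ⁻¹ᵁ U.1) := U.2.preimage I.subschemeι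

lemma appLE_comp (I : X.IdealSheafData) (f : X ⟶ S) (U : X.affineOpens) (W : S.Opens) (e : U.1 ≤ f ⁻¹ᵁ W)
    (e' : I.subschemeι ⁻¹ᵁ U.1 ≤ (I.subschemeι ≫ f) ⁻¹ᵁ W) :
    ((I.subschemeι ≫ f).appLE W (I.subschemeι ⁻¹ᵁ U.1) e').hom =
      (I.subschemeObjIso U).inv.hom.comp ((Ideal.Quotient.mk (I.ideal U)).comp (f.appLE W U.1 e).hom) := by
  have h1 : (I.subschemeι ≫ f).appLE W (I.subschemeι ⁻¹ᵁ U.1) e' = f.appLE W U.1 e ≫ I.subschemeι.app U.1 := by
    rw [Scheme.Hom.app_eq_appLE, Scheme.Hom.appLE_comp_appLE]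
  rw [h1, Scheme.IdealSheafData.subschemeι_app]
  rfl

lemma flat_comp_iff_of_isIso {A B : Type u} [CommRing A] [CommRing B] {C : CommRingCat.{u}} (φ : A →+* B)
    (e : CommRingCat.of B ⟶ C) [IsIso e] : (e.hom.comp φ).Flat ↔ φ.Flat := by
  have h := RingHom.Flat.respectsIso
  let e' : B ≃+* C := (asIso e).commRingCatIsoToRingEquiv
  constructor
  · intro h1
    have h2 := h.1 _ e'.symm h1
    have h3 : e'.symm.toRingHom.comp (e.hom.comp φ) = φ := by
      ext x
      exact e'.symm_apply_apply _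
    rwa [h3] at h2
  · intro h1
    exact h.1 _ e' h1

/-- Flatness of a closed subscheme over an affine base can be checked on an affine cover of the ambient
scheme. -/
theorem flat_iff [IsAffine S] (I : X.IdealSheafData) (f : X ⟶ S) {ι : Type*} (U : ι → X.affineOpens)
    (hU : ⨆ i, (U i).1 = ⊤) :
    Flat (I.subschemeι ≫ f) ↔
      ∀ i, ((Ideal.Quotient.mk (I.ideal (U i))).comp (f.appLE ⊤ (U i).1 le_top).hom).Flat := by
  rw [HasRingHomProperty.iff_of_iSup_eq_top (P := @Flat)
    (fun i => ⟨I.subschemeι ⁻¹ᵁ (U i).1, isAffineOpen_preimage I (U i)⟩) (by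
      rw [← Scheme.Hom.preimage_iSup, hU]
      rfl)]
  refine forall_congr' fun i => ?_
  have h1 := appLE_comp I f (U i) ⊤ le_top le_top
  refine Iff.trans (iff_of_eq (congrArg RingHom.Flat h1)) ?_
  exact flat_comp_iff_of_isIso _ _

end K680.FlatIdeal
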