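import Groth.Agent.Deform.K680.Tower
import Groth.Agent.SGA7.K565.SmallTangent

/-! The versality criterion, and universality of a hull under the condition `H`. -/

set_option autoImplicit false
universe u v
open CategoryTheory

namespace K680.Versal

open ArtFun ArtFun.Art IsLocalRing K565.ArtTools K565.SmallTangent K680.Tow

variable {Λ : Type u} {k : Type u} [CommRing Λ] [Field k] [Algebra Λ k]

section HomSetFib

variable {R : Type u} [CommRing R] [Algebra Λ R] {resR : R →ₐ[Λ] k}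

lemma homSet_map_comp {A B C : Art Λ k} (f : A ⟶ B) (g : B ⟶ C) (φ : HomSet R resR A) :
    HomSet.map (f ≫ g) φ = HomSet.map g (HomSet.map f φ) :=
  Subtype.ext (AlgHom.ext fun _ => rfl)

lemma homSet_map_id {A : Art Λ k} (φ : HomSet R resR A) : HomSet.map (𝟙 A) φ = φ :=
  Subtype.ext (AlgHom.ext fun _ => rfl)

lemma homSet_res {A : Art Λ k} (φ : HomSet R resR A) (r : R) : A.res (φ.1 r) = resR r :=
  congrArg (fun f => f r) φ.2

/-- There is exactly one map to the final object. -/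
lemma homSet_base_eq (φ ψ : HomSet R resR (base Λ k)) : φ = ψ := by
  refine Subtype.ext (AlgHom.ext fun r => ?_)
  have h1 := homSet_res φ r
  have h2 := homSet_res ψ r
  exact h1.trans h2.symm

/-- Maps into a fibre product. -/
theorem homSet_exists_lift {B A A₁ A₂ : Art Λ k} {p₁ : B ⟶ A₁} {p₂ : B ⟶ A₂} {f₁ : A₁ ⟶ A} {f₂ : A₂ ⟶ A}
    (h : IsFibreProd p₁ p₂ f₁ f₂) (g₁ : HomSet R resR A₁) (g₂ : HomSet R resR A₂)
    (hg : HomSet.map f₁ g₁ = HomSet.map f₂ g₂) :
    ∃ g : HomSet R resR B, HomSet.map p₁ g = g₁ ∧ HomSet.map p₂ g = g₂ := by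
  have hg' : ∀ c, f₁ (g₁.1 c) = f₂ (g₂.1 c) := fun c => congrArg (fun f => f.1 c) hg
  choose s hs₁ hs₂ using fun c => h.surj (g₁.1 c) (g₂.1 c) (hg' c)
  let σ : R →ₐ[Λ] B :=
    { toFun := s
      map_one' := h.inj _ _ (by rw [hs₁, map_one, map_one]) (by rw [hs₂, map_one, map_one])
      map_mul' := fun a b => h.inj _ _ (by rw [hs₁, map_mul, map_mul, hs₁, hs₁])
        (by rw [hs₂, map_mul, map_mul, hs₂, hs₂])
      map_zero' := h.inj _ _ (by rw [hs₁, map_zero, map_zero]) (by rw [hs₂, map_zero, map_zero])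
      map_add' := fun a b => h.inj _ _ (by rw [hs₁, map_add, map_add, hs₁, hs₁])
        (by rw [hs₂, map_add, map_add, hs₂, hs₂])
      commutes' := fun l => h.inj _ _ (by rw [hs₁, AlgHom.commutes, AlgHom.commutes])
        (by rw [hs₂, AlgHom.commutes, AlgHom.commutes]) }
  refine ⟨⟨σ, ?_⟩, Subtype.ext (AlgHom.ext hs₁), Subtype.ext (AlgHom.ext hs₂)⟩
  apply AlgHom.ext
  intro c
  change B.res (s c) = resR c
  rw [← Art.res_app p₁, hs₁, homSet_res]

theorem homSet_ext_fib {B A A₁ A₂ : Art Λ k} {p₁ : B ⟶ A₁} {p₂ : B ⟶ A₂} {f₁ : A₁ ⟶ A} {f₂ : A₂ ⟶ A}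
    (h : IsFibreProd p₁ p₂ f₁ f₂) {g g' : HomSet R resR B} (h₁ : HomSet.map p₁ g = HomSet.map p₁ g')
    (h₂ : HomSet.map p₂ g = HomSet.map p₂ g') : g = g' :=
  Subtype.ext (AlgHom.ext fun c => h.inj _ _ (congrArg (fun f => f.1 c) h₁) (congrArg (fun f => f.1 c) h₂))

end HomSetFib

section Criterion

variable {F : Art Λ k ⥤ Type v} {R : Type u} [CommRing R] [Algebra Λ R] {resR : R →ₐ[Λ] k}

/-- The versality criterion: surjective on tangent spaces and lifting along small extensions. -/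
theorem isVersal_of_lift (hk : Function.Surjective (algebraMap Λ k)) (h1 : Hbar F) (h2 : Heps F)
    (ξ : Family R resR F) (htan : Function.Surjective (ξ.app (dual Λ k)))
    (hlift : ∀ ⦃B A : Art Λ k⦄ (μ : B ⟶ A), IsSmallExt μ → ∀ (φ : HomSet R resR A) (y : F.obj B),
      F.map μ y = ξ.app A φ → ∃ ψ : HomSet R resR B, HomSet.map μ ψ = φ) : IsVersal ξ := by
  intro B A μ hμ
  refine smallExt_induction (fun A B μ => ∀ (φ : HomSet R resR A) (y : F.obj B), F.map μ y = ξ.app A φ →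
      ∃ ψ : HomSet R resR B, HomSet.map μ ψ = φ ∧ ξ.app B ψ = y) ?_ ?_ ?_ μ hμ
  · intro A B e he φ y hy
    refine ⟨HomSet.map (inv e) φ, ?_, ?_⟩
    · rw [← homSet_map_comp, IsIso.inv_hom_id, homSet_map_id]
    · rw [ξ.natural, ← hy, map_map, IsIso.hom_inv_id, map_id_apply]
  · intro A B μ hμ φ y hy
    obtain ⟨ψ₀, hψ₀⟩ := hlift μ hμ φ y hy
    obtain ⟨C, p₁, p₂, hC⟩ := exists_isFibreProd hk μ μ hμ.1
    obtain ⟨q, hq⟩ := exists_isFibreProd_dual hμ hC
    obtain ⟨z, hz⟩ := h1 p₁ p₂ μ μ hC hμ ⟨(ξ.app B ψ₀, y), by rw [← ξ.natural, hψ₀, hy]⟩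
    have hz₁ : F.map p₁ z = ξ.app B ψ₀ := congrArg (fun x => x.1.1) hz
    have hz₂ : F.map p₂ z = y := congrArg (fun x => x.1.2) hz
    obtain ⟨v, hv⟩ := htan (F.map q z)
    obtain ⟨ψ', hψ'₁, hψ'₂⟩ := homSet_exists_lift hq ψ₀ v (homSet_base_eq _ _)
    have hzz : ξ.app C ψ' = z := by
      apply (h2 p₁ q hq).1
      apply FibProd.ext
      · change F.map p₁ (ξ.app C ψ') = F.map p₁ z
        rw [← ξ.natural, hψ'₁, hz₁]
      · change F.map q (ξ.app C ψ') = F.map q z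
        rw [← ξ.natural, hψ'₂, hv]
    refine ⟨HomSet.map p₂ ψ', ?_, ?_⟩
    · rw [← homSet_map_comp, ← hC.w, homSet_map_comp, hψ'₁, hψ₀]
    · rw [ξ.natural, hzz, hz₂]
  · intro A B C p q hp hq ih1 ih2 φ y hy
    obtain ⟨ψ, h3, h4⟩ := ih2 φ (F.map p y) (by rw [map_map, hy])
    obtain ⟨χ, h5, h6⟩ := ih1 ψ y h4.symm
    exact ⟨χ, by rw [homSet_map_comp, h5, h3], h6⟩

/-- A versal family of a functor with one-point value at `k` is surjective on every object. -/
theorem surjective_of_isVersal (h0 : H0 F) (ξ : Family R resR F) (hξ : IsVersal ξ) (A : Art Λ k) :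
    Function.Surjective (ξ.app A) := by
  intro y
  obtain ⟨ψ, -, h⟩ := hξ (toBase A) A.res_surjective ⟨resR, AlgHom.id_comp _⟩ y (h0.2.elim _ _)
  exact ⟨ψ, h⟩

/-- A family which is injective on tangent spaces is injective everywhere, if `F` satisfies the injectivity
part of condition `H`. -/
theorem injective_of_tangent (hk : Function.Surjective (algebraMap Λ k))
    (hF : ∀ ⦃B A A' : Art Λ k⦄ (p₁ p₂ : B ⟶ A') (f : A' ⟶ A) (h : IsFibreProd p₁ p₂ f f),
    IsSmallExt f → Function.Injective (cmp F h))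
    (ξ : Family R resR F) (htan : Function.Injective (ξ.app (dual Λ k))) (A : Art Λ k) :
    Function.Injective (ξ.app A) := by
  have key : ∀ ⦃A B : Art Λ k⦄ (μ : B ⟶ A), Function.Surjective μ → ∀ φ ψ : HomSet R resR B,
      HomSet.map μ φ = HomSet.map μ ψ → ξ.app B φ = ξ.app B ψ → φ = ψ := by
    intro A B μ hμ
    refine smallExt_induction (fun A B μ => ∀ φ ψ : HomSet R resR B,
      HomSet.map μ φ = HomSet.map μ ψ → ξ.app B φ = ξ.app B ψ → φ = ψ) ?_ ?_ ?_ μ hμ
    · intro A B e he φ ψ h _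
      have h1 := congrArg (HomSet.map (inv e)) h
      rwa [← homSet_map_comp, ← homSet_map_comp, IsIso.hom_inv_id, homSet_map_id, homSet_map_id] at h1
    · intro A B μ hμ φ ψ h h'
      obtain ⟨C, p₁, p₂, hC⟩ := exists_isFibreProd hk μ μ hμ.1
      obtain ⟨q, hq⟩ := exists_isFibreProd_dual hμ hC
      obtain ⟨α, hα₁, hα₂⟩ := homSet_exists_lift hC φ φ rfl
      obtain ⟨β, hβ₁, hβ₂⟩ := homSet_exists_lift hC φ ψ h
      have h1 : ξ.app C α = ξ.app C β := by
        apply hF p₁ p₂ μ hC hμ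
        apply FibProd.ext
        · change F.map p₁ _ = F.map p₁ _
          rw [← ξ.natural, ← ξ.natural, hα₁, hβ₁]
        · change F.map p₂ _ = F.map p₂ _
          rw [← ξ.natural, ← ξ.natural, hα₂, hβ₂, h']
      have h2 : HomSet.map q α = HomSet.map q β := by
        apply htan
        rw [ξ.natural, ξ.natural, h1]
      have h3 : α = β := homSet_ext_fib hq (by rw [hα₁, hβ₁]) h2
      rw [← hα₂, h3, hβ₂]
    · intro A B C p q hp hq ih1 ih2 φ ψ h h'
      rw [homSet_map_comp, homSet_map_comp] at h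
      exact ih1 _ _ (ih2 _ _ h (by rw [ξ.natural, ξ.natural, h'])) h'
  intro φ ψ h
  exact key (toBase A) A.res_surjective φ ψ (homSet_base_eq _ _) h

end Criterion

section LeftExact

variable {F : Art Λ k ⥤ Type v}

/-- A prorepresentable functor is left exact. -/
theorem isLeftExact_of_isUniversal {R : Type u} [CommRing R] [Algebra Λ R] {resR : R →ₐ[Λ] k}
    (ξ : Family R resR F) (hξ : IsUniversal ξ) : IsLeftExact F := by
  intro B A A' A'' p' p'' f' f'' h
  constructor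
  · intro x y hxy
    have h1 : F.map p' x = F.map p' y := congrArg (fun t => t.1.1) hxy
    have h2 : F.map p'' x = F.map p'' y := congrArg (fun t => t.1.2) hxy
    obtain ⟨φ, rfl⟩ := (hξ B).2 x
    obtain ⟨ψ, rfl⟩ := (hξ B).2 y
    rw [← ξ.natural, ← ξ.natural] at h1 h2
    rw [homSet_ext_fib h ((hξ _).1 h1) ((hξ _).1 h2)]
  · rintro ⟨⟨x, y⟩, hxy⟩
    change F.map f' x = F.map f'' y at hxy
    obtain ⟨φ, rfl⟩ := (hξ _).2 x
    obtain ⟨ψ, rfl⟩ := (hξ _).2 y
    rw [← ξ.natural, ← ξ.natural] at hxy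
    obtain ⟨χ, h3, h4⟩ := homSet_exists_lift h φ ψ ((hξ _).1 hxy)
    refine ⟨ξ.app B χ, FibProd.ext ?_ ?_⟩
    · change F.map p' _ = _
      rw [← ξ.natural, h3]
    · change F.map p'' _ = _
      rw [← ξ.natural, h4]

/-- The point of `F(k)` is unique when `F` is prorepresentable. -/
theorem h0_of_isUniversal (R : CRing Λ k) (ξ : Family R.carrier R.res F) (hξ : IsUniversal ξ) : H0 F := by
  refine ⟨⟨ξ.app _ ⟨R.res, AlgHom.id_comp _⟩⟩, ⟨fun x y => ?_⟩⟩
  obtain ⟨φ, rfl⟩ := (hξ _).2 x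
  obtain ⟨ψ, rfl⟩ := (hξ _).2 y
  rw [homSet_base_eq φ ψ]

end LeftExact

end K680.Versal
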