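import Groth.Agent.Deform.K680.TowerLift
import Groth.Agent.Deform.K680.Versal
import Groth.Agent.ArtFun.K725.SmoothRing
import Mathlib.LinearAlgebra.Basis.VectorSpace
import Mathlib.LinearAlgebra.Dimension.Finrank
import Mathlib.LinearAlgebra.StdBasis

/-! The first step of Schlessinger's construction: the object `k ⊕ kⁿ`, and elements over it with prescribed
images in the tangent space. -/

set_option autoImplicit false
universe u v
open CategoryTheory

namespace K680.Start

open ArtFun ArtFun.Art IsLocalRing K680.Opn K680.Tow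

variable {Λ : Type u} {k : Type u} [CommRing Λ] [Field k] [Algebra Λ k]

section Tsze

/-- `k ⊕ V` as an object. -/
noncomputable def E (Λ : Type u) (k : Type u) [CommRing Λ] [Field k] [Algebra Λ k] (n : ℕ) : Art Λ k :=
  { carrier := TrivSqZeroExt k (Fin n → k)
    isLocalRing := isLocalRing_tsze k (Fin n → k)
    isArtinianRing := isArtinianRing_tsze k (Fin n → k)
    res := TrivSqZeroExt.fstHom Λ k (Fin n → k)
    res_surjective := fun a => ⟨TrivSqZeroExt.inl a, rfl⟩ }

/-- The map `k ⊕ kⁿ → k[ε]` of a functional. -/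
noncomputable def toDual {n : ℕ} (ℓ : (Fin n → k) →ₗ[k] k) : E Λ k n ⟶ dual Λ k :=
  ⟨tszeMap ℓ, AlgHom.ext fun _ => rfl⟩

/-- The map `k ⊕ kⁿ⁺¹ → k ⊕ kⁿ` forgetting the first coordinate. -/
noncomputable def tailHom (n : ℕ) : E Λ k (n + 1) ⟶ E Λ k n :=
  ⟨tszeMap (LinearMap.funLeft k k Fin.succ), AlgHom.ext fun _ => rfl⟩

/-- The map `k ⊕ kⁿ → k[ε₁,ε₂]` of a pair of functionals. -/
noncomputable def toDual2 {n : ℕ} (ℓ : (Fin n → k) →ₗ[k] k × k) : E Λ k n ⟶ dual2 Λ k :=
  ⟨tszeMap ℓ, AlgHom.ext fun _ => rfl⟩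

lemma isFibreProd_E (n : ℕ) : IsFibreProd (tailHom n : E Λ k (n + 1) ⟶ E Λ k n)
    (toDual (LinearMap.proj 0)) (toBase (E Λ k n)) (toBase (dual Λ k)) where
  w := by rw [eq_toBase (tailHom n ≫ toBase _), eq_toBase (toDual _ ≫ toBase _)]
  inj b₁ b₂ h₁ h₂ := by
    have e₁ : b₁.fst = b₂.fst := by
      have h := congrArg TrivSqZeroExt.fst h₁
      exact h
    have e₂ : ∀ i : Fin n, b₁.snd i.succ = b₂.snd i.succ := by
      have h := congrArg TrivSqZeroExt.snd h₁
      exact fun i => congrFun h i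
    have e₃ : b₁.snd 0 = b₂.snd 0 := by
      have h := congrArg TrivSqZeroExt.snd h₂
      exact h
    exact TrivSqZeroExt.ext e₁ (funext fun i => Fin.cases e₃ e₂ i)
  surj a' a'' h := by
    have h' : a'.fst = a''.fst := h
    refine ⟨(a'.fst, Fin.cons a''.snd a'.snd), TrivSqZeroExt.ext rfl ?_, TrivSqZeroExt.ext h' rfl⟩
    funext i
    rfl

variable {F : Art Λ k ⥤ Type v} [TangentStr F]

lemma smul_eq (c : k) (x : F.obj (dual Λ k)) :
    c • TangentSpace.mk x = TangentSpace.mk (F.map (scale c) x) := TangentStr.smul_eq c x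

lemma add_eq (z : F.obj (dual2 Λ k)) :
    TangentSpace.mk (F.map pr₁ z) + TangentSpace.mk (F.map pr₂ z) = TangentSpace.mk (F.map plus z) :=
  TangentStr.add_eq z

/-- Elements over `k ⊕ kⁿ` with prescribed images in the tangent space. -/
theorem exists_elt (h0 : H0 F) (h2 : Heps F) : ∀ (n : ℕ) (x : Fin n → TangentSpace F),
    ∃ η : F.obj (E Λ k n), ∀ ℓ : (Fin n → k) →ₗ[k] k,
      TangentSpace.mk (F.map (toDual ℓ) η) = ∑ i, ℓ (Pi.single i 1) • x i := by
  intro n
  induction n with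
  | zero =>
    intro x
    obtain ⟨x₀⟩ := h0.1
    -- `k → k ⊕ k⁰` is an isomorphism
    let j : base Λ k ⟶ E Λ k 0 := ⟨(Algebra.ofId k (TrivSqZeroExt k (Fin 0 → k))).restrictScalars Λ,
      AlgHom.ext fun _ => rfl⟩
    refine ⟨F.map j x₀, fun ℓ => ?_⟩
    have h1 : ∀ y : F.obj (dual Λ k), F.map (toBase (dual Λ k) ≫ baseToDual) y =
        (0 : k) • TangentSpace.mk y := by
      intro y
      rw [smul_eq]
      have : (toBase (dual Λ k) ≫ baseToDual : dual Λ k ⟶ dual Λ k) = scale 0 := by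
        apply Art.hom_ext
        apply AlgHom.ext
        intro a
        exact TrivSqZeroExt.ext rfl (zero_mul _).symm
      rw [this]
      rfl
    have h3 : (j ≫ toDual ℓ : base Λ k ⟶ dual Λ k) = baseToDual := by
      apply Art.hom_ext
      apply AlgHom.ext
      intro a
      refine TrivSqZeroExt.ext rfl ?_
      have h3 : ∀ v : Fin 0 → k, ℓ v = 0 := fun v => by rw [Subsingleton.elim v 0, map_zero]
      exact h3 _
    rw [map_map, h3, Finset.univ_eq_empty, Finset.sum_empty]
    have h4 := h1 (F.map baseToDual x₀)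
    rw [zero_smul, map_map] at h4
    have h5 : (baseToDual ≫ toBase (dual Λ k) ≫ baseToDual : base Λ k ⟶ dual Λ k) = baseToDual := by
      apply Art.hom_ext
      apply AlgHom.ext
      intro a
      rfl
    rw [h5] at h4
    exact h4
  | succ n ih =>
    intro x
    obtain ⟨η, hη⟩ := ih (fun i => x i.succ)
    obtain ⟨ζ, hζ⟩ := (h2 _ _ (isFibreProd_E n)).2 ⟨(η, (x 0).val), h0.2.elim _ _⟩
    have hζ1 : F.map (tailHom n) ζ = η := congrArg (fun t => t.1.1) hζ
    have hζ2 : F.map (toDual (LinearMap.proj 0)) ζ = (x 0).val := congrArg (fun t => t.1.2) hζ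
    refine ⟨ζ, fun ℓ => ?_⟩
    -- split the functional
    let ℓ' : (Fin n → k) →ₗ[k] k := ℓ ∘ₗ LinearMap.pi (Fin.cons 0 fun i => LinearMap.proj i)
    let c : k := ℓ (Pi.single 0 1)
    have hℓ : ∀ v : Fin (n + 1) → k, ℓ v = ℓ' (fun i => v i.succ) + c * v 0 := by
      intro v
      have hv : v = (LinearMap.pi (Fin.cons 0 fun i => LinearMap.proj i) : (Fin n → k) →ₗ[k] (Fin (n + 1) → k))
          (fun i => v i.succ) + v 0 • Pi.single 0 1 := by
        funext i
        refine Fin.cases ?_ (fun i => ?_) i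
        · simp
        · simp
      conv_lhs => rw [hv]
      rw [map_add, map_smul, smul_eq_mul, mul_comm]
      rfl
    let m : (Fin (n + 1) → k) →ₗ[k] k × k :=
      LinearMap.prod (ℓ' ∘ₗ LinearMap.funLeft k k Fin.succ) (c • LinearMap.proj 0)
    have e1 : (toDual2 m ≫ plus : E Λ k (n + 1) ⟶ dual Λ k) = toDual ℓ := by
      apply Art.hom_ext
      apply AlgHom.ext
      intro a
      exact TrivSqZeroExt.ext rfl (hℓ a.snd).symm
    have e2 : (toDual2 m ≫ pr₁ : E Λ k (n + 1) ⟶ dual Λ k) = tailHom n ≫ toDual ℓ' := by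
      apply Art.hom_ext
      apply AlgHom.ext
      intro a
      exact TrivSqZeroExt.ext rfl rfl
    have e3 : (toDual2 m ≫ pr₂ : E Λ k (n + 1) ⟶ dual Λ k) = toDual (LinearMap.proj 0) ≫ scale c := by
      apply Art.hom_ext
      apply AlgHom.ext
      intro a
      exact TrivSqZeroExt.ext rfl rfl
    rw [← e1, ← map_map, ← add_eq, map_map, map_map, e2, e3, ← map_map, ← map_map, hζ1, hζ2, hη, ← smul_eq,
      Fin.sum_univ_succ, add_comm]
    congr 1
    refine Finset.sum_congr rfl fun i _ => ?_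
    congr 1
    change ℓ _ = ℓ _
    congr 1
    funext j
    refine Fin.cases ?_ (fun j => ?_) j
    · simp
    · simp [Pi.single_apply]

end Tsze

end K680.Start
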