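import Groth.Agent.Deform.K680.Tower

/-! The lifting property of the limit of Schlessinger's tower along small extensions. -/

set_option autoImplicit false
universe u v
open CategoryTheory

namespace K680.TowLift

open ArtFun ArtFun.Art IsLocalRing K680.Opn K680.Tow

variable {Λ : Type u} {k : Type u} [CommRing Λ] [Field k] [Algebra Λ k]

lemma mem_ker_iff {A B : Art Λ k} (μ : B ⟶ A) (b : B) : b ∈ RingHom.ker μ.toAlgHom ↔ μ b = 0 := Iff.rfl

/-- The kernel of a small extension is killed by the maximal ideal. -/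
lemma mul_eq_zero_of_isSmallExt {A B : Art Λ k} {μ : B ⟶ A}
    (h : maximalIdeal B * RingHom.ker μ.toAlgHom = ⊥) {x b : B}
    (hx : x ∈ maximalIdeal B) (hb : μ b = 0) : x * b = 0 := by
  have h1 : x * b ∈ maximalIdeal B * RingHom.ker μ.toAlgHom := Ideal.mul_mem_mul hx hb
  rw [h] at h1
  exact h1

/-- In a small extension any nonzero element of the kernel generates it; the coefficient may be taken
in any algebra mapping to `B` and surjecting onto the residue field. -/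
lemma exists_eq_mul_of_isSmallExt {A B : Art Λ k} {μ : B ⟶ A} (h : IsSmallExt μ) {x b : B}
    (hx : μ x = 0) (hx0 : x ≠ 0) (hb : μ b = 0) : ∃ c : B, b = c * x := by
  obtain ⟨⟨t, ht⟩⟩ := h.2.2.1
  have h1 : ∀ y : B, μ y = 0 → ∃ c : B, y = c * t := fun y hy => by
    have h2 : y ∈ RingHom.ker μ.toAlgHom := hy
    rw [ht] at h2
    obtain ⟨c, hc⟩ := Submodule.mem_span_singleton.1 h2
    exact ⟨c, hc.symm⟩
  have htk : μ t = 0 := by
    have h2 : t ∈ RingHom.ker μ.toAlgHom := by rw [ht]; exact Submodule.mem_span_singleton_self t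
    exact h2
  obtain ⟨c, hc⟩ := h1 x hx
  obtain ⟨d, hd⟩ := h1 b hb
  have hcu : IsUnit c := by
    by_contra hcn
    exact hx0 (by rw [hc]; exact mul_eq_zero_of_isSmallExt h.2.2.2 ((mem_maximalIdeal _).2 hcn) htk)
  obtain ⟨u, rfl⟩ := hcu
  refine ⟨d * (u⁻¹ : Bˣ), ?_⟩
  rw [hd, hc, mul_assoc, ← mul_assoc ((u⁻¹ : Bˣ) : B), Units.inv_mul, one_mul]

lemma exists_eq_mul_of_isSmallExt' {P : CRing Λ k} {A B : Art Λ k} {μ : B ⟶ A} (h : IsSmallExt μ)
    (w : HomSet P.carrier P.res B) {x b : B}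
    (hx : μ x = 0) (hx0 : x ≠ 0) (hb : μ b = 0) : ∃ p : P.carrier, b = w.1 p * x := by
  obtain ⟨c, rfl⟩ := exists_eq_mul_of_isSmallExt h hx hx0 hb
  obtain ⟨p, hp⟩ := P.res_surjective (B.res c)
  refine ⟨p, ?_⟩
  have h1 : B.res (w.1 p) = P.res p := congrArg (fun f => f p) w.2
  have h2 : c - w.1 p ∈ maximalIdeal B := by
    rw [Art.mem_maximalIdeal_iff, map_sub, h1, hp, sub_self]
  have h3 := mul_eq_zero_of_isSmallExt h.2.2.2 h2 hx
  rw [sub_mul, sub_eq_zero] at h3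
  exact h3

/-- A transition map whose kernel is generated by one element and killed by the maximal ideal. -/
lemma isSmallExt_trans {P : CRing Λ k} {J K : OI P} (h : K.J ≤ J.J) (a₀ : P.carrier) (ha₀ : a₀ ∈ J.J)
    (ha₀' : a₀ ∉ K.J) (hgen : ∀ j ∈ J.J, ∃ p, j - p * a₀ ∈ K.J) (hmax : maximalIdeal P.carrier * J.J ≤ K.J) :
    IsSmallExt (OI.trans h) := by
  have hker : ∀ a : P.carrier, OI.trans h (K.hom.1 a) = 0 ↔ a ∈ J.J := fun a => J.hom_eq_zero_iff a
  refine ⟨OI.trans_surjective h, ?_, ⟨⟨K.hom.1 a₀, ?_⟩⟩, ?_⟩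
  · intro hbot
    have h1 : K.hom.1 a₀ ∈ RingHom.ker (OI.trans h).toAlgHom := (hker a₀).2 ha₀
    rw [hbot] at h1
    exact ha₀' ((K.hom_eq_zero_iff a₀).1 h1)
  · apply le_antisymm
    · intro x hx
      obtain ⟨a, rfl⟩ := K.hom_surjective x
      obtain ⟨p, hp⟩ := hgen a ((hker a).1 hx)
      refine Submodule.mem_span_singleton.2 ⟨K.hom.1 p, ?_⟩
      rw [smul_eq_mul, ← map_mul]
      exact ((K.hom_eq_iff _ _).2 hp).symm
    · rw [Submodule.span_singleton_le_iff_mem]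
      exact (hker a₀).2 ha₀
  · rw [← le_bot_iff, Ideal.mul_le]
    intro x hx y hy
    obtain ⟨a, rfl⟩ := K.hom_surjective x
    obtain ⟨b, rfl⟩ := K.hom_surjective y
    have h1 : b ∈ J.J := (hker b).1 hy
    have h2 : a ∈ maximalIdeal P.carrier := by
      rw [CRing.mem_maximalIdeal_iff]
      exact (Art.mem_maximalIdeal_iff _ _).1 hx
    rw [← map_mul]
    exact (K.hom_eq_zero_iff _).2 (hmax (Ideal.mul_mem_mul h2 h1))

variable {P : CRing Λ k} {F : Art Λ k ⥤ Type v}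

/-- The limit of Schlessinger's tower has the lifting property along small extensions (at arguments
over which the element lifts). -/
theorem exists_lift (hP : IsSmoothFunctor (hR P.carrier P.res)) (hF : Hbar F) (T : Tower P F)
    (hT : ∀ n, IsStep F (T.J n) (T.elt n) (T.J (n + 1)) (T.elt (n + 1)))
    {B A : Art Λ k} (μ : B ⟶ A) (hμ : IsSmallExt μ) (φ : HomSet T.ring.carrier T.ring.res A) (y : F.obj B)
    (hy : F.map μ y = T.family.app A φ) : ∃ ψ : HomSet T.ring.carrier T.ring.res B, HomSet.map μ ψ = φ := by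
  obtain ⟨n, hn⟩ := T.exists_level φ
  obtain ⟨w, hw⟩ : ∃ w : HomSet P.carrier P.res B, HomSet.map μ w = T.rs φ := hP μ hμ.1 (T.rs φ)
  have hwφ : ∀ a, μ (w.1 a) = (T.rs φ).1 a := fun a => congrArg (fun f => f.1 a) hw
  -- it is enough to kill some member of the tower
  have key : ∀ m, (∀ a ∈ (T.J m).J, w.1 a = 0) →
      ∃ ψ : HomSet T.ring.carrier T.ring.res B, HomSet.map μ ψ = φ := by
    intro m hm
    obtain ⟨ψ, hψ⟩ := T.exists_rs_eq w m hm
    exact ⟨ψ, T.rs_injective (by rw [T.rs_map, hψ, hw])⟩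
  by_cases h1 : ∀ a ∈ (T.J n).J, w.1 a = 0
  · exact key n h1
  push Not at h1
  obtain ⟨a₀, ha₀, ha₀'⟩ := h1
  have hst := hT n
  have hwk : ∀ a ∈ (T.J n).J, μ (w.1 a) = 0 := fun a ha => by rw [hwφ, hn a ha]
  let K : OI P := (T.J n).inf (OI.ker w)
  have hKn : K.J ≤ (T.J n).J := OI.inf_le_l _ _
  have hKw : ∀ a ∈ K.J, w.1 a = 0 := fun a ha => OI.inf_le_r (T.J n) (OI.ker w) ha
  have hmemK : ∀ a, a ∈ (T.J n).J → w.1 a = 0 → a ∈ K.J := fun a h h' => ⟨h, h'⟩
  have hmax : maximalIdeal P.carrier * (T.J n).J ≤ K.J := by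
    rw [Ideal.mul_le]
    intro x hx j hj
    refine hmemK _ (Ideal.mul_mem_left _ _ hj) ?_
    rw [map_mul]
    exact mul_eq_zero_of_isSmallExt hμ.2.2.2 (OI.mem_maximalIdeal_of_mem w hx) (hwk j hj)
  have hgen : ∀ j ∈ (T.J n).J, ∃ p, j - p * a₀ ∈ K.J := by
    intro j hj
    obtain ⟨p, hp⟩ := exists_eq_mul_of_isSmallExt' hμ w (hwk a₀ ha₀) ha₀' (hwk j hj)
    refine ⟨p, hmemK _ ((T.J n).J.sub_mem hj ((T.J n).J.mul_mem_left _ ha₀)) ?_⟩
    rw [map_sub, map_mul, hp, sub_self]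
  have hsmall : IsSmallExt (OI.trans hKn) :=
    isSmallExt_trans hKn a₀ ha₀ (fun h => ha₀' (hKw _ h)) hgen hmax
  -- the fibre product square
  have hsq : IsFibreProd (OI.trans hKn) (K.desc w hKw) ((T.J n).desc (T.rs φ) hn) μ := by
    refine ⟨?_, ?_, ?_⟩
    · apply OI.hom_ext
      rw [OI.homSet_map_comp, OI.map_trans_hom, OI.map_desc_hom, OI.homSet_map_comp, OI.map_desc_hom, hw]
    · intro b₁ b₂ e₁ e₂
      obtain ⟨a, rfl⟩ := K.hom_surjective b₁
      obtain ⟨b, rfl⟩ := K.hom_surjective b₂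
      have e₁' : (T.J n).hom.1 a = (T.J n).hom.1 b := e₁
      have e₂' : w.1 a = w.1 b := e₂
      rw [OI.hom_eq_iff] at e₁' ⊢
      exact hmemK _ e₁' (by rw [map_sub, e₂', sub_self])
    · intro a' b hb
      obtain ⟨a, rfl⟩ := (T.J n).hom_surjective a'
      have hb' : (T.rs φ).1 a = μ b := hb
      have h2 : μ (b - w.1 a) = 0 := by
        rw [map_sub, ← hb', hwφ, sub_self]
      obtain ⟨p, hp⟩ := exists_eq_mul_of_isSmallExt' hμ w (hwk a₀ ha₀) ha₀' h2
      refine ⟨K.hom.1 (a + p * a₀), ?_, ?_⟩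
      · change (T.J n).hom.1 (a + p * a₀) = (T.J n).hom.1 a
        rw [OI.hom_eq_iff, add_sub_cancel_left]
        exact (T.J n).J.mul_mem_left _ ha₀
      · change w.1 (a + p * a₀) = b
        rw [map_add, map_mul, ← hp, add_sub_cancel]
  -- the element lifts over `P/K`
  obtain ⟨z, hz⟩ := hF _ _ _ _ hsq hμ ⟨(T.elt n, y), by rw [hy, T.family_app φ n hn]⟩
  have hz1 : F.map (OI.trans hKn) z = T.elt n := congrArg (fun t => t.1.1) hz
  refine key (n + 1) ?_
  by_contra h3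
  push Not at h3
  obtain ⟨a₁, ha₁, ha₁'⟩ := h3
  have ha₁n : a₁ ∈ (T.J n).J := T.anti n ha₁
  have hsup : (T.J n).J ≤ (T.J (n + 1)).J ⊔ K.J := by
    intro j hj
    obtain ⟨p, hp⟩ := exists_eq_mul_of_isSmallExt' hμ w (hwk a₁ ha₁n) ha₁' (hwk j hj)
    refine Submodule.mem_sup.2 ⟨p * a₁, (T.J (n + 1)).J.mul_mem_left _ ha₁, j - p * a₁, ?_, by ring⟩
    refine hmemK _ ((T.J n).J.sub_mem hj ((T.J n).J.mul_mem_left _ ha₁n)) ?_
    rw [map_sub, map_mul, hp, sub_self]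
  have hsq2 := OI.isFibreProd_inf (T.anti n) hKn hsup
  obtain ⟨z', hz'⟩ := hF _ _ _ _ hsq2 hsmall ⟨(T.elt (n + 1), z), by rw [T.compat, hz1]⟩
  have hz'1 : F.map (OI.trans (OI.inf_le_l (T.J (n + 1)) K)) z' = T.elt (n + 1) := congrArg (fun t => t.1.1) hz'
  have h4 := hst.minimal ((T.J (n + 1)).inf K) ((OI.inf_le_l (T.J (n + 1)) K).trans (T.anti n))
    (le_inf hst.mul_le hmax) (OI.inf_le_l _ _) ⟨z', by
      rw [← OI.trans_comp (T.anti n) (OI.inf_le_l (T.J (n + 1)) K), ← map_map, hz'1, T.compat]⟩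
  exact ha₁' (hKw a₁ (OI.inf_le_r _ _ (h4 ha₁)))

end K680.TowLift
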