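import Groth.Prelude.Def_ArtFun5
import Groth.Agent.LoccohA.Chevalley
import Mathlib.RingTheory.AdicCompletion.Exactness
import Mathlib.RingTheory.AdicCompletion.AsTensorProduct
import Mathlib.RingTheory.AdicCompletion.Noetherian

/-! Open ideals of a coefficient ring, the quotients by them as objects of `Art Λ k`, and quotients of
coefficient rings. -/

set_option autoImplicit false
universe u v
open CategoryTheory

namespace K680.Opn

open ArtFun ArtFun.Art IsLocalRing

variable {Λ : Type u} {k : Type u} [CommRing Λ] [Field k] [Algebra Λ k]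

instance (P : CRing Λ k) : IsAdicComplete (maximalIdeal P.carrier) P.carrier := P.isAdicComplete

lemma isAdicComplete_of_surjective {P S : Type*} [CommRing P] [IsNoetherianRing P] [IsLocalRing P]
    [IsAdicComplete (maximalIdeal P) P] [CommRing S] [IsLocalRing S] (f : P →+* S)
    (hf : Function.Surjective f) : IsAdicComplete (maximalIdeal S) S := by
  algebraize [f]
  have hfin : Module.Finite P S := Module.Finite.of_surjective (Algebra.linearMap P S) hf
  have h1 : IsAdicComplete (maximalIdeal P) S := by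
    rw [← AdicCompletion.of_bijective_iff]
    constructor
    · exact AdicCompletion.of_injective_iff.mpr inferInstance
    · have hs : Function.Surjective (AdicCompletion.map (maximalIdeal P) (Algebra.linearMap P S)) :=
        AdicCompletion.map_surjective _ hf
      intro y
      obtain ⟨x, rfl⟩ := hs y
      obtain ⟨z, rfl⟩ := (AdicCompletion.of_bijective (maximalIdeal P) P).2 x
      refine ⟨Algebra.linearMap P S z, ?_⟩
      rw [AdicCompletion.map_of]
  have h2 : (maximalIdeal P).map (algebraMap P S) = maximalIdeal S :=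
    IsLocalRing.map_maximalIdeal_of_surjective _ hf
  rw [← h2, IsAdicComplete.map_algebraMap_iff]
  exact h1

/-- An ideal of `P` inside the maximal ideal which contains a power of it. -/
structure OI (P : CRing Λ k) where
  /-- the ideal -/
  J : Ideal P.carrier
  le : J ≤ maximalIdeal P.carrier
  opn : ∃ N, maximalIdeal P.carrier ^ N ≤ J

namespace OI

variable {P : CRing Λ k}

@[ext] lemma ext' {J K : OI P} (h : J.J = K.J) : J = K := by
  cases J; cases K; congr

lemma ne_top (J : OI P) : J.J ≠ ⊤ :=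
  fun h => (maximalIdeal.isMaximal P.carrier).ne_top (top_le_iff.1 (h ▸ J.le))

instance (J : OI P) : Nontrivial (P.carrier ⧸ J.J) := Ideal.Quotient.nontrivial_iff.2 J.ne_top

instance (J : OI P) : IsLocalRing (P.carrier ⧸ J.J) :=
  IsLocalRing.of_surjective' (Ideal.Quotient.mk J.J) Ideal.Quotient.mk_surjective

instance (J : OI P) : IsArtinianRing (P.carrier ⧸ J.J) := by
  rw [isArtinianRing_iff_isNilpotent_maximalIdeal]
  obtain ⟨N, hN⟩ := J.opn
  refine ⟨N, ?_⟩
  rw [Ideal.zero_eq_bot, ← IsLocalRing.map_maximalIdeal_of_surjective _ (Ideal.Quotient.mk_surjective (I := J.J)),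
    ← Ideal.map_pow, ← le_bot_iff, ← Ideal.map_quotient_self J.J]
  exact Ideal.map_mono hN

/-- The quotient by an open ideal, as an object. -/
noncomputable def art (J : OI P) : Art Λ k :=
  { carrier := P.carrier ⧸ J.J
    res := Ideal.Quotient.liftₐ J.J P.res (fun a ha => (CRing.mem_maximalIdeal_iff P a).1 (J.le ha))
    res_surjective := fun c => by
      obtain ⟨a, ha⟩ := P.res_surjective c
      exact ⟨Ideal.Quotient.mk _ a, ha⟩ }

/-- The projection. -/
noncomputable def hom (J : OI P) : HomSet P.carrier P.res J.art :=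
  ⟨Ideal.Quotient.mkₐ Λ J.J, Ideal.Quotient.liftₐ_comp _ _ _⟩

lemma hom_surjective (J : OI P) : Function.Surjective J.hom.1 := Ideal.Quotient.mk_surjective

lemma hom_eq_zero_iff (J : OI P) (a : P.carrier) : J.hom.1 a = 0 ↔ a ∈ J.J :=
  Ideal.Quotient.eq_zero_iff_mem

lemma hom_eq_iff (J : OI P) (a b : P.carrier) : J.hom.1 a = J.hom.1 b ↔ a - b ∈ J.J :=
  Ideal.Quotient.eq

/-- Factorisation of a map killing the ideal. -/
noncomputable def desc (J : OI P) {A : Art Λ k} (φ : HomSet P.carrier P.res A) (h : ∀ a ∈ J.J, φ.1 a = 0) :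
    J.art ⟶ A :=
  ⟨Ideal.Quotient.liftₐ J.J φ.1 h, by
    apply AlgHom.ext
    intro x
    obtain ⟨a, rfl⟩ := Ideal.Quotient.mk_surjective x
    exact congrArg (fun f => f a) φ.2⟩

@[simp] lemma map_desc_hom (J : OI P) {A : Art Λ k} (φ : HomSet P.carrier P.res A) (h : ∀ a ∈ J.J, φ.1 a = 0) :
    HomSet.map (J.desc φ h) J.hom = φ := Subtype.ext (AlgHom.ext fun _ => rfl)

lemma desc_hom_apply (J : OI P) {A : Art Λ k} (φ : HomSet P.carrier P.res A) (h : ∀ a ∈ J.J, φ.1 a = 0)
    (a : P.carrier) : J.desc φ h (J.hom.1 a) = φ.1 a := rfl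

lemma hom_ext {J : OI P} {A : Art Λ k} {f g : J.art ⟶ A} (h : HomSet.map f J.hom = HomSet.map g J.hom) : f = g := by
  apply Art.hom_ext
  apply AlgHom.ext
  intro x
  obtain ⟨a, rfl⟩ := J.hom_surjective x
  exact congrArg (fun f => f.1 a) h

/-- The transition map between quotients. -/
noncomputable def trans {J K : OI P} (h : K.J ≤ J.J) : K.art ⟶ J.art :=
  K.desc J.hom fun _ ha => (J.hom_eq_zero_iff _).2 (h ha)

@[simp] lemma map_trans_hom {J K : OI P} (h : K.J ≤ J.J) : HomSet.map (trans h) K.hom = J.hom :=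
  map_desc_hom _ _ _

lemma trans_surjective {J K : OI P} (h : K.J ≤ J.J) : Function.Surjective (trans h) := by
  intro x
  obtain ⟨a, rfl⟩ := J.hom_surjective x
  exact ⟨K.hom.1 a, rfl⟩

lemma homSet_map_comp {R : Type u} [CommRing R] [Algebra Λ R] {resR : R →ₐ[Λ] k} {A B C : Art Λ k}
    (f : A ⟶ B) (g : B ⟶ C) (φ : HomSet R resR A) : HomSet.map (f ≫ g) φ = HomSet.map g (HomSet.map f φ) :=
  Subtype.ext (AlgHom.ext fun _ => rfl)

lemma trans_comp {J K L : OI P} (h : K.J ≤ J.J) (h' : L.J ≤ K.J) : trans h' ≫ trans h = trans (h'.trans h) :=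
  hom_ext (by rw [homSet_map_comp, map_trans_hom, map_trans_hom, map_trans_hom])

lemma trans_desc {J K : OI P} (h : K.J ≤ J.J) {A : Art Λ k} (φ : HomSet P.carrier P.res A)
    (hφ : ∀ a ∈ J.J, φ.1 a = 0) : trans h ≫ J.desc φ hφ = K.desc φ fun a ha => hφ a (h ha) :=
  hom_ext (by rw [homSet_map_comp, map_trans_hom, map_desc_hom, map_desc_hom])

lemma desc_comp (J : OI P) {A B : Art Λ k} (φ : HomSet P.carrier P.res A)
    (hφ : ∀ a ∈ J.J, φ.1 a = 0) (f : A ⟶ B) :
    J.desc φ hφ ≫ f = J.desc (HomSet.map f φ) (fun a ha => by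
      change f.toAlgHom (φ.1 a) = 0
      rw [hφ a ha, map_zero]) :=
  hom_ext (by rw [homSet_map_comp, map_desc_hom, map_desc_hom])

lemma trans_self (J : OI P) (h : J.J ≤ J.J) : trans h = 𝟙 J.art :=
  hom_ext (by rw [map_trans_hom]; exact Subtype.ext (AlgHom.ext fun _ => rfl))

/-- A map from a coefficient ring to an Artinian object sends the maximal ideal into the maximal ideal. -/
lemma mem_maximalIdeal_of_mem {A : Art Λ k} (φ : HomSet P.carrier P.res A) {a : P.carrier}
    (ha : a ∈ maximalIdeal P.carrier) : φ.1 a ∈ maximalIdeal A := by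
  rw [Art.mem_maximalIdeal_iff]
  rw [CRing.mem_maximalIdeal_iff] at ha
  rw [← ha]
  exact congrArg (fun f => f a) φ.2

/-- The kernel of a map to an Artinian object is open. -/
noncomputable def ker {A : Art Λ k} (φ : HomSet P.carrier P.res A) : OI P where
  J := RingHom.ker φ.1.toRingHom
  le := fun a ha => by
    rw [CRing.mem_maximalIdeal_iff]
    have h1 : A.res (φ.1 a) = P.res a := congrArg (fun f => f a) φ.2
    have h2 : φ.1 a = 0 := ha
    rw [← h1, h2, map_zero]
  opn := by
    obtain ⟨N, hN⟩ := (isArtinianRing_iff_isNilpotent_maximalIdeal (R := A)).1 inferInstance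
    refine ⟨N, ?_⟩
    have h1 : (maximalIdeal P.carrier).map φ.1.toRingHom ≤ maximalIdeal A :=
      Ideal.map_le_iff_le_comap.2 fun a ha => mem_maximalIdeal_of_mem φ ha
    have h2 : (maximalIdeal P.carrier ^ N).map φ.1.toRingHom ≤ ⊥ := by
      rw [Ideal.map_pow]
      refine (Ideal.pow_right_mono h1 N).trans ?_
      rw [hN]
      exact le_rfl
    intro a ha
    have h3 := h2 (Ideal.mem_map_of_mem _ ha)
    exact h3

lemma mem_ker {A : Art Λ k} (φ : HomSet P.carrier P.res A) (a : P.carrier) : a ∈ (ker φ).J ↔ φ.1 a = 0 := Iff.rfl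

/-- Intersection. -/
noncomputable def inf (J K : OI P) : OI P where
  J := J.J ⊓ K.J
  le := inf_le_left.trans J.le
  opn := by
    obtain ⟨N, hN⟩ := J.opn
    obtain ⟨M, hM⟩ := K.opn
    exact ⟨N + M, le_inf ((Ideal.pow_le_pow_right (Nat.le_add_right _ _)).trans hN)
      ((Ideal.pow_le_pow_right (Nat.le_add_left _ _)).trans hM)⟩

lemma inf_J (J K : OI P) : (J.inf K).J = J.J ⊓ K.J := rfl

lemma inf_le_l (J K : OI P) : (J.inf K).J ≤ J.J := inf_le_left (a := J.J) (b := K.J)

lemma inf_le_r (J K : OI P) : (J.inf K).J ≤ K.J := inf_le_right (a := J.J) (b := K.J)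

/-- The product with the maximal ideal. -/
noncomputable def mulMax (J : OI P) : OI P where
  J := maximalIdeal P.carrier * J.J
  le := Ideal.mul_le_right.trans J.le
  opn := by
    obtain ⟨N, hN⟩ := J.opn
    refine ⟨N + 1, ?_⟩
    rw [pow_succ']
    exact Ideal.mul_mono le_rfl hN

/-- An ideal between `J` and `K` with `J` open. -/
def ofLe (J : OI P) (K : Ideal P.carrier) (h : J.J ≤ K) (h' : K ≤ maximalIdeal P.carrier) : OI P where
  J := K
  le := h'
  opn := by
    obtain ⟨N, hN⟩ := J.opn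
    exact ⟨N, hN.trans h⟩

/-- For `K, L ≤ J` with `J ≤ K ⊔ L`, the quotient by `K ⊓ L` is a fibre product. -/
lemma isFibreProd_inf {J K L : OI P} (hK : K.J ≤ J.J) (hL : L.J ≤ J.J) (h : J.J ≤ K.J ⊔ L.J) :
    IsFibreProd (trans (inf_le_l K L)) (trans (inf_le_r K L)) (trans hK) (trans hL) where
  w := by rw [trans_comp, trans_comp]
  inj b₁ b₂ h₁ h₂ := by
    obtain ⟨a, rfl⟩ := (K.inf L).hom_surjective b₁
    obtain ⟨b, rfl⟩ := (K.inf L).hom_surjective b₂
    have h₁' : K.hom.1 a = K.hom.1 b := h₁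
    have h₂' : L.hom.1 a = L.hom.1 b := h₂
    rw [hom_eq_iff] at h₁' h₂' ⊢
    exact ⟨h₁', h₂'⟩
  surj a' a'' hh := by
    obtain ⟨a, rfl⟩ := K.hom_surjective a'
    obtain ⟨b, rfl⟩ := L.hom_surjective a''
    have hh' : J.hom.1 a = J.hom.1 b := hh
    rw [hom_eq_iff] at hh'
    obtain ⟨x, hx, y, hy, hxy⟩ := Submodule.mem_sup.1 (h hh')
    refine ⟨(K.inf L).hom.1 (a - x), ?_, ?_⟩
    · change K.hom.1 (a - x) = K.hom.1 a
      rw [hom_eq_iff]
      have : a - x - a = -x := by ring
      rw [this]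
      exact K.J.neg_mem hx
    · change L.hom.1 (a - x) = L.hom.1 b
      rw [hom_eq_iff]
      have : a - x - b = y := by rw [sub_right_comm, ← hxy]; ring
      rw [this]
      exact hy

end OI

/-- The quotient of a coefficient ring by an ideal inside the maximal ideal. -/
noncomputable def quotCRing (P : CRing Λ k) (I : Ideal P.carrier) (hI : I ≤ maximalIdeal P.carrier) : CRing Λ k :=
  haveI : Nontrivial (P.carrier ⧸ I) :=
    Ideal.Quotient.nontrivial_iff.2 fun h => (maximalIdeal.isMaximal P.carrier).ne_top (top_le_iff.1 (h ▸ hI))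
  haveI : IsLocalRing (P.carrier ⧸ I) :=
    IsLocalRing.of_surjective' (Ideal.Quotient.mk I) Ideal.Quotient.mk_surjective
  { carrier := P.carrier ⧸ I
    res := Ideal.Quotient.liftₐ I P.res (fun a ha => (CRing.mem_maximalIdeal_iff P a).1 (hI ha))
    res_surjective := fun c => by
      obtain ⟨a, ha⟩ := P.res_surjective c
      exact ⟨Ideal.Quotient.mk _ a, ha⟩
    isAdicComplete := isAdicComplete_of_surjective (Ideal.Quotient.mk I) Ideal.Quotient.mk_surjective }

/-- The projection to the quotient. -/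
noncomputable def quotProj (P : CRing Λ k) (I : Ideal P.carrier) (hI : I ≤ maximalIdeal P.carrier) :
    P.carrier →ₐ[Λ] (quotCRing P I hI).carrier := Ideal.Quotient.mkₐ Λ I

lemma quotProj_surjective (P : CRing Λ k) (I : Ideal P.carrier) (hI : I ≤ maximalIdeal P.carrier) :
    Function.Surjective (quotProj P I hI) := Ideal.Quotient.mk_surjective

lemma res_comp_quotProj (P : CRing Λ k) (I : Ideal P.carrier) (hI : I ≤ maximalIdeal P.carrier) :
    (quotCRing P I hI).res.comp (quotProj P I hI) = P.res := Ideal.Quotient.liftₐ_comp _ _ _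

lemma quotProj_eq_zero_iff (P : CRing Λ k) (I : Ideal P.carrier) (hI : I ≤ maximalIdeal P.carrier) (a : P.carrier) :
    quotProj P I hI a = 0 ↔ a ∈ I := Ideal.Quotient.eq_zero_iff_mem

/-- Maps out of the quotient. -/
noncomputable def quotDesc (P : CRing Λ k) (I : Ideal P.carrier) (hI : I ≤ maximalIdeal P.carrier) {A : Art Λ k}
    (φ : HomSet P.carrier P.res A) (h : ∀ a ∈ I, φ.1 a = 0) :
    HomSet (quotCRing P I hI).carrier (quotCRing P I hI).res A :=
  ⟨Ideal.Quotient.liftₐ I φ.1 h, by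
    apply AlgHom.ext
    intro x
    obtain ⟨a, rfl⟩ := Ideal.Quotient.mk_surjective x
    exact congrArg (fun f => f a) φ.2⟩

/-- Restriction of maps along an augmentation-compatible algebra map. -/
def restr {R S : Type u} [CommRing R] [Algebra Λ R] {resR : R →ₐ[Λ] k} [CommRing S] [Algebra Λ S]
    {resS : S →ₐ[Λ] k} (g : R →ₐ[Λ] S) (hg : resS.comp g = resR) {A : Art Λ k} (φ : HomSet S resS A) :
    HomSet R resR A := ⟨φ.1.comp g, by rw [← AlgHom.comp_assoc, φ.2, hg]⟩

lemma restr_quotDesc (P : CRing Λ k) (I : Ideal P.carrier) (hI : I ≤ maximalIdeal P.carrier) {A : Art Λ k}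
    (φ : HomSet P.carrier P.res A) (h : ∀ a ∈ I, φ.1 a = 0) :
    restr (quotProj P I hI) (res_comp_quotProj P I hI) (quotDesc P I hI φ h) = φ :=
  Subtype.ext (AlgHom.ext fun _ => rfl)

lemma restr_injective {R S : Type u} [CommRing R] [Algebra Λ R] {resR : R →ₐ[Λ] k} [CommRing S] [Algebra Λ S]
    {resS : S →ₐ[Λ] k} (g : R →ₐ[Λ] S) (hg : resS.comp g = resR) (hs : Function.Surjective g) {A : Art Λ k} :
    Function.Injective (restr g hg : HomSet S resS A → HomSet R resR A) := by
  intro φ ψ h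
  refine Subtype.ext (AlgHom.ext fun x => ?_)
  obtain ⟨a, rfl⟩ := hs x
  exact congrArg (fun f => f.1 a) h

lemma restr_map {R S : Type u} [CommRing R] [Algebra Λ R] {resR : R →ₐ[Λ] k} [CommRing S] [Algebra Λ S]
    {resS : S →ₐ[Λ] k} (g : R →ₐ[Λ] S) (hg : resS.comp g = resR) {A B : Art Λ k} (f : A ⟶ B)
    (φ : HomSet S resS A) : restr g hg (HomSet.map f φ) = HomSet.map f (restr g hg φ) :=
  Subtype.ext (AlgHom.ext fun _ => rfl)

/-- Chevalley: a decreasing sequence of open ideals with a given intersection `I`; a map to an Artinian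
object which kills `I` kills some member of the sequence. -/
lemma exists_le_ker {P : CRing Λ k} (J : ℕ → OI P) (hJ : ∀ n, (J (n + 1)).J ≤ (J n).J)
    {A : Art Λ k} (φ : HomSet P.carrier P.res A) (h : ∀ a ∈ (⨅ n, (J n).J), φ.1 a = 0) :
    ∃ n, ∀ a ∈ (J n).J, φ.1 a = 0 := by
  obtain ⟨N, hN⟩ := (OI.ker φ).opn
  obtain ⟨n, hn⟩ := Groth.Agent.LoccohA.Chevalley.exists_le_iInf_sup_pow_smul
    (M := P.carrier) (fun n => (J n).J) (antitone_nat_of_succ_le hJ) N
  refine ⟨n, fun a ha => ?_⟩
  obtain ⟨x, hx, y, hy, rfl⟩ := Submodule.mem_sup.1 (hn ha)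
  rw [smul_eq_mul, Ideal.mul_top] at hy
  rw [map_add, h x hx, zero_add]
  exact hN hy

end K680.Opn
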