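import Groth.Agent.Deform.K680.Start
import Mathlib.LinearAlgebra.FreeModule.Finite.Basic

/-! Schlessinger's theorem: existence of a hull, and prorepresentability (for `Λ → k` surjective). -/

set_option autoImplicit false
universe u v
open CategoryTheory

namespace K680.Hull

open ArtFun ArtFun.Art IsLocalRing K680.Opn K680.Tow K680.Start K680.Versal K565.ArtTools

variable {Λ : Type u} {k : Type u} [CommRing Λ] [Field k] [Algebra Λ k]

/-- The power series ring in `n` variables, characterised by its maps to Artinian objects. -/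
theorem exists_powerSeries [IsNoetherianRing Λ] (hk : Function.Surjective (algebraMap Λ k)) (n : ℕ) :
    ∃ (P : CRing Λ k) (t : Fin n → P.carrier), IsSmoothFunctor (hR P.carrier P.res) ∧
      (∀ i, P.res (t i) = 0) ∧
      (∀ (A : Art Λ k) (φ ψ : HomSet P.carrier P.res A), (∀ i, φ.1 (t i) = ψ.1 (t i)) → φ = ψ) ∧
      (∀ (A : Art Λ k) (a : Fin n → A), (∀ i, A.res (a i) = 0) →
        ∃ φ : HomSet P.carrier P.res A, ∀ i, φ.1 (t i) = a i) := by
  let T := MvPolynomial (ULift.{u} (Fin n)) Λ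
  let ρ : T →ₐ[Λ] k := MvPolynomial.aeval (fun _ => 0)
  have hρ : Function.Surjective ρ := fun c => by
    obtain ⟨l, hl⟩ := hk c
    exact ⟨algebraMap Λ T l, by rw [AlgHom.commutes, hl]⟩
  have hfg : (RingHom.ker ρ).FG := IsNoetherian.noetherian _
  let P := K725.Completion.cpl ρ hρ hfg
  let t : Fin n → P.carrier := fun i => K725.Completion.toCpl ρ hρ hfg (MvPolynomial.X ⟨i⟩)
  refine ⟨P, t, K725.SmoothRing.isSmoothFunctor_cpl ρ hρ hfg, fun i => ?_, fun A φ ψ h => ?_, fun A a ha => ?_⟩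
  · have h1 := congrArg (fun f => f (MvPolynomial.X ⟨i⟩)) (K725.Completion.res_comp_toCpl ρ hρ hfg)
    refine Eq.trans h1 ?_
    exact MvPolynomial.aeval_X _ _
  · apply (K725.Completion.bijective_restrict_art ρ hρ hfg A).1
    refine Subtype.ext (MvPolynomial.algHom_ext fun i => ?_)
    exact h i.down
  · let φ₀ : T →ₐ[Λ] A := MvPolynomial.aeval fun i => a i.down
    have hφ₀ : A.res.comp φ₀ = ρ := by
      refine MvPolynomial.algHom_ext fun i => ?_
      change A.res (φ₀ (MvPolynomial.X i)) = ρ (MvPolynomial.X i)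
      rw [MvPolynomial.aeval_X, MvPolynomial.aeval_X, ha]
    obtain ⟨φ, hφ⟩ := (K725.Completion.bijective_restrict_art ρ hρ hfg A).2 ⟨φ₀, hφ₀⟩
    refine ⟨φ, fun i => ?_⟩
    have h1 := congrArg (fun f => f.1 (MvPolynomial.X ⟨i⟩)) hφ
    refine Eq.trans h1 ?_
    exact MvPolynomial.aeval_X _ _

lemma aux {P : CRing Λ k} {F : Art Λ k ⥤ Type v} {J J' : OI P} (h : J = J') (x : F.obj J.art)
    (x' : F.obj J'.art) (hx : h ▸ x = x') {A : Art Λ k} (φ : HomSet P.carrier P.res A)
    (h₁ : ∀ a ∈ J.J, φ.1 a = 0) (h₂ : ∀ a ∈ J'.J, φ.1 a = 0) :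
    F.map (J.desc φ h₁) x = F.map (J'.desc φ h₂) x' := by
  subst h
  subst hx
  rfl

/-- **Schlessinger's theorem**: `H₀, H̄, H_ε, H_f` give a hull (`Λ` Noetherian, `Λ → k` surjective). -/
theorem exists_miniversal [IsNoetherianRing Λ] (hk : Function.Surjective (algebraMap Λ k))
    (F : Art Λ k ⥤ Type v) [TangentStr F] (h0 : H0 F) (h1 : Hbar F) (h2 : Heps F) (h3 : Hfin F) :
    ∃ (R : CRing Λ k) (ξ : Family R.carrier R.res F), IsMiniversal ξ := by
  classical
  have : Module.Finite k (TangentSpace F) := h3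
  obtain ⟨n, ⟨b⟩⟩ : ∃ n, Nonempty (Module.Basis (Fin n) k (TangentSpace F)) := ⟨_, ⟨Module.finBasis k _⟩⟩
  obtain ⟨P, t, hP, ht, hinj, hex⟩ := exists_powerSeries hk n
  obtain ⟨η, hη⟩ := exists_elt h0 h2 n b
  obtain ⟨π₀, hπ₀⟩ := hex (E Λ k n) (fun i => TrivSqZeroExt.inr (Pi.single i 1)) (fun i => rfl)
  have hπs : Function.Surjective π₀.1 := by
    intro a
    obtain ⟨l, hl⟩ := hk (TrivSqZeroExt.fst a)
    choose m hm using fun i => hk (TrivSqZeroExt.snd a i)
    refine ⟨algebraMap Λ _ l + ∑ i, algebraMap Λ _ (m i) * t i, ?_⟩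
    rw [map_add, AlgHom.commutes, map_sum]
    have e1 : ∀ i, π₀.1 (algebraMap Λ _ (m i) * t i) =
        (TrivSqZeroExt.inr (Pi.single i (TrivSqZeroExt.snd a i)) : TrivSqZeroExt k (Fin n → k)) := by
      intro i
      rw [map_mul, AlgHom.commutes, hπ₀]
      refine TrivSqZeroExt.ext ?_ ?_
      · change (algebraMap Λ k (m i)) * 0 = 0
        rw [mul_zero]
      · change (algebraMap Λ k (m i)) • (Pi.single i 1 : Fin n → k) + (MulOpposite.op (0 : k)) • _ = Pi.single i _
        rw [hm, MulOpposite.op_zero, zero_smul, add_zero, ← Pi.single_smul, smul_eq_mul, mul_one]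
    rw [Finset.sum_congr rfl fun i _ => e1 i]
    refine TrivSqZeroExt.ext ?_ ?_
    · refine Eq.trans (TrivSqZeroExt.fst_add _ _) ?_
      have e2 : TrivSqZeroExt.fst (∑ i, (TrivSqZeroExt.inr (Pi.single i (TrivSqZeroExt.snd a i)) :
          TrivSqZeroExt k (Fin n → k))) = 0 := by
        rw [TrivSqZeroExt.fst_sum]
        exact Finset.sum_eq_zero fun i _ => rfl
      refine Eq.trans (congrArg₂ (· + ·) hl e2) (add_zero _)
    · refine Eq.trans (TrivSqZeroExt.snd_add _ _) ?_
      have e2 : TrivSqZeroExt.snd (∑ i, (TrivSqZeroExt.inr (Pi.single i (TrivSqZeroExt.snd a i)) :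
          TrivSqZeroExt k (Fin n → k))) = TrivSqZeroExt.snd a := by
        rw [TrivSqZeroExt.snd_sum]
        refine Eq.trans ?_ (Finset.univ_sum_single (TrivSqZeroExt.snd a))
        exact Finset.sum_congr rfl fun i _ => rfl
      have e3 : TrivSqZeroExt.snd (algebraMap Λ (TrivSqZeroExt k (Fin n → k)) l) = 0 := by
        rw [TrivSqZeroExt.algebraMap_eq_inl', TrivSqZeroExt.snd_inl]
      exact Eq.trans (congrArg₂ (· + ·) e3 e2) (zero_add _)
  let J₀ : OI P := OI.ker π₀
  have hJ₀ : ∀ a ∈ J₀.J, π₀.1 a = 0 := fun a ha => ha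
  let d : J₀.art ⟶ E Λ k n := J₀.desc π₀ hJ₀
  have hd : Function.Bijective d := by
    constructor
    · intro x y hxy
      obtain ⟨a, rfl⟩ := J₀.hom_surjective x
      obtain ⟨c, rfl⟩ := J₀.hom_surjective y
      have h4 : π₀.1 a = π₀.1 c := hxy
      rw [OI.hom_eq_iff]
      change π₀.1 (a - c) = 0
      rw [map_sub, h4, sub_self]
    · intro y
      obtain ⟨a, rfl⟩ := hπs y
      exact ⟨J₀.hom.1 a, rfl⟩
  have : IsIso d := isIso_of_bijective d hd
  obtain ⟨T, hT0, hT0', hT⟩ := exists_tower F J₀ (F.map (inv d) η)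
  let co : HomSet P.carrier P.res (dual Λ k) → Fin n → k := fun φ i => TrivSqZeroExt.snd (φ.1 (t i))
  let ℓ : (Fin n → k) → ((Fin n → k) →ₗ[k] k) := fun c => (Pi.basisFun k (Fin n)).constr k c
  have hℓ : ∀ c i, ℓ c (Pi.single i 1) = c i := fun c i => by
    have h4 := (Pi.basisFun k (Fin n)).constr_basis k c i
    rwa [Pi.basisFun_apply] at h4
  -- maps `P → k[ε]` factor through `k ⊕ kⁿ`
  have hfac : ∀ φ : HomSet P.carrier P.res (dual Λ k), φ = HomSet.map (toDual (ℓ (co φ))) π₀ := by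
    intro φ
    apply hinj
    intro i
    change φ.1 (t i) = (toDual (ℓ (co φ))) (π₀.1 (t i))
    rw [hπ₀]
    refine TrivSqZeroExt.ext ?_ ?_
    · exact (homSet_res φ (t i)).trans (ht i)
    · exact (hℓ (co φ) i).symm
  have hco : ∀ c, co (HomSet.map (toDual (ℓ c)) π₀) = c := by
    intro c
    funext i
    change TrivSqZeroExt.snd ((toDual (ℓ c)) (π₀.1 (t i))) = c i
    rw [hπ₀]
    exact hℓ c i
  have hkill : ∀ φ : HomSet P.carrier P.res (dual Λ k), ∀ a ∈ J₀.J, φ.1 a = 0 := by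
    intro φ a ha
    rw [hfac φ]
    change (toDual (ℓ (co φ))).toAlgHom (π₀.1 a) = 0
    rw [hJ₀ a ha, map_zero]
  have hkill' : ∀ φ : HomSet P.carrier P.res (dual Λ k), ∀ a ∈ (T.J 0).J, φ.1 a = 0 := by
    intro φ a ha
    rw [hT0] at ha
    exact hkill φ a ha
  -- the tangent map
  have htan : ∀ φ : HomSet T.ring.carrier T.ring.res (dual Λ k),
      TangentSpace.mk (T.family.app (dual Λ k) φ) = ∑ i, co (T.rs φ) i • b i := by
    intro φ
    rw [T.family_app φ 0 (hkill' _), aux hT0 _ _ hT0' (T.rs φ) (hkill' _) (hkill _), map_map]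
    have e1 : (inv d ≫ J₀.desc (T.rs φ) (hkill _)) = toDual (ℓ (co (T.rs φ))) := by
      rw [IsIso.inv_comp_eq]
      apply OI.hom_ext
      rw [OI.map_desc_hom, OI.homSet_map_comp, OI.map_desc_hom]
      exact hfac _
    rw [e1, hη]
    exact Finset.sum_congr rfl fun i _ => by rw [hℓ]
  have hbij : Function.Bijective (T.family.app (dual Λ k)) := by
    constructor
    · intro φ ψ h
      have h4 : ∑ i, co (T.rs φ) i • b i = ∑ i, co (T.rs ψ) i • b i := by
        rw [← htan, ← htan, h]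
      have h5 : co (T.rs φ) = co (T.rs ψ) := by
        funext i
        have h6 := congrArg (fun x => b.repr x i) h4
        simpa only [map_sum, map_smul, Module.Basis.repr_self, Finsupp.coe_finsetSum, Finset.sum_apply,
          Finsupp.smul_single, Finsupp.single_apply, smul_eq_mul, mul_one, Finset.sum_ite_eq', Finset.mem_univ,
          if_true] using h6
      apply T.rs_injective
      rw [hfac (T.rs φ), hfac (T.rs ψ), h5]
    · intro y
      obtain ⟨φ, hφ⟩ := T.exists_rs_eq (HomSet.map (toDual (ℓ fun i => b.repr (TangentSpace.mk y) i)) π₀) 0 (hkill' _)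
      refine ⟨φ, ?_⟩
      have h4 := htan φ
      rw [hφ, hco] at h4
      exact h4.trans (b.sum_repr (TangentSpace.mk y))
  exact ⟨T.ring, T.family, isVersal_of_lift hk h1 h2 T.family hbij.2
    (fun B A μ hμ φ y hy => K680.TowLift.exists_lift hP h1 T hT μ hμ φ y hy), hbij⟩

/-- **Schlessinger's theorem**: prorepresentability. -/
theorem isProrepresentable_of [IsNoetherianRing Λ] (hk : Function.Surjective (algebraMap Λ k))
    (F : Art Λ k ⥤ Type v) [TangentStr F] (h0 : H0 F) (h1 : Hbar F) (h2 : Heps F) (h3 : Hfin F)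
    (h4 : HSq F) : IsProrepresentable F := by
  obtain ⟨R, ξ, hξ⟩ := exists_miniversal hk F h0 h1 h2 h3
  exact ⟨⟨R, ξ, fun A => ⟨injective_of_tangent hk (fun B A A' p₁ p₂ f h hf => (h4 p₁ p₂ f h hf).1) ξ hξ.2.1 A,
    surjective_of_isVersal h0 ξ hξ.1 A⟩⟩⟩

end K680.Hull
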