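import Groth.Agent.Deform.K680.LHChart

/-! The local Hilbert functor: every comparison map of a fibre-product square is bijective. -/

set_option autoImplicit false
set_option linter.style.haveILetI false
universe u
open CategoryTheory CategoryTheory.Limits AlgebraicGeometry ArtFun ArtFun.Art
open Groth.Agent.Sga7.H331.Sec K680.LHAlg K680.LHChart

namespace K680.LHFib

variable {k : Type u} [Field k] {Y : Scheme.{u}} (y : Y ⟶ specPt k)

instance isAffineHom_XAmap {A B : Art k k} (g : A ⟶ B) : IsAffineHom (XAmap y g) := by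
  haveI : IsAffineHom (specMap g) := isAffineHom_of_isAffine _
  exact MorphismProperty.of_isPullback (P := @IsAffineHom) (isPullback_XAmap y g).flip inferInstance

lemma ideal_map_map {A B : Art k k} (g : A ⟶ B) (I : (XA y B).IdealSheafData) (U : Y.affineOpens) :
    (I.map (XAmap y g)).ideal (V y A U) = (I.ideal (V y B U)).comap (rho y g U) := by
  have h1 := Scheme.IdealSheafData.ideal_map_of_isAffineHom I (XAmap y g) (V y A U)
  rw [h1]
  have h2 : (⟨XAmap y g ⁻¹ᵁ (V y A U).1, (V y A U).2.preimage (XAmap y g)⟩ : (XA y B).affineOpens) =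
      V y B U := Subtype.ext (V_eq y g U).symm
  have key : ∀ (W : (XA y B).affineOpens) (e : W.1 = XAmap y g ⁻¹ᵁ (V y A U).1),
      (I.ideal ⟨XAmap y g ⁻¹ᵁ (V y A U).1, (V y A U).2.preimage (XAmap y g)⟩).comap
        ((XAmap y g).app (V y A U).1).hom =
      (I.ideal W).comap ((XAmap y g).appLE (V y A U).1 W.1 e.le).hom := by
    rintro ⟨W, hW⟩ e
    change W = _ at e
    subst e
    rw [Scheme.Hom.app_eq_appLE]
  exact key _ (V_eq y g U)

lemma ext_V {A : Art k k} {I J : (XA y A).IdealSheafData}
    (h : ∀ U : Y.affineOpens, I.ideal (V y A U) = J.ideal (V y A U)) : I = J :=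
  Scheme.IdealSheafData.ext_of_iSup_eq_top (fun U : Y.affineOpens => V y A U)
    (iSup_V y A _ (iSup_affineOpens_eq_top Y)) h

theorem cmp_bijective {I₀ : Y.IdealSheafData} {B A A' A'' : Art k k} {p' : B ⟶ A'} {p'' : B ⟶ A''}
    {f' : A' ⟶ A} {f'' : A'' ⟶ A} (h : IsFibreProd p' p'' f' f'') :
    Function.Bijective (cmp (localHilb Y y I₀) h) := by
  have hbas : ∀ U : Y.affineOpens, ∃ (ι : Type u) (s : ι → Γ(Y, U.1)), IsBas (c₀ y U) (I₀.ideal U) s :=
    fun U => exists_isBas _ _
  choose ι s hs using hbas
  constructor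
  · intro K L hKL
    have h1 : K.1.comap (XAmap y p') = L.1.comap (XAmap y p') :=
      congrArg (fun x => (x.1.1).1) hKL
    have h2 : K.1.comap (XAmap y p'') = L.1.comap (XAmap y p'') :=
      congrArg (fun x => (x.1.2).1) hKL
    -- both are contained in the intersection of the preimages
    have key : ∀ (K : (localHilb Y y I₀).obj B) (J' : (localHilb Y y I₀).obj A')
        (J'' : (localHilb Y y I₀).obj A'') (J : (localHilb Y y I₀).obj A),
        K.1.comap (XAmap y p') = J'.1 → K.1.comap (XAmap y p'') = J''.1 →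
        J'.1.comap (XAmap y f') = J.1 → J''.1.comap (XAmap y f'') = J.1 → ∀ U : Y.affineOpens,
        K.1.ideal (V y B U) = (J'.1.ideal (V y A' U)).comap (rho y p' U) ⊓
          (J''.1.ideal (V y A'' U)).comap (rho y p'' U) := by
      intro K J' J'' J h1 h2 h3 h4 U
      have hJ' : IsBas (al y A' U) (J'.1.ideal (V y A' U)) (fun i => io y A' U (s U i)) := isBas y J' U (hs U)
      have hJ'' : IsBas (al y A'' U) (J''.1.ideal (V y A'' U)) (fun i => io y A'' U (s U i)) :=
        isBas y J'' U (hs U)
      have hJ : IsBas (al y A U) (J.1.ideal (V y A U)) (fun i => io y A U (s U i)) := isBas y J U (hs U)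
      have hK : IsBas (al y B U) (K.1.ideal (V y B U)) (fun i => io y B U (s U i)) := isBas y K U (hs U)
      have hio : ∀ {A B : Art k k} (g : A ⟶ B) (i : ι U),
          rho y g U (io y A U (s U i)) = io y B U (s U i) := fun g i =>
        RingHom.congr_fun (rho_comp_io y g U) _
      have hinf : IsBas (al y B U) ((J'.1.ideal (V y A' U)).comap (rho y p' U) ⊓
          (J''.1.ideal (V y A'' U)).comap (rho y p'' U)) (fun i => io y B U (s U i)) := by
        refine isBas_inf (p' := p'.toAlgHom.toRingHom) (p'' := p''.toAlgHom.toRingHom)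
          (f' := f'.toAlgHom.toRingHom) (f'' := f''.toAlgHom.toRingHom) (σ' := rho y f' U)
          (σ'' := rho y f'' U) h.surj ?_ (rho_comp_al y p' U) (rho_comp_al y p'' U) (rho_comp_al y f' U)
          (rho_comp_al y f'' U) ?_ (hio p') (hio p'') (hio f') (hio f'') hJ' hJ'' ?_ ?_ hJ
        · intro b hb' hb''
          exact h.inj b 0 (hb'.trans (map_zero _).symm) (hb''.trans (map_zero _).symm)
        · rw [rho_comp_rho, rho_comp_rho, h.w]
        · rw [← ideal_comap_map, h3]
        · rw [← ideal_comap_map, h4]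
      refine eq_of_isBas hK.span hinf.indep (le_inf ?_ ?_)
      · rw [← Ideal.map_le_iff_le_comap, ← ideal_comap_map, h1]
      · rw [← Ideal.map_le_iff_le_comap, ← ideal_comap_map, h2]
    refine Subtype.ext (ext_V y fun U => ?_)
    have e1 := key K ((localHilb Y y I₀).map p' K) ((localHilb Y y I₀).map p'' K)
      ((localHilb Y y I₀).map f' ((localHilb Y y I₀).map p' K)) rfl rfl rfl (by
        change (K.1.comap (XAmap y p'')).comap (XAmap y f'') = (K.1.comap (XAmap y p')).comap (XAmap y f')
        rw [← Scheme.IdealSheafData.comap_comp, ← Scheme.IdealSheafData.comap_comp, ← XAmap_comp,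
          ← XAmap_comp, h.w]) U
    have e2 := key L ((localHilb Y y I₀).map p' K) ((localHilb Y y I₀).map p'' K)
      ((localHilb Y y I₀).map f' ((localHilb Y y I₀).map p' K)) h1.symm h2.symm rfl (by
        change (K.1.comap (XAmap y p'')).comap (XAmap y f'') = (K.1.comap (XAmap y p')).comap (XAmap y f')
        rw [← Scheme.IdealSheafData.comap_comp, ← Scheme.IdealSheafData.comap_comp, ← XAmap_comp,
          ← XAmap_comp, h.w]) U
    rw [e1, e2]
  · rintro ⟨⟨J', J''⟩, hJJ⟩
    let J : (localHilb Y y I₀).obj A := (localHilb Y y I₀).map f' J'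
    have h3 : J'.1.comap (XAmap y f') = J.1 := rfl
    have h4 : J''.1.comap (XAmap y f'') = J.1 := (congrArg Subtype.val hJJ).symm
    let K : (XA y B).IdealSheafData := J'.1.map (XAmap y p') ⊓ J''.1.map (XAmap y p'')
    have hKU : ∀ U : Y.affineOpens, K.ideal (V y B U) = (J'.1.ideal (V y A' U)).comap (rho y p' U) ⊓
          (J''.1.ideal (V y A'' U)).comap (rho y p'' U) := by
      intro U
      change (J'.1.map (XAmap y p')).ideal (V y B U) ⊓ (J''.1.map (XAmap y p'')).ideal (V y B U) = _
      rw [ideal_map_map, ideal_map_map]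
    have hio : ∀ {A B : Art k k} (g : A ⟶ B) (U : Y.affineOpens) (i : ι U),
          rho y g U (io y A U (s U i)) = io y B U (s U i) := fun g U i =>
        RingHom.congr_fun (rho_comp_io y g U) _
    have hK : ∀ U : Y.affineOpens, IsBas (al y B U) (K.ideal (V y B U)) (fun i => io y B U (s U i)) := by
      intro U
      rw [hKU]
      refine isBas_inf (p' := p'.toAlgHom.toRingHom) (p'' := p''.toAlgHom.toRingHom)
        (f' := f'.toAlgHom.toRingHom) (f'' := f''.toAlgHom.toRingHom) (σ' := rho y f' U)
        (σ'' := rho y f'' U) h.surj ?_ (rho_comp_al y p' U) (rho_comp_al y p'' U) (rho_comp_al y f' U)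
        (rho_comp_al y f'' U) ?_ (hio p' U) (hio p'' U) (hio f' U) (hio f'' U) (isBas y J' U (hs U))
        (isBas y J'' U (hs U)) ?_ ?_ (isBas y J U (hs U))
      · intro b hb' hb''
        exact h.inj b 0 (hb'.trans (map_zero _).symm) (hb''.trans (map_zero _).symm)
      · rw [rho_comp_rho, rho_comp_rho, h.w]
      · rw [← ideal_comap_map, h3]
      · rw [← ideal_comap_map, h4]
    have hK' : K.comap (XAmap y p') = J'.1 := by
      refine ext_V y fun U => ?_
      rw [ideal_comap_map]
      refine eq_map_of_isBas (rho_comp_al y p' U) (gen_rho y p' U) (hio p' U) (hK U) (isBas y J' U (hs U)) ?_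
      rw [hKU, Ideal.map_le_iff_le_comap]
      exact inf_le_left
    have hK'' : K.comap (XAmap y p'') = J''.1 := by
      refine ext_V y fun U => ?_
      rw [ideal_comap_map]
      refine eq_map_of_isBas (rho_comp_al y p'' U) (gen_rho y p'' U) (hio p'' U) (hK U)
        (isBas y J'' U (hs U)) ?_
      rw [hKU, Ideal.map_le_iff_le_comap]
      exact inf_le_right
    have hflat : FlatOver Y y B K := by
      rw [flatOver_iff y B K (fun U : Y.affineOpens => U) (iSup_affineOpens_eq_top Y)]
      exact fun U => flat_of_isBas (hK U)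
    have hfib : K.comap (XAincl y B) = I₀ := by
      rw [← XAincl_XAmap y p', Scheme.IdealSheafData.comap_comp, hK']
      exact J'.2.2
    exact ⟨⟨K, hflat, hfib⟩, FibProd.ext (Subtype.ext hK') (Subtype.ext hK'')⟩

theorem isLeftExact (I₀ : Y.IdealSheafData) : IsLeftExact (localHilb Y y I₀) :=
  fun _ _ _ _ _ _ _ _ h => cmp_bijective y h

/-- Over the field, the only point is the closed subscheme itself. -/
theorem h0 (I₀ : Y.IdealSheafData) : ArtFun.H0 (localHilb Y y I₀) := by
  have hiso : IsIso (XAincl y (base k k)) := by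
    have hp := isPullback_XAincl (x := y) (base k k)
    exact MorphismProperty.of_isPullback (P := MorphismProperty.isomorphisms Scheme.{u}) hp.flip
      (inferInstanceAs (IsIso (specRes (base k k))))
  have hinv : ∀ I : (XA y (base k k)).IdealSheafData,
      (I.comap (XAincl y (base k k))).comap (inv (XAincl y (base k k))) = I := fun I => by
    rw [← Scheme.IdealSheafData.comap_comp, IsIso.inv_hom_id, Scheme.IdealSheafData.comap_id]
  constructor
  · refine ⟨⟨I₀.comap (inv (XAincl y (base k k))), ?_, ?_⟩⟩
    · rw [flatOver_iff y _ _ (fun U : Y.affineOpens => U) (iSup_affineOpens_eq_top Y)]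
      intro U
      letI : Field (base k k : Art k k) := inferInstanceAs (Field k)
      letI := ((Ideal.Quotient.mk ((I₀.comap (inv (XAincl y (base k k)))).ideal
        (V y (base k k) U))).comp (al y (base k k) U)).toAlgebra
      change Module.Flat (base k k : Art k k) _
      infer_instance
    · rw [← Scheme.IdealSheafData.comap_comp, IsIso.hom_inv_id, Scheme.IdealSheafData.comap_id]
  · refine ⟨fun I J => Subtype.ext ?_⟩
    rw [← hinv I.1, ← hinv J.1, I.2.2, J.2.2]

end K680.LHFib
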