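import Mathlib.RingTheory.Flat.EquationalCriterion
import Mathlib.RingTheory.Ideal.Maps
import Mathlib.RingTheory.Ideal.Operations

/-! Ring level: an endomorphism congruent to the identity modulo `J B` gives a derivation modulo `J' B`. -/

set_option autoImplicit false
universe u v w

namespace K680.AutAlg

variable {A : Type u} {B : Type v} [CommRing A] [CommRing B] [Algebra A B]

/-- If `B` is flat over `A` and `(J : t) ⊆ m` then `t b ∈ J B` implies `b ∈ m B`. -/
lemma mem_map_of_mul_mem [Module.Flat A B] {J m : Ideal A} {t : A} (hcol : ∀ a, t * a ∈ J → a ∈ m) {b : B}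
    (h : algebraMap A B t * b ∈ J.map (algebraMap A B)) : b ∈ m.map (algebraMap A B) := by
  obtain ⟨n, f, g, hfg⟩ := Submodule.mem_span_set'.1 h
  choose j hj hj' using fun i => (g i).2
  let F : Option (Fin n) → A := fun o => o.elim t (fun i => -j i)
  let Y : Option (Fin n) → B := fun o => o.elim b f
  have h1 : ∑ o, F o • Y o = 0 := by
    rw [Fintype.sum_option]
    change t • b + ∑ i, (-j i) • f i = 0
    rw [Algebra.smul_def, ← hfg, ← Finset.sum_add_distrib]
    refine Finset.sum_eq_zero fun i _ => ?_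
    rw [← hj', neg_smul, smul_eq_mul, Algebra.smul_def (j i), mul_comm, add_neg_cancel]
  obtain ⟨l, a, y, hy, ha⟩ := Module.Flat.isTrivialRelation_of_sum_smul_eq_zero h1
  have h2 : b = ∑ c, a none c • y c := hy none
  rw [h2]
  refine Submodule.sum_mem _ fun c _ => ?_
  rw [Algebra.smul_def]
  refine Ideal.mul_mem_right _ _ (Ideal.mem_map_of_mem _ (hcol _ ?_))
  have h3 := ha c
  rw [Fintype.sum_option] at h3
  have h4 : t * a none c = ∑ i, j i * a (some i) c := by
    have h5 : t * a none c + ∑ i, (-j i) * a (some i) c = 0 := h3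
    rw [eq_neg_of_add_eq_zero_left h5, ← Finset.sum_neg_distrib]
    exact Finset.sum_congr rfl fun i _ => by rw [neg_mul, neg_neg]
  rw [h4]
  exact Submodule.sum_mem _ fun i _ => Ideal.mul_mem_right _ _ (hj i)

section der

variable {R : Type w} [CommRing R] {κ : B →+* R} {m J J' : Ideal A} {t : A} (σ : B →+* B)

/-- The relation defining the derivation. -/
lemma exists_rel (hJ : J ≤ J' ⊔ Ideal.span {t}) (hσJ : ∀ b, σ b - b ∈ J.map (algebraMap A B)) (b : B) :
    ∃ b' : B, σ b - b - algebraMap A B t * b' ∈ J'.map (algebraMap A B) := by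
  have h1 := Ideal.map_mono (f := algebraMap A B) hJ (hσJ b)
  rw [Ideal.map_sup, Ideal.map_span, Set.image_singleton, Submodule.mem_sup] at h1
  obtain ⟨y, hy, z, hz, hyz⟩ := h1
  obtain ⟨c, hc⟩ := Ideal.mem_span_singleton'.1 hz
  refine ⟨c, ?_⟩
  rw [← hyz, ← hc, mul_comm c, add_sub_cancel_right]
  exact hy

lemma rel_unique [Module.Flat A B] (hκ : RingHom.ker κ = m.map (algebraMap A B))
    (hcol : ∀ a, t * a ∈ J' → a ∈ m) (hmJ : m * J ≤ J') (hσ : ∀ a, σ (algebraMap A B a) = algebraMap A B a)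
    (hσJ : ∀ b, σ b - b ∈ J.map (algebraMap A B))
    {b c b' c' : B} (hbc : κ b = κ c) (hb : σ b - b - algebraMap A B t * b' ∈ J'.map (algebraMap A B))
    (hc : σ c - c - algebraMap A B t * c' ∈ J'.map (algebraMap A B)) : κ b' = κ c' := by
  have h1 : b - c ∈ m.map (algebraMap A B) := by
    rw [← hκ, RingHom.mem_ker, map_sub, hbc, sub_self]
  have h2 : ∀ z ∈ m.map (algebraMap A B), σ z - z ∈ J'.map (algebraMap A B) := by
    intro z hz
    refine Submodule.span_induction ?_ ?_ ?_ ?_ hz
    · rintro _ ⟨a, _, rfl⟩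
      rw [hσ, sub_self]
      exact Ideal.zero_mem _
    · rw [map_zero, sub_zero]
      exact Ideal.zero_mem _
    · intro x y _ _ hx hy
      rw [map_add, add_sub_add_comm]
      exact Ideal.add_mem _ hx hy
    · intro r x hxs hx
      have e : σ (r • x) - r • x = σ r * (σ x - x) + (σ r - r) * x := by
        rw [smul_eq_mul, map_mul]
        ring
      rw [e]
      refine Ideal.add_mem _ (Ideal.mul_mem_left _ _ hx) ?_
      have h3 : (σ r - r) * x ∈ (m * J).map (algebraMap A B) := by
        rw [mul_comm (σ r - r) x, Ideal.map_mul]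
        exact Ideal.mul_mem_mul hxs (hσJ r)
      exact Ideal.map_mono hmJ h3
  have h4 : algebraMap A B t * (b' - c') ∈ J'.map (algebraMap A B) := by
    have e : algebraMap A B t * (b' - c') = (σ (b - c) - (b - c)) - (σ b - b - algebraMap A B t * b') +
        (σ c - c - algebraMap A B t * c') := by
      rw [map_sub]
      ring
    rw [e]
    exact Ideal.add_mem _ (Ideal.sub_mem _ (h2 _ h1) hb) hc
  have h5 := mem_map_of_mul_mem hcol h4
  rw [← hκ, RingHom.mem_ker, map_sub, sub_eq_zero] at h5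
  exact h5

/-- The derivation of an endomorphism congruent to the identity modulo `J B`, along `J = J' + (t)`. -/
theorem exists_der [Module.Flat A B] (hκs : Function.Surjective κ) (hκ : RingHom.ker κ = m.map (algebraMap A B))
    (hcol : ∀ a, t * a ∈ J' → a ∈ m) (hmJ : m * J ≤ J') (hJ : J ≤ J' ⊔ Ideal.span {t}) (hJm : J ≤ m)
    (hσ : ∀ a, σ (algebraMap A B a) = algebraMap A B a)
    (hσJ : ∀ b, σ b - b ∈ J.map (algebraMap A B)) :
    ∃ d : R →+ R, (∀ b b', σ b - b - algebraMap A B t * b' ∈ J'.map (algebraMap A B) → d (κ b) = κ b') ∧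
      (∀ x y, d (x * y) = x * d y + y * d x) ∧ (∀ a, d (κ (algebraMap A B a)) = 0) := by
  have hex : ∀ x : R, ∃ y : R, ∀ b b' : B, κ b = x →
      σ b - b - algebraMap A B t * b' ∈ J'.map (algebraMap A B) → y = κ b' := by
    intro x
    obtain ⟨c, rfl⟩ := hκs x
    obtain ⟨c', hc'⟩ := exists_rel σ hJ hσJ c
    exact ⟨κ c', fun b b' hb hb' => rel_unique σ hκ hcol hmJ hσ hσJ hb.symm hc' hb'⟩
  choose d hd using hex
  have hrel : ∀ b, ∃ b', σ b - b - algebraMap A B t * b' ∈ J'.map (algebraMap A B) := exists_rel σ hJ hσJ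
  have hκσ : ∀ b, κ (σ b) = κ b := by
    intro b
    have h1 : σ b - b ∈ m.map (algebraMap A B) := Ideal.map_mono hJm (hσJ b)
    rwa [← hκ, RingHom.mem_ker, map_sub, sub_eq_zero] at h1
  refine ⟨AddMonoidHom.mk' d ?_, ?_, ?_, ?_⟩
  · intro x y
    obtain ⟨b, rfl⟩ := hκs x
    obtain ⟨c, rfl⟩ := hκs y
    obtain ⟨b', hb'⟩ := hrel b
    obtain ⟨c', hc'⟩ := hrel c
    rw [hd _ b b' rfl hb', hd _ c c' rfl hc', hd _ (b + c) (b' + c') (map_add _ _ _), map_add]
    have e : σ (b + c) - (b + c) - algebraMap A B t * (b' + c') =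
        (σ b - b - algebraMap A B t * b') + (σ c - c - algebraMap A B t * c') := by
      rw [map_add]; ring
    rw [e]
    exact Ideal.add_mem _ hb' hc'
  · intro b b' hb
    exact hd _ b b' rfl hb
  · intro x y
    obtain ⟨b, rfl⟩ := hκs x
    obtain ⟨c, rfl⟩ := hκs y
    obtain ⟨b', hb'⟩ := hrel b
    obtain ⟨c', hc'⟩ := hrel c
    change d (κ b * κ c) = κ b * d (κ c) + κ c * d (κ b)
    rw [hd _ b b' rfl hb', hd _ c c' rfl hc', hd _ (b * c) (σ b * c' + c * b') (map_mul _ _ _)]
    · rw [map_add, map_mul, map_mul, hκσ]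
    · have e : σ (b * c) - b * c - algebraMap A B t * (σ b * c' + c * b') =
          σ b * (σ c - c - algebraMap A B t * c') + c * (σ b - b - algebraMap A B t * b') := by
        rw [map_mul]; ring
      rw [e]
      exact Ideal.add_mem _ (Ideal.mul_mem_left _ _ hc') (Ideal.mul_mem_left _ _ hb')
  · intro a
    change d _ = 0
    rw [hd _ (algebraMap A B a) 0 rfl, map_zero]
    rw [hσ, sub_self, mul_zero, sub_zero]
    exact Ideal.zero_mem _

end der

end K680.AutAlg
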