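import Mathlib.AlgebraicGeometry.Scheme

/-! A morphism of schemes from a given one by changing the ring maps by nilpotent amounts. -/

set_option autoImplicit false
universe u
open CategoryTheory AlgebraicGeometry TopologicalSpace Opposite

namespace K680.MkHom

variable {Z X : Scheme.{u}} (q : Z ⟶ X) (ψ : ∀ U : X.Opens, Γ(X, U) →+* Γ(Z, q ⁻¹ᵁ U))
  (hnat : ∀ (U V : X.Opens) (h : V ≤ U) (s : Γ(X, U)), ψ V (X.presheaf.map (homOfLE h).op s) =
    Z.presheaf.map (homOfLE (q.preimage_mono h)).op (ψ U s))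
  (hnil : ∀ (U : X.Opens) (s : Γ(X, U)), IsNilpotent (ψ U s - q.app U s))

/-- The morphism of presheafed spaces. -/
noncomputable def psh : Z.toPresheafedSpace.Hom X.toPresheafedSpace where
  base := q.base
  c :=
    { app := fun U => CommRingCat.ofHom (ψ U.unop)
      naturality := fun U V i => by
        ext s
        exact hnat U.unop V.unop i.unop.le s }

include hnil in
lemma isLocalHom_stalkMap (z : Z) : IsLocalHom ((psh q ψ hnat).stalkMap z).hom := by
  refine ⟨fun a ha => ?_⟩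
  obtain ⟨U, hU, s, rfl⟩ := X.presheaf.exists_germ_eq (x := q.base z) a
  have h1 : ((psh q ψ hnat).stalkMap z).hom (X.presheaf.germ U (q.base z) hU s) =
      Z.presheaf.germ (q ⁻¹ᵁ U) z hU (ψ U s) := by
    have := PresheafedSpace.stalkMap_germ (X := Z.toPresheafedSpace) (Y := X.toPresheafedSpace)
      (psh q ψ hnat) U z hU
    exact congrArg (fun t => t.hom s) this
  have h2 : (q.stalkMap z).hom (X.presheaf.germ U (q.base z) hU s) =
      Z.presheaf.germ (q ⁻¹ᵁ U) z hU (q.app U s) := Scheme.Hom.germ_stalkMap_apply q U z hU s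
  have h3 : IsUnit ((q.stalkMap z).hom (X.presheaf.germ U (q.base z) hU s)) := by
    rw [h2]
    have h4 : Z.presheaf.germ (q ⁻¹ᵁ U) z hU (q.app U s) =
        Z.presheaf.germ (q ⁻¹ᵁ U) z hU (ψ U s) - Z.presheaf.germ (q ⁻¹ᵁ U) z hU (ψ U s - q.app U s) := by
      rw [map_sub, sub_sub_cancel]
    rw [h4, sub_eq_add_neg, add_comm]
    refine IsNilpotent.isUnit_add_right_of_commute ?_ ?_ (Commute.all _ _)
    · exact ((hnil U s).map (Z.presheaf.germ (q ⁻¹ᵁ U) z hU).hom).neg
    · rw [← h1]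
      exact ha
  exact isUnit_of_map_unit (q.stalkMap z).hom _ h3

/-- The morphism of schemes. -/
noncomputable def hom : Z ⟶ X :=
  ⟨⟨psh q ψ hnat, isLocalHom_stalkMap q ψ hnat hnil⟩⟩

lemma hom_base : (hom q ψ hnat hnil).base = q.base := rfl

lemma hom_preimage (U : X.Opens) : hom q ψ hnat hnil ⁻¹ᵁ U = q ⁻¹ᵁ U := rfl

lemma hom_app (U : X.Opens) (s : Γ(X, U)) : (hom q ψ hnat hnil).app U s = ψ U s := rfl

end K680.MkHom
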