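import Groth.Agent.Deform.K680.AutGeo
import Groth.Agent.Deform.K680.MkHom
import Groth.Agent.SGA7.K565.DefCat
import Groth.Prelude.Def_ArtFun6

/-! A derivation gives an automorphism of the trivial deformation over the dual numbers. -/

set_option autoImplicit false
set_option linter.style.haveILetI false
universe u
open CategoryTheory CategoryTheory.Limits AlgebraicGeometry ArtFun ArtFun.Art TopologicalSpace Opposite
open Groth.Agent.Sga7.H331.Sec

namespace K680.AutDer

variable {k : Type u} [Field k] {X : Scheme.{u}} {x : X ⟶ specPt k} (hx : Flat x) (A : Art k k)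

/-- The trivial deformation. -/
noncomputable def triv : DefSch X x A where
  total := XA x A
  f := XApr x A
  flat := MorphismProperty.of_isPullback (P := @Flat) (IsPullback.of_hasPullback x (specOver A)) hx
  i := XAincl x A
  isPullback := isPullback_XAincl x A

/-- The projection to the fibre. -/
noncomputable def q : (triv hx A).total ⟶ X := pullback.fst x (specOver A)

lemma i_q : (triv hx A).i ≫ q hx A = 𝟙 X := XAincl_fst x A

lemma q_x : q hx A ≫ x = (triv hx A).f ≫ specOver A := pullback.condition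

instance isAffineHom_q : IsAffineHom (q hx A) := by
  haveI : IsAffineHom (specOver A) := isAffineHom_of_isAffine _
  exact MorphismProperty.of_isPullback (P := @IsAffineHom) (IsPullback.of_hasPullback x (specOver A)).flip
    inferInstance

section der

variable {A} (ε : A) (hε : ε * ε = 0) (hε0 : A.res ε = 0) (D : OmegaSh.Der x (Coh.structureModule X))

/-- The value of a derivation as a function. -/
noncomputable def dv (U : X.Opens) : Γ(X, U) →+ Γ(X, U) := (OmegaSh.fnSect X U).comp (D.app U)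

lemma dv_mul (U : X.Opens) (a b : Γ(X, U)) : dv D U (a * b) = a * dv D U b + b * dv D U a :=
  K583.DerAffine.app_mul D U a b

lemma dv_one (U : X.Opens) : dv D U 1 = 0 := by
  have h := dv_mul D U 1 1
  rw [mul_one, one_mul] at h
  exact left_eq_add.1 h

lemma dv_map {U V : X.Opens} (h : V ≤ U) (a : Γ(X, U)) :
    dv D V (X.presheaf.map (homOfLE h).op a) = X.presheaf.map (homOfLE h).op (dv D U a) :=
  K583.DerAffine.app_map D h a

lemma dv_base (V : (specPt k).Opens) (c : Γ(specPt k, V)) : dv D (x ⁻¹ᵁ V) (x.app V c) = 0 :=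
  K583.DerAffine.app_base D V c

/-- The modified ring map. -/
noncomputable def psi (U : X.Opens) : Γ(X, U) →+* Γ((triv hx A).total, q hx A ⁻¹ᵁ U) where
  toFun s := (q hx A).app U s + AutGeo.al (triv hx A) (q hx A ⁻¹ᵁ U) ε * (q hx A).app U (dv D U s)
  map_one' := by rw [dv_one, map_zero, mul_zero, add_zero, map_one]
  map_zero' := by rw [map_zero, map_zero, map_zero, mul_zero, add_zero]
  map_add' s t := by
    rw [map_add, map_add, map_add]
    ring
  map_mul' s t := by
    have h : AutGeo.al (triv hx A) (q hx A ⁻¹ᵁ U) ε * AutGeo.al (triv hx A) (q hx A ⁻¹ᵁ U) ε = 0 := by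
      rw [← map_mul, hε, map_zero]
    rw [dv_mul, map_mul, map_add, map_mul, map_mul]
    linear_combination (-(q hx A).app U (dv D U s) * (q hx A).app U (dv D U t)) * h

lemma psi_apply (U : X.Opens) (s : Γ(X, U)) : psi hx ε hε D U s =
    (q hx A).app U s + AutGeo.al (triv hx A) (q hx A ⁻¹ᵁ U) ε * (q hx A).app U (dv D U s) := rfl

lemma psi_nat (U V : X.Opens) (h : V ≤ U) (s : Γ(X, U)) :
    psi hx ε hε D V (X.presheaf.map (homOfLE h).op s) =
    (triv hx A).total.presheaf.map (homOfLE ((q hx A).preimage_mono h)).op (psi hx ε hε D U s) := by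
  have h1 : ∀ s : Γ(X, U), (q hx A).app V (X.presheaf.map (homOfLE h).op s) =
      (triv hx A).total.presheaf.map (homOfLE ((q hx A).preimage_mono h)).op ((q hx A).app U s) := fun s =>
    congrArg (fun t => t.hom s) ((q hx A).naturality (homOfLE h).op)
  rw [psi_apply, psi_apply, dv_map, h1, h1, map_add, map_mul, AutGeo.al_map]

lemma psi_nil (U : X.Opens) (s : Γ(X, U)) : IsNilpotent (psi hx ε hε D U s - (q hx A).app U s) := by
  rw [psi_apply, add_sub_cancel_left]
  refine ⟨2, ?_⟩
  rw [mul_pow, ← map_pow, pow_two ε, hε, map_zero, zero_mul]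

/-- The modified projection. -/
noncomputable def g : (triv hx A).total ⟶ X :=
  MkHom.hom (q hx A) (psi hx ε hε D) (psi_nat hx ε hε D) (psi_nil hx ε hε D)

lemma g_app (U : X.Opens) (s : Γ(X, U)) : (g hx ε hε D).app U s = psi hx ε hε D U s := rfl

lemma g_x : g hx ε hε D ≫ x = q hx A ≫ x := by
  refine ext_of_isAffine ?_
  ext c
  have h1 : ∀ r : Γ(X, ⊤), dv D ⊤ r = 0 → (g hx ε hε D).app ⊤ r = (q hx A).app ⊤ r := by
    intro r hr
    rw [g_app, psi_apply, hr, map_zero, mul_zero, add_zero]
  exact h1 (x.appTop c) (dv_base D ⊤ c)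

include hε0 in
lemma i_g : (triv hx A).i ≫ g hx ε hε D = 𝟙 X := by
  rw [← i_q hx A]
  refine Scheme.Hom.ext rfl fun U => ?_
  refine (congrArg (fun t => ((triv hx A).i ≫ g hx ε hε D).app U ≫ t) (X.presheaf.map_id _)).trans ?_
  refine (Category.comp_id _).trans ?_
  ext s
  have h1 : ∀ s : Γ(X, U), (triv hx A).i.app (q hx A ⁻¹ᵁ U) (psi hx ε hε D U s) =
      (triv hx A).i.app (q hx A ⁻¹ᵁ U) ((q hx A).app U s) := by
    intro s
    rw [psi_apply, map_add, map_mul]
    have h2 : (triv hx A).i.app (q hx A ⁻¹ᵁ U) (AutGeo.al (triv hx A) (q hx A ⁻¹ᵁ U) ε) = 0 := by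
      have h3 := RingHom.congr_fun (AutGeo.ka_comp_al (triv hx A) (q hx A ⁻¹ᵁ U)) ε
      have h4 : A.res.toRingHom ε = 0 := hε0
      rw [RingHom.comp_apply, RingHom.comp_apply, h4, map_zero] at h3
      exact h3
    rw [h2, zero_mul, add_zero]
  exact h1 s

/-- The automorphism of the trivial deformation. -/
noncomputable def phi : (triv hx A).total ⟶ (triv hx A).total :=
  pullback.lift (g hx ε hε D) (triv hx A).f ((g_x hx ε hε D).trans (q_x hx A))

lemma phi_f : phi hx ε hε D ≫ (triv hx A).f = (triv hx A).f := pullback.lift_snd _ _ _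

lemma phi_q : phi hx ε hε D ≫ q hx A = g hx ε hε D := pullback.lift_fst _ _ _

include hε0 in
lemma i_phi : (triv hx A).i ≫ phi hx ε hε D = (triv hx A).i := by
  apply pullback.hom_ext
  · change ((triv hx A).i ≫ phi hx ε hε D) ≫ q hx A = (triv hx A).i ≫ q hx A
    rw [Category.assoc, phi_q, i_g hx ε hε hε0, i_q]
  · change ((triv hx A).i ≫ phi hx ε hε D) ≫ (triv hx A).f = (triv hx A).i ≫ (triv hx A).f
    rw [Category.assoc, phi_f]

/-- If the trivial deformation has no nontrivial automorphisms the derivation vanishes. -/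
theorem der_eq_zero (hεne : ε ≠ 0) (hε : ε * ε = 0) (hε0 : A.res ε = 0)
    (h : ∀ e : (triv hx A).Iso (triv hx A), e.iso.hom = 𝟙 _) (U : X.Opens) (s : Γ(X, U)) : D.app U s = 0 := by
  have h1 : phi hx ε hε D = 𝟙 _ := h (K565.DefCat.isoOfMorphism _ (phi_f hx ε hε D) (i_phi hx ε hε hε0 D))
  have h2 : g hx ε hε D = q hx A := by
    rw [← phi_q, h1, Category.id_comp]
  have key : ∀ (W : X.Opens), IsAffineOpen W → ∀ t : Γ(X, W), dv D W t = 0 := by
    intro W hW t
    have h3 : psi hx ε hε D W t = (q hx A).app W t := by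
      have h4 : ∀ (g' : (triv hx A).total ⟶ X) (_ : g hx ε hε D = g') (hle : q hx A ⁻¹ᵁ W ≤ g' ⁻¹ᵁ W),
          psi hx ε hε D W t = g'.appLE W (q hx A ⁻¹ᵁ W) hle t := by
        rintro _ rfl hle
        exact (congrArg (fun t' => t'.hom (psi hx ε hε D W t)) ((triv hx A).total.presheaf.map_id _)).symm
      have h5 := h4 _ h2 le_rfl
      rw [Scheme.Hom.appLE_eq_app] at h5
      exact h5
    rw [psi_apply, add_eq_left] at h3
    have hWq : IsAffineOpen (q hx A ⁻¹ᵁ W) := hW.preimage (q hx A)
    letI : Algebra A Γ((triv hx A).total, q hx A ⁻¹ᵁ W) := (AutGeo.al (triv hx A) (q hx A ⁻¹ᵁ W)).toAlgebra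
    haveI : Module.Flat A Γ((triv hx A).total, q hx A ⁻¹ᵁ W) := AutGeo.flat_al (triv hx A) hWq
    have h6 : (q hx A).app W (dv D W t) ∈ (IsLocalRing.maximalIdeal A).map
        (algebraMap A Γ((triv hx A).total, q hx A ⁻¹ᵁ W)) := by
      refine K680.AutAlg.mem_map_of_mul_mem (J := ⊥) (t := ε) ?_ ?_
      · intro a ha
        rw [Ideal.mem_bot] at ha
        rw [IsLocalRing.mem_maximalIdeal]
        intro hu
        exact hεne (hu.mul_left_eq_zero.1 ha)
      · rw [Ideal.map_bot, Ideal.mem_bot]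
        exact h3
    have h7 : AutGeo.ka (triv hx A) (q hx A ⁻¹ᵁ W) ((q hx A).app W (dv D W t)) = 0 := by
      rw [← RingHom.mem_ker, (AutGeo.surjective_and_ker (triv hx A) hWq).2]
      exact h6
    have h8 : ∀ r : Γ(X, W), AutGeo.ka (triv hx A) (q hx A ⁻¹ᵁ W) ((q hx A).app W r) = 0 → r = 0 := by
      intro r hr
      have h9 : (q hx A).app W ≫ (triv hx A).i.app (q hx A ⁻¹ᵁ W) = ((triv hx A).i ≫ q hx A).app W := rfl
      have h10 : ∀ (g' : X ⟶ X) (e : g' = 𝟙 X), g'.app W r = 0 → r = 0 := by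
        rintro _ rfl h11
        exact (congrArg (fun t => t.hom r) (Scheme.Hom.id_app W)).symm.trans h11
      exact h10 _ (i_q hx A) ((congrArg (fun t => t.hom r) h9.symm).trans hr)
    exact h8 _ h7
  refine K583.DerAffine.eq_of_locally _ fun p hp => ?_
  obtain ⟨W, hW, hpW, hWU⟩ := exists_isAffineOpen_mem_and_subset (x := p) (U := U) hp
  have hWU' : W ≤ U := hWU
  refine ⟨W, hWU', hpW, ?_⟩
  rw [map_zero, ← K583.DerAffine.app_map]
  exact key W hW _

end der

end K680.AutDer
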