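import Groth.Agent.Deform.K680.AutAlg
import Groth.Agent.Deform.K681.AffDef
import Groth.Agent.Sga7.H331.Sec
import Groth.Agent.OmegaSh.K583.DerAffine
import Groth.Prelude.Def_ArtFun4

/-! Automorphisms of a deformation on affine charts; a scheme without derivations has only rigid deformations. -/

set_option autoImplicit false
set_option linter.style.haveILetI false
universe u
open CategoryTheory CategoryTheory.Limits AlgebraicGeometry ArtFun ArtFun.Art TopologicalSpace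
open Groth.Agent.Sga7.H331.Sec

namespace K680.AutGeo

variable {Λ k : Type u} [CommRing Λ] [Field k] [Algebra Λ k] {X : Scheme.{u}} {x : X ⟶ specPt k}
  {A : Art Λ k} (ξ : DefSch X x A)

/-- Coefficients. -/
noncomputable def al (U : ξ.total.Opens) : A →+* Γ(ξ.total, U) := (co (A := CommRingCat.of A) ξ.f U).hom

/-- Reduction. -/
noncomputable def ka (U : ξ.total.Opens) : Γ(ξ.total, U) →+* Γ(X, ξ.i ⁻¹ᵁ U) := (ξ.i.app U).hom

variable (x) in
/-- Coefficients over the field. -/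
noncomputable def c₀ (W : X.Opens) : k →+* Γ(X, W) := (co (A := CommRingCat.of k) x W).hom

lemma ka_comp_al (U : ξ.total.Opens) : (ka ξ U).comp (al ξ U) = (c₀ x (ξ.i ⁻¹ᵁ U)).comp A.res.toRingHom := by
  have := co_appLE (A := CommRingCat.of A) (A' := CommRingCat.of k) ξ.f x
    (φ := CommRingCat.ofHom A.res.toRingHom) ξ.isPullback.w (V := U) (V' := ξ.i ⁻¹ᵁ U) le_rfl
  rw [ka, Scheme.Hom.app_eq_appLE]
  exact congrArg CommRingCat.Hom.hom this

lemma ker_res : RingHom.ker A.res.toRingHom = IsLocalRing.maximalIdeal A := by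
  ext a
  rw [mem_maximalIdeal_iff, RingHom.mem_ker]
  rfl

lemma surjective_and_ker {U : ξ.total.Opens} (hU : IsAffineOpen U) :
    Function.Surjective (ka ξ U) ∧ RingHom.ker (ka ξ U) = (IsLocalRing.maximalIdeal A).map (al ξ U) := by
  have h := isPushout_co (A := CommRingCat.of A) (A' := CommRingCat.of k) ξ.f x
    (φ := CommRingCat.ofHom A.res.toRingHom) (h := ξ.i) ξ.isPullback hU (V' := ξ.i ⁻¹ᵁ U) rfl
  have h2 := K681.AffDef.surjective_and_ker_of_isPushout A.res.toRingHom (al ξ U) (c₀ x (ξ.i ⁻¹ᵁ U)) (ka ξ U)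
    A.res_surjective (by
      rw [ka, Scheme.Hom.app_eq_appLE]
      exact h)
  rwa [ker_res] at h2

lemma flat_al {U : ξ.total.Opens} (hU : IsAffineOpen U) : (al ξ U).Flat := by
  have h1 : (ξ.f.appLE ⊤ U le_top).hom.Flat :=
    HasRingHomProperty.appLE @Flat ξ.f ξ.flat ⟨⊤, isAffineOpen_top _⟩ ⟨U, hU⟩ le_top
  have h2 := RingHom.Flat.respectsIso
  let e := (Scheme.ΓSpecIso (CommRingCat.of A)).commRingCatIsoToRingEquiv
  have h3 := h2.2 _ e.symm h1
  exact h3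

section aut

variable {ξ} (e : ξ.Iso ξ)

lemma base_eq (p : ξ.total) : e.iso.hom.base p = p := by
  obtain ⟨q, rfl⟩ := ξ.i.surjective p
  have h : (ξ.i ≫ e.iso.hom).base q = ξ.i.base q := by rw [e.i_hom]
  exact h

lemma le_preimage (U : ξ.total.Opens) : U ≤ e.iso.hom ⁻¹ᵁ U := by
  intro p hp
  change e.iso.hom.base p ∈ U
  rwa [base_eq]

/-- The action on sections. -/
noncomputable def sg (U : ξ.total.Opens) : Γ(ξ.total, U) →+* Γ(ξ.total, U) :=
  (e.iso.hom.appLE U U (le_preimage e U)).hom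

lemma sg_al (U : ξ.total.Opens) (a : A) : sg e U (al ξ U a) = al ξ U a := by
  have := co_appLE (A := CommRingCat.of A) (A' := CommRingCat.of A) ξ.f ξ.f (φ := 𝟙 _) (h := e.iso.hom)
    (by rw [Spec.map_id, Category.comp_id, e.hom_f]) (le_preimage e U)
  exact congrArg (fun t => t.hom a) this

lemma ka_sg (U : ξ.total.Opens) (b : Γ(ξ.total, U)) : ka ξ U (sg e U b) = ka ξ U b := by
  have h1 : e.iso.hom.appLE U U (le_preimage e U) ≫ ξ.i.appLE U (ξ.i ⁻¹ᵁ U) le_rfl =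
      ξ.i.appLE U (ξ.i ⁻¹ᵁ U) le_rfl := by
    rw [Scheme.Hom.appLE_comp_appLE]
    have : ∀ (g : X ⟶ ξ.total) (hg : g = ξ.i) (e : ξ.i ⁻¹ᵁ U ≤ g ⁻¹ᵁ U),
        g.appLE U (ξ.i ⁻¹ᵁ U) e = ξ.i.appLE U (ξ.i ⁻¹ᵁ U) le_rfl := by
      rintro _ rfl _
      rfl
    exact this _ e.i_hom _
  rw [ka, Scheme.Hom.app_eq_appLE]
  exact congrArg (fun t => t.hom b) h1

lemma sg_map {U V : ξ.total.Opens} (h : V ≤ U) (b : Γ(ξ.total, U)) :
    sg e V (ξ.total.presheaf.map (homOfLE h).op b) = ξ.total.presheaf.map (homOfLE h).op (sg e U b) := by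
  have h1 : ξ.total.presheaf.map (homOfLE h).op ≫ e.iso.hom.appLE V V (le_preimage e V) =
      e.iso.hom.appLE U U (le_preimage e U) ≫ ξ.total.presheaf.map (homOfLE h).op := by
    rw [Scheme.Hom.map_appLE, Scheme.Hom.appLE_map]
  exact congrArg (fun t => t.hom b) h1

lemma al_map {U V : ξ.total.Opens} (h : V ≤ U) (a : A) :
    ξ.total.presheaf.map (homOfLE h).op (al ξ U a) = al ξ V a :=
  congrArg (fun t => t.hom a) (co_map (A := CommRingCat.of A) ξ.f h)

lemma ka_map {U V : ξ.total.Opens} (h : V ≤ U) (b : Γ(ξ.total, U)) :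
    ka ξ V (ξ.total.presheaf.map (homOfLE h).op b) =
      X.presheaf.map (homOfLE (ξ.i.preimage_mono h)).op (ka ξ U b) :=
  congrArg (fun t => t.hom b) (ξ.i.naturality (homOfLE h).op)

/-- An automorphism acting trivially on sections over affine opens is trivial. -/
theorem hom_eq_id (h : ∀ (U : ξ.total.Opens), IsAffineOpen U → ∀ b, sg e U b = b) : e.iso.hom = 𝟙 _ := by
  refine Scheme.hom_ext_of_forall _ _ fun p => ?_
  obtain ⟨U, hU, hp, -⟩ := exists_isAffineOpen_mem_and_subset (x := p) (U := ⊤) trivial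
  refine ⟨U, hp, ?_⟩
  have h1 : e.iso.hom.appLE U U (le_preimage e U) = 𝟙 _ := by
    ext b
    exact h U hU b
  have h2 : e.iso.hom.resLE U U (le_preimage e U) = 𝟙 _ := by
    have h3 := Scheme.Opens.toSpecΓ_SpecMap_appLE e.iso.hom U U (le_preimage e U)
    rw [h1] at h3
    haveI : IsIso U.toSpecΓ := by
      rw [← hU.isoSpec_hom]
      infer_instance
    rw [← cancel_mono U.toSpecΓ, ← h3]
    simp
  rw [← Scheme.Hom.resLE_comp_ι _ (le_preimage e U), h2, Category.id_comp, Category.comp_id]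

/-- The congruence of an automorphism to the identity modulo an ideal of coefficients. -/
def Cong (J : Ideal A) : Prop :=
  ∀ U : ξ.total.affineOpens, ∀ b, sg e U.1 b - b ∈ J.map (al ξ U.1)

lemma cong_maximalIdeal : Cong e (IsLocalRing.maximalIdeal A) := by
  intro U b
  rw [← (surjective_and_ker ξ U.2).2, RingHom.mem_ker, map_sub, ka_sg, sub_self]

/-- An ideal just below a given nonzero ideal. -/
lemma exists_below {J : Ideal A} (hJ : J ≠ ⊥) :
    ∃ (J' : Ideal A) (t : A), J' < J ∧ t ∈ J ∧ J ≤ J' ⊔ Ideal.span {t} ∧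
      IsLocalRing.maximalIdeal A * J ≤ J' ∧ ∀ a, t * a ∈ J' → a ∈ IsLocalRing.maximalIdeal A := by
  let S : Set (Ideal A) := {K | IsLocalRing.maximalIdeal A * J ≤ K ∧ K < J}
  have hne : S.Nonempty := by
    refine ⟨IsLocalRing.maximalIdeal A * J, le_rfl, lt_of_le_of_ne Ideal.mul_le_right fun h => hJ ?_⟩
    have h1 : J ≤ IsLocalRing.maximalIdeal A • J := h.ge
    exact Submodule.eq_bot_of_le_smul_of_le_jacobson_bot _ J (IsNoetherian.noetherian J) h1
      (IsLocalRing.maximalIdeal_le_jacobson ⊥)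
  obtain ⟨J', hJ'S, hmax⟩ := set_has_maximal_iff_noetherian.2 (inferInstance : IsNoetherian A A) S hne
  obtain ⟨t, ht, ht'⟩ := SetLike.exists_of_lt hJ'S.2
  have h1 : J' < J' ⊔ Ideal.span {t} := by
    refine lt_of_le_of_ne le_sup_left fun h => ht' ?_
    rw [h]
    exact Ideal.mem_sup_right (Ideal.mem_span_singleton_self t)
  have h2 : J' ⊔ Ideal.span {t} ≤ J := sup_le hJ'S.2.le ((Ideal.span_singleton_le_iff_mem J).2 ht)
  have h3 : J ≤ J' ⊔ Ideal.span {t} := by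
    by_contra hn
    exact hmax (J' ⊔ Ideal.span {t}) ⟨hJ'S.1.trans le_sup_left, lt_of_le_not_ge h2 hn⟩ h1
  refine ⟨J', t, hJ'S.2, ht, h3, hJ'S.1, fun a ha => ?_⟩
  by_contra hn
  have hu : IsUnit a := by
    by_contra hn'
    exact hn ((IsLocalRing.mem_maximalIdeal a).2 hn')
  exact ht' ((Ideal.mul_unit_mem_iff_mem J' hu).1 ha)

variable (x) in
/-- Vanishing of all derivations of the structure sheaf. -/
def NoDer : Prop := ∀ (D : OmegaSh.Der x (Coh.structureModule X)) (U : X.Opens) (s : Γ(X, U)), D.app U s = 0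

lemma isBasis_preimage (ξ : DefSch X x A) :
    Opens.IsBasis (Set.range fun U : ξ.total.affineOpens => ξ.i ⁻¹ᵁ U.1) := by
  rw [Opens.isBasis_iff_nbhd]
  intro W p hp
  have hemb : Topology.IsEmbedding ξ.i.base := ξ.i.isClosedEmbedding.isEmbedding
  obtain ⟨V, hV, hV'⟩ := hemb.isInducing.isOpen_iff.1 W.2
  have hpV : ξ.i.base p ∈ V := by
    have : p ∈ ξ.i.base ⁻¹' V := by rw [hV']; exact hp
    exact this
  obtain ⟨U, hU, hpU, hUV⟩ := exists_isAffineOpen_mem_and_subset (x := ξ.i.base p) (U := ⟨V, hV⟩) hpV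
  refine ⟨ξ.i ⁻¹ᵁ U, ⟨⟨U, hU⟩, rfl⟩, hpU, fun q hq => ?_⟩
  have : q ∈ ξ.i.base ⁻¹' V := hUV hq
  rw [hV'] at this
  exact this

/-- If there are no derivations, an automorphism trivial modulo `J` is trivial modulo `J'`. -/
theorem cong_below (hx : NoDer x) {J J' : Ideal A} {t : A} (hJm : J ≤ IsLocalRing.maximalIdeal A) (ht : t ∈ J)
    (hJJ' : J ≤ J' ⊔ Ideal.span {t}) (hmJ : IsLocalRing.maximalIdeal A * J ≤ J')
    (hcol : ∀ a, t * a ∈ J' → a ∈ IsLocalRing.maximalIdeal A) (h : Cong e J) : Cong e J' := by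
  have key : ∀ U : ξ.total.affineOpens, ∃ d : Γ(X, ξ.i ⁻¹ᵁ U.1) →+ Γ(X, ξ.i ⁻¹ᵁ U.1),
      (∀ b b', sg e U.1 b - b - al ξ U.1 t * b' ∈ J'.map (al ξ U.1) → d (ka ξ U.1 b) = ka ξ U.1 b') ∧
      (∀ x y, d (x * y) = x * d y + y * d x) ∧ (∀ a, d (ka ξ U.1 (al ξ U.1 a)) = 0) := by
    intro U
    letI : Algebra A Γ(ξ.total, U.1) := (al ξ U.1).toAlgebra
    haveI : Module.Flat A Γ(ξ.total, U.1) := flat_al ξ U.2
    exact K680.AutAlg.exists_der (κ := ka ξ U.1) (m := IsLocalRing.maximalIdeal A) (J := J) (J' := J') (t := t)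
      (sg e U.1) (surjective_and_ker ξ U.2).1 (surjective_and_ker ξ U.2).2 hcol hmJ hJJ' hJm (sg_al e U.1) (h U)
  choose d hd hdmul hdA using key
  have hrel : ∀ (U : ξ.total.affineOpens) (b : Γ(ξ.total, U.1)),
      ∃ b', sg e U.1 b - b - al ξ U.1 t * b' ∈ J'.map (al ξ U.1) := by
    intro U b
    letI : Algebra A Γ(ξ.total, U.1) := (al ξ U.1).toAlgebra
    exact K680.AutAlg.exists_rel (sg e U.1) hJJ' (h U) b
  have hle : ∀ {U V : ξ.total.Opens}, ξ.i ⁻¹ᵁ V ≤ ξ.i ⁻¹ᵁ U → V ≤ U := by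
    intro U V hUV p hp
    obtain ⟨q, rfl⟩ := ξ.i.surjective p
    exact hUV hp
  have hdres : ∀ (U V : ξ.total.affineOpens) (hUV : ξ.i ⁻¹ᵁ V.1 ≤ ξ.i ⁻¹ᵁ U.1) (s : Γ(X, ξ.i ⁻¹ᵁ U.1)),
      d V (X.presheaf.map (homOfLE hUV).op s) = X.presheaf.map (homOfLE hUV).op (d U s) := by
    intro U V hUV s
    obtain ⟨b, rfl⟩ := (surjective_and_ker ξ U.2).1 s
    obtain ⟨b', hb'⟩ := hrel U b
    have h1 : V.1 ≤ U.1 := hle hUV
    rw [hd U b b' hb']
    have e1 : X.presheaf.map (homOfLE hUV).op (ka ξ U.1 b) =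
      ka ξ V.1 (ξ.total.presheaf.map (homOfLE h1).op b) := (ka_map h1 b).symm
    have e2 : X.presheaf.map (homOfLE hUV).op (ka ξ U.1 b') =
      ka ξ V.1 (ξ.total.presheaf.map (homOfLE h1).op b') := (ka_map h1 b').symm
    rw [e1, e2]
    refine hd V _ _ ?_
    rw [sg_map, ← al_map h1, ← map_mul, ← map_sub, ← map_sub]
    have h2 : al ξ V.1 = (ξ.total.presheaf.map (homOfLE h1).op).hom.comp (al ξ U.1) :=
      RingHom.ext fun a => (al_map h1 a).symm
    rw [h2, ← Ideal.map_map]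
    exact Ideal.mem_map_of_mem _ hb'
  obtain ⟨D, hDmul, hDres, hDB⟩ := K583.DerAffine.exists_of_basis (isBasis_preimage ξ)
    (Coh.structureModule X) (fun U => (OmegaSh.strSect X (ξ.i ⁻¹ᵁ U.1)).comp (d U))
    (fun U V hUV s => hdres U V hUV s) (fun U a b => hdmul U a b)
  have hD0 : ∀ (V : (specPt k).Opens) (c : Γ(specPt k, V)), D (x ⁻¹ᵁ V) (x.app V c) = 0 := by
    intro V c
    refine K583.DerAffine.eq_of_locally _ fun p hp => ?_
    obtain ⟨_, ⟨U, rfl⟩, hpU, hU⟩ := Opens.isBasis_iff_nbhd.mp (isBasis_preimage ξ) hp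
    refine ⟨ξ.i ⁻¹ᵁ U.1, hU, hpU, ?_⟩
    rw [map_zero, ← hDres]
    refine (hDB U _).trans ?_
    have hV : V = ⊤ := by
      refine top_le_iff.1 fun q _ => ?_
      have : Subsingleton (PrimeSpectrum k) := inferInstance
      have e3 : q = x.base p := this.elim _ _
      rw [e3]
      exact hp
    subst hV
    have e4 : X.presheaf.map (homOfLE hU).op (x.app ⊤ c) =
        c₀ x (ξ.i ⁻¹ᵁ U.1) ((Scheme.ΓSpecIso (CommRingCat.of k)).hom c) := by
      have h5 : x.app ⊤ ≫ X.presheaf.map (homOfLE hU).op = x.appLE ⊤ (ξ.i ⁻¹ᵁ U.1) le_top := by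
        rw [Scheme.Hom.app_eq_appLE, Scheme.Hom.appLE_map]
      have h6 : x.appLE ⊤ (ξ.i ⁻¹ᵁ U.1) le_top = (Scheme.ΓSpecIso (CommRingCat.of k)).hom ≫
          co (A := CommRingCat.of k) x (ξ.i ⁻¹ᵁ U.1) := by
        rw [co, Iso.hom_inv_id_assoc]
      exact congrArg (fun t => t.hom c) (h5.trans h6)
    rw [e4]
    obtain ⟨a, ha⟩ := A.res_surjective ((Scheme.ΓSpecIso (CommRingCat.of k)).hom c)
    rw [← ha]
    have e5 : c₀ x (ξ.i ⁻¹ᵁ U.1) (A.res a) = ka ξ U.1 (al ξ U.1 a) :=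
      (RingHom.congr_fun (ka_comp_al ξ U.1) a).symm
    rw [e5]
    exact hdA U a
  let DD := K583.DerAffine.mkDer x (Coh.structureModule X) D hDmul hDres hD0
  have hzero : ∀ (U : ξ.total.affineOpens) (s : Γ(X, ξ.i ⁻¹ᵁ U.1)), d U s = 0 := by
    intro U s
    have h1 := hx DD (ξ.i ⁻¹ᵁ U.1) s
    have h2 : D (ξ.i ⁻¹ᵁ U.1) s = 0 := h1
    rw [hDB] at h2
    exact h2
  intro U b
  obtain ⟨b', hb'⟩ := hrel U b
  have h1 : ka ξ U.1 b' = 0 := by rw [← hd U b b' hb', hzero]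
  rw [← RingHom.mem_ker, (surjective_and_ker ξ U.2).2] at h1
  have h2 : al ξ U.1 t * b' ∈ J'.map (al ξ U.1) := by
    have h3 : al ξ U.1 t * b' ∈ (IsLocalRing.maximalIdeal A * J).map (al ξ U.1) := by
      rw [mul_comm (al ξ U.1 t), Ideal.map_mul]
      exact Ideal.mul_mem_mul h1 (Ideal.mem_map_of_mem _ ht)
    exact Ideal.map_mono hmJ h3
  have h4 := Ideal.add_mem _ hb' h2
  rwa [sub_add_cancel] at h4

/-- If there are no derivations, every automorphism of every deformation is trivial. -/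
theorem hom_eq_id_of_noDer (hx : NoDer x) : e.iso.hom = 𝟙 _ := by
  let S : Set (Ideal A) := {J | J ≤ IsLocalRing.maximalIdeal A ∧ Cong e J}
  have hne : S.Nonempty := ⟨IsLocalRing.maximalIdeal A, le_rfl, cong_maximalIdeal e⟩
  obtain ⟨J, hJS, hmin⟩ := IsArtinian.set_has_minimal S hne
  have hJ0 : J = ⊥ := by
    by_contra hJ
    obtain ⟨J', t, hlt, ht, hJJ', hmJ, hcol⟩ := exists_below hJ
    exact hmin J' ⟨hlt.le.trans hJS.1, cong_below e hx hJS.1 ht hJJ' hmJ hcol hJS.2⟩ hlt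
  refine hom_eq_id e fun U hU b => ?_
  have h1 := hJS.2 ⟨U, hU⟩ b
  rw [hJ0, Ideal.map_bot, Ideal.mem_bot, sub_eq_zero] at h1
  exact h1

end aut

end K680.AutGeo
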