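import Groth.Agent.Deform.K680.AutDer
import Groth.Agent.Nrm16.K136.UnivOmega

/-! Vector fields and automorphisms of deformations. -/

set_option autoImplicit false
universe u
open CategoryTheory CategoryTheory.Limits AlgebraicGeometry ArtFun ArtFun.Art TopologicalSpace Opposite

namespace K680.AutRig

variable {k : Type u} [Field k] {X : Scheme.{u}} {x : X ⟶ specPt k}

/-- Absence of derivations in terms of the sheaf of differentials. -/
theorem noDer_iff [QuasiSeparated x] :
    AutGeo.NoDer x ↔ Subsingleton (Omega.sheaf x ⟶ Coh.structureModule X) := by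
  have hu := K136.UnivOmega.isUniversal_dOmega x
  constructor
  · intro h
    refine ⟨fun α β => ?_⟩
    obtain ⟨γ, -, hγ⟩ := hu _ ((OmegaSh.dOmega x).postcomp α.val)
    rw [hγ α rfl]
    refine (hγ β ?_).symm
    refine K583.DerAffine.ext_of_app fun U s => ?_
    rw [h, h]
  · intro h D U s
    obtain ⟨α, hα, -⟩ := hu _ D
    have h1 : α = 0 := Subsingleton.elim _ _
    rw [← hα, K583.DerAffine.postcomp_app, h1]
    rfl

/-- Over a field every scheme is flat. -/
lemma flat_of_field (x : X ⟶ specPt k) : Flat x := by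
  rw [HasRingHomProperty.iff_of_iSup_eq_top (P := @Flat) (fun U : X.affineOpens => U)
    (iSup_affineOpens_eq_top X)]
  intro U
  have h2 := RingHom.Flat.respectsIso
  let e := (Scheme.ΓSpecIso (CommRingCat.of k)).commRingCatIsoToRingEquiv
  have h1 : ((x.appLE ⊤ U.1 le_top).hom.comp e.symm.toRingHom).Flat := by
    algebraize [(x.appLE ⊤ U.1 le_top).hom.comp e.symm.toRingHom]
    change Module.Flat k _
    infer_instance
  have h3 := h2.2 _ e h1
  have h4 : ((x.appLE ⊤ U.1 le_top).hom.comp e.symm.toRingHom).comp e.toRingHom =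
      (x.appLE ⊤ U.1 le_top).hom := by
    ext a
    change (x.appLE ⊤ U.1 le_top).hom (e.symm (e a)) = _
    rw [e.symm_apply_apply]
  rwa [h4] at h3

theorem main [QuasiSeparated x] : Subsingleton (Omega.sheaf x ⟶ Coh.structureModule X) ↔
      ∀ (A : ArtFun.Art k k) (ξ : ArtFun.DefSch X x A) (e : ξ.Iso ξ), e.iso.hom = 𝟙 ξ.total := by
  rw [← noDer_iff]
  constructor
  · intro h A ξ e
    exact AutGeo.hom_eq_id_of_noDer e h
  · intro h D U s
    refine AutDer.der_eq_zero (flat_of_field x) (A := dual k k) (DualNumber.eps : DualNumber k) D ?_ ?_ ?_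
      (fun e => h _ _ e) U s
    · intro h0
      have := congrArg TrivSqZeroExt.snd h0
      exact one_ne_zero (α := k) this
    · exact DualNumber.eps_mul_eps
    · exact TrivSqZeroExt.fst_inr k (1 : k)

end K680.AutRig
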