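import Groth.Agent.Deform.K680.Versal
import Groth.Prelude.Def_ArtFun5
import Mathlib.RingTheory.Finiteness.Basic
import Mathlib.RingTheory.Noetherian.Basic

/-! Necessity of the conditions in Schlessinger's theorem. -/

set_option autoImplicit false
universe u v
open CategoryTheory

namespace K680.Conv

open ArtFun ArtFun.Art IsLocalRing K680.Tow K680.Versal K565.ArtTools

variable {Λ : Type u} {k : Type u} [CommRing Λ] [Field k] [Algebra Λ k]

/-- A map to the dual numbers is determined by its values on generators of the maximal ideal. -/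
lemma eq_of_gens (hk : Function.Surjective (algebraMap Λ k)) (R : CRing Λ k) {m : ℕ} (r : Fin m → R.carrier)
    (hr : Ideal.span (Set.range r) = maximalIdeal R.carrier) {A : Art Λ k} (φ ψ : HomSet R.carrier R.res A)
    (hm : ∀ x ∈ maximalIdeal A, ∀ y ∈ maximalIdeal A, x * y = 0)
    (h : ∀ i, φ.1 (r i) = ψ.1 (r i)) : φ = ψ := by
  have hmem : ∀ i, r i ∈ maximalIdeal R.carrier := fun i => by
    rw [← hr]; exact Ideal.subset_span ⟨i, rfl⟩
  have hdiff : ∀ x : R.carrier, φ.1 x - ψ.1 x ∈ maximalIdeal A := fun x => by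
    rw [Art.mem_maximalIdeal_iff, map_sub, homSet_res, homSet_res, sub_self]
  have h1 : ∀ x ∈ maximalIdeal R.carrier, φ.1 x = ψ.1 x := by
    intro x hx
    rw [← hr] at hx
    induction hx using Submodule.span_induction with
    | mem y hy =>
      obtain ⟨i, rfl⟩ := hy
      exact h i
    | zero => rw [map_zero, map_zero]
    | add a b _ _ ha hb => rw [map_add, map_add, ha, hb]
    | smul a b hb' hb =>
      rw [smul_eq_mul, map_mul, map_mul, hb]
      have hb2 : ψ.1 b ∈ maximalIdeal A := by
        rw [Art.mem_maximalIdeal_iff, homSet_res]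
        rw [← CRing.mem_maximalIdeal_iff, ← hr]
        exact hb'
      have := hm _ (hdiff a) _ hb2
      rwa [sub_mul, sub_eq_zero] at this
  refine Subtype.ext (AlgHom.ext fun x => ?_)
  obtain ⟨l, hl⟩ := hk (R.res x)
  have h2 : x - algebraMap Λ _ l ∈ maximalIdeal R.carrier := by
    rw [CRing.mem_maximalIdeal_iff, map_sub, AlgHom.commutes, hl, sub_self]
  have h3 := h1 _ h2
  rw [map_sub, map_sub, AlgHom.commutes, AlgHom.commutes] at h3
  exact sub_left_injective h3

lemma dual_mul_eq_zero (x y : dual Λ k) (hx : x ∈ maximalIdeal (dual Λ k)) (hy : y ∈ maximalIdeal (dual Λ k)) :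
    x * y = 0 := by
  rw [Art.mem_maximalIdeal_iff] at hx hy
  have hx' : TrivSqZeroExt.fst x = 0 := hx
  have hy' : TrivSqZeroExt.fst y = 0 := hy
  refine TrivSqZeroExt.ext ?_ ?_
  · refine (TrivSqZeroExt.fst_mul _ _).trans ?_
    rw [hx', zero_mul]
    rfl
  · refine (TrivSqZeroExt.snd_mul _ _).trans ?_
    rw [hx', hy', MulOpposite.op_zero, zero_smul, zero_smul, add_zero]
    rfl

/-- A prorepresentable functor has finite-dimensional tangent space. -/
theorem hfin_of_isUniversal (hk : Function.Surjective (algebraMap Λ k)) {F : Art Λ k ⥤ Type v} [TangentStr F]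
    (R : CRing Λ k) (ξ : Family R.carrier R.res F) (hξ : IsUniversal ξ) : Hfin F := by
  obtain ⟨m, r, hr⟩ := Submodule.fg_iff_exists_fin_generating_family.1
    (IsNoetherian.noetherian (maximalIdeal R.carrier))
  let e : HomSet R.carrier R.res (dual Λ k) ≃ TangentSpace F :=
    Equiv.ofBijective (fun φ => TangentSpace.mk (ξ.app _ φ)) (hξ (dual Λ k))
  have he : ∀ φ, e φ = TangentSpace.mk (ξ.app _ φ) := fun _ => rfl
  have he' : ∀ x, ξ.app _ (e.symm x) = x.val := fun x => e.apply_symm_apply x
  have hsm : ∀ (c : k) (x : TangentSpace F), e.symm (c • x) =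
      HomSet.map (scale c) (e.symm x) := by
    intro c x
    apply e.injective
    rw [e.apply_symm_apply, he, ξ.natural, he']
    exact TangentStr.smul_eq c x.val
  have hadd : ∀ (x y : TangentSpace F), ∃ z : HomSet R.carrier R.res (dual2 Λ k),
      HomSet.map pr₁ z = e.symm x ∧ HomSet.map pr₂ z = e.symm y ∧ HomSet.map plus z = e.symm (x + y) := by
    intro x y
    obtain ⟨z, h1, h2⟩ := homSet_exists_lift isFibreProd_dual2 (e.symm x) (e.symm y) (homSet_base_eq _ _)
    refine ⟨z, h1, h2, ?_⟩
    apply e.injective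
    rw [e.apply_symm_apply, he, ξ.natural]
    refine (TangentStr.add_eq (ξ.app _ z)).symm.trans ?_
    rw [← ξ.natural, ← ξ.natural, h1, h2, he', he']
    rfl
  let L : TangentSpace F →ₗ[k] (Fin m → k) :=
    { toFun := fun x i => TrivSqZeroExt.snd ((e.symm x).1 (r i))
      map_add' := fun x y => by
        obtain ⟨z, h1, h2, h3⟩ := hadd x y
        funext i
        change _ = TrivSqZeroExt.snd ((e.symm x).1 (r i)) + TrivSqZeroExt.snd ((e.symm y).1 (r i))
        rw [← h1, ← h2, ← h3]
        rfl
      map_smul' := fun c x => by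
        funext i
        change _ = c • TrivSqZeroExt.snd ((e.symm x).1 (r i))
        rw [hsm]
        rfl }
  refine Module.Finite.of_injective L ?_
  intro x y hxy
  apply e.symm.injective
  refine eq_of_gens hk R r hr _ _ (fun x hx y hy => dual_mul_eq_zero x y hx hy) fun i => ?_
  refine TrivSqZeroExt.ext ?_ ?_
  · exact (homSet_res (e.symm x) (r i)).trans (homSet_res (e.symm y) (r i)).symm
  · exact congrFun hxy i

end K680.Conv
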