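import Groth.Prelude.Def_ArtFun2
import Mathlib.CategoryTheory.Limits.Types.Limits
import Mathlib.CategoryTheory.Limits.FunctorCategory.Basic
import Mathlib.CategoryTheory.Limits.Types.Pullbacks
import Mathlib.CategoryTheory.Limits.Types.Products
import Mathlib.CategoryTheory.Limits.Shapes.Pullback.IsPullback.Basic

/-! Elementary facts on smooth morphisms of functors of Artin rings. -/

set_option autoImplicit false
universe u v
open CategoryTheory CategoryTheory.Limits

namespace K680.Easy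

open ArtFun ArtFun.Art

variable {Λ : Type u} {k : Type u} [CommRing Λ] [Field k] [Algebra Λ k]
  {F G H : Art Λ k ⥤ Type v}

/-- A surjection onto the final object. -/
lemma toBase_surjective (A : Art Λ k) : Function.Surjective (toBase A) := A.res_surjective

/-- A smooth morphism between functors with one-point value at `k` is objectwise surjective. -/
theorem surjective_app_of_isSmooth (η : F ⟶ G) (hη : IsSmooth η) (hF : H0 F) (hG : H0 G)
    (A : Art Λ k) : Function.Surjective (η.app A) := by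
  intro y
  obtain ⟨x₀⟩ := hF.1
  obtain ⟨z, hz⟩ := hη (toBase A) (toBase_surjective A) ⟨(x₀, y), hG.2.elim _ _⟩
  exact ⟨z, congrArg (fun t => t.1.2) hz⟩

theorem isSmoothFunctor_iff_of_isSmooth (η : F ⟶ G) (hη : IsSmooth η) (hF : H0 F) (hG : H0 G) :
    IsSmoothFunctor F ↔ IsSmoothFunctor G := by
  constructor
  · intro h B A μ hμ y
    obtain ⟨x, rfl⟩ := surjective_app_of_isSmooth η hη hF hG A y
    obtain ⟨x', rfl⟩ := h μ hμ x
    exact ⟨η.app B x', (NatTrans.naturality_apply η μ x').symm⟩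
  · intro h B A μ hμ x
    obtain ⟨y, hy⟩ := h μ hμ (η.app A x)
    obtain ⟨z, hz⟩ := hη μ hμ ⟨(x, y), hy.symm⟩
    exact ⟨z, congrArg (fun t => t.1.1) hz⟩

lemma isPullback_app {P : Art Λ k ⥤ Type v} {a : P ⟶ F} {b : P ⟶ H} {η : F ⟶ G} {θ : H ⟶ G}
    (h : IsPullback a b η θ) (A : Art Λ k) :
    IsPullback (a.app A) (b.app A) (η.app A) (θ.app A) :=
  h.map ((evaluation (Art Λ k) (Type v)).obj A)

/-- A base change of a smooth morphism is smooth. -/
theorem isSmooth_of_isPullback {P : Art Λ k ⥤ Type v} {a : P ⟶ F} {b : P ⟶ H} {η : F ⟶ G} {θ : H ⟶ G}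
    (h : IsPullback a b η θ) (hη : IsSmooth η) : IsSmooth b := by
  rintro B A μ hμ ⟨⟨x, y⟩, hxy⟩
  -- `x ∈ P(A)`, `y ∈ H(B)`, `b x = y|_A`
  change b.app A x = H.map μ y at hxy
  have h1 : η.app A (a.app A x) = G.map μ (θ.app B y) := by
    rw [← NatTrans.naturality_apply θ μ y, ← hxy, ← CategoryTheory.comp_apply, ← CategoryTheory.comp_apply, ← NatTrans.comp_app,
      ← NatTrans.comp_app, h.w]
  obtain ⟨z, hz⟩ := hη μ hμ ⟨(a.app A x, θ.app B y), h1⟩
  have hz1 : F.map μ z = a.app A x := congrArg (fun t => t.1.1) hz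
  have hz2 : η.app B z = θ.app B y := congrArg (fun t => t.1.2) hz
  obtain ⟨w, hw1, hw2⟩ := Types.exists_of_isPullback (isPullback_app h B) z y hz2
  refine ⟨w, Subtype.ext (Prod.ext ?_ hw2)⟩
  change P.map μ w = x
  refine Types.ext_of_isPullback (isPullback_app h A) ?_ ?_
  · rw [NatTrans.naturality_apply a μ w, hw1, hz1]
  · rw [NatTrans.naturality_apply b μ w, hw2, hxy]

/-- The product of two smooth functors is smooth. -/
theorem isSmoothFunctor_prod (sF : IsSmoothFunctor F) (sG : IsSmoothFunctor G) :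
    IsSmoothFunctor (F ⨯ G) := by
  intro B A μ hμ x
  have h : IsPullback (prod.fst : F ⨯ G ⟶ F) prod.snd (terminal.from F) (terminal.from G) :=
    IsPullback.of_hasBinaryProduct' F G
  obtain ⟨y, hy⟩ := sF μ hμ ((prod.fst : F ⨯ G ⟶ F).app A x)
  obtain ⟨z, hz⟩ := sG μ hμ ((prod.snd : F ⨯ G ⟶ G).app A x)
  have ht : IsTerminal ((⊤_ (Art Λ k ⥤ Type v)).obj B) :=
    terminalIsTerminal.isTerminalObj ((evaluation (Art Λ k) (Type v)).obj B) _
  have : Subsingleton ((⊤_ (Art Λ k ⥤ Type v)).obj B) := by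
    have := (Types.isTerminalEquivUnique _ ht)
    infer_instance
  obtain ⟨w, hw1, hw2⟩ := Types.exists_of_isPullback (isPullback_app h B) y z (Subsingleton.elim _ _)
  refine ⟨w, ?_⟩
  refine Types.ext_of_isPullback (isPullback_app h A) ?_ ?_
  · rw [NatTrans.naturality_apply, hw1, hy]
  · rw [NatTrans.naturality_apply, hw2, hz]

end K680.Easy
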