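import Groth.Agent.Deform.K680.Versal
import Mathlib.RingTheory.AdicCompletion.RingHom

/-! Families over a coefficient ring and formal elements; maps of coefficient rings from universal families. -/

set_option autoImplicit false
universe u v
open CategoryTheory

namespace K680.Formal

open ArtFun ArtFun.Art IsLocalRing K680.Opn K680.Tow K680.Versal

variable {Λ : Type u} {k : Type u} [CommRing Λ] [Field k] [Algebra Λ k]
  {F : Art Λ k ⥤ Type v} {R : CRing Λ k}

/-- A map to an Artinian object factors through a truncation. -/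
lemma exists_level {A : Art Λ k} (φ : HomSet R.carrier R.res A) : ∃ n, ∀ a ∈ CRing.mpow R n, φ.1 a = 0 := by
  obtain ⟨N, hN⟩ := (OI.ker φ).opn
  exact ⟨N, fun a ha => hN (Ideal.pow_le_pow_right (Nat.le_succ N) ha)⟩

/-- Factorisation through a truncation. -/
noncomputable def desc (n : ℕ) {A : Art Λ k} (φ : HomSet R.carrier R.res A) (h : ∀ a ∈ CRing.mpow R n, φ.1 a = 0) :
    R.trunc n ⟶ A :=
  ⟨Ideal.Quotient.liftₐ (CRing.mpow R n) φ.1 h, by
    apply AlgHom.ext
    intro x
    obtain ⟨a, rfl⟩ := Ideal.Quotient.mk_surjective x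
    exact congrArg (fun f => f a) φ.2⟩

lemma map_desc (n : ℕ) {A : Art Λ k} (φ : HomSet R.carrier R.res A) (h : ∀ a ∈ CRing.mpow R n, φ.1 a = 0) :
    HomSet.map (desc n φ h) (R.truncHom n) = φ := Subtype.ext (AlgHom.ext fun _ => rfl)

lemma truncHom_surjective (n : ℕ) : Function.Surjective (R.truncHom n).1 := Ideal.Quotient.mk_surjective

lemma truncHom_eq_zero_iff (n : ℕ) (a : R.carrier) : (R.truncHom n).1 a = 0 ↔ a ∈ CRing.mpow R n :=
  Ideal.Quotient.eq_zero_iff_mem

lemma trunc_hom_ext {n : ℕ} {A : Art Λ k} {f g : R.trunc n ⟶ A}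
    (h : HomSet.map f (R.truncHom n) = HomSet.map g (R.truncHom n)) : f = g := by
  apply Art.hom_ext
  apply AlgHom.ext
  intro x
  obtain ⟨a, rfl⟩ := truncHom_surjective n x
  exact congrArg (fun f => f.1 a) h

lemma truncMap_desc (n : ℕ) {A : Art Λ k} (φ : HomSet R.carrier R.res A) (h : ∀ a ∈ CRing.mpow R n, φ.1 a = 0)
    (h' : ∀ a ∈ CRing.mpow R (n + 1), φ.1 a = 0) : R.truncMap n ≫ desc n φ h = desc (n + 1) φ h' :=
  trunc_hom_ext (by rw [homSet_map_comp, CRing.truncMap_truncHom, map_desc, map_desc])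

lemma val_succ (u : FormalElt F R) (n : ℕ) {A : Art Λ k} (φ : HomSet R.carrier R.res A)
    (h : ∀ a ∈ CRing.mpow R n, φ.1 a = 0) (h' : ∀ a ∈ CRing.mpow R (n + 1), φ.1 a = 0) :
    F.map (desc (n + 1) φ h') (u.elt (n + 1)) = F.map (desc n φ h) (u.elt n) := by
  rw [← truncMap_desc n φ h h', ← map_map, u.compat]

lemma val_le (u : FormalElt F R) {A : Art Λ k} (φ : HomSet R.carrier R.res A) {m n : ℕ} (hmn : m ≤ n)
    (hm : ∀ a ∈ CRing.mpow R m, φ.1 a = 0) (hn : ∀ a ∈ CRing.mpow R n, φ.1 a = 0) :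
    F.map (desc n φ hn) (u.elt n) = F.map (desc m φ hm) (u.elt m) := by
  induction n, hmn using Nat.le_induction with
  | base => rfl
  | succ n hmn ih =>
    have h : ∀ a ∈ CRing.mpow R n, φ.1 a = 0 := fun a ha => hm a (Ideal.pow_le_pow_right (Nat.succ_le_succ hmn) ha)
    rw [val_succ u n φ h hn, ih h]

lemma val_independent (u : FormalElt F R) {A : Art Λ k} (φ : HomSet R.carrier R.res A) {m n : ℕ}
    (hm : ∀ a ∈ CRing.mpow R m, φ.1 a = 0) (hn : ∀ a ∈ CRing.mpow R n, φ.1 a = 0) :
    F.map (desc n φ hn) (u.elt n) = F.map (desc m φ hm) (u.elt m) := by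
  rcases le_total m n with h | h
  · exact val_le u φ h hm hn
  · exact (val_le u φ h hn hm).symm

/-- The family of a formal element. -/
noncomputable def ofFormalElt (u : FormalElt F R) : Family R.carrier R.res F where
  app A φ := F.map (desc (exists_level φ).choose φ (exists_level φ).choose_spec) (u.elt _)
  natural {A B} f φ := by
    have h : ∀ a ∈ CRing.mpow R (exists_level φ).choose, (HomSet.map f φ).1 a = 0 := fun a ha => by
      change f.toAlgHom (φ.1 a) = 0
      rw [(exists_level φ).choose_spec a ha, map_zero]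
    rw [val_independent u (HomSet.map f φ) h (exists_level (HomSet.map f φ)).choose_spec, map_map]
    have h2 : desc (exists_level φ).choose (HomSet.map f φ) h =
        desc (exists_level φ).choose φ (exists_level φ).choose_spec ≫ f :=
      trunc_hom_ext (by rw [homSet_map_comp, map_desc, map_desc])
    rw [h2]

lemma ofFormalElt_app (u : FormalElt F R) {A : Art Λ k} (φ : HomSet R.carrier R.res A) (n : ℕ)
    (h : ∀ a ∈ CRing.mpow R n, φ.1 a = 0) : (ofFormalElt u).app A φ = F.map (desc n φ h) (u.elt n) :=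
  val_independent u φ _ _

lemma toFormalElt_ofFormalElt (u : FormalElt F R) : (ofFormalElt u).toFormalElt = u := by
  apply FormalElt.ext'
  intro n
  change (ofFormalElt u).app _ (R.truncHom n) = u.elt n
  have h : ∀ a ∈ CRing.mpow R n, (R.truncHom n).1 a = 0 := fun a ha => (truncHom_eq_zero_iff n a).2 ha
  rw [ofFormalElt_app u _ n h]
  have : desc n (R.truncHom n) h = 𝟙 _ := trunc_hom_ext (by rw [map_desc, homSet_map_id])
  rw [this, map_id_apply]

lemma family_ext {ξ ξ' : Family R.carrier R.res F} (h : ∀ A φ, ξ.app A φ = ξ'.app A φ) : ξ = ξ' := by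
  cases ξ; cases ξ'
  congr
  funext A φ
  exact h A φ

lemma toFormalElt_injective : Function.Injective (fun ξ : Family R.carrier R.res F => ξ.toFormalElt) := by
  intro ξ ξ' h
  apply family_ext
  intro A φ
  obtain ⟨n, hn⟩ := exists_level φ
  have h1 : ξ.app _ (R.truncHom n) = ξ'.app _ (R.truncHom n) := congrArg (fun u => u.elt n) h
  rw [← map_desc n φ hn, ξ.natural, ξ'.natural, h1]

theorem bijective_toFormalElt : Function.Bijective (fun ξ : Family R.carrier R.res F => ξ.toFormalElt) :=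
  ⟨toFormalElt_injective, fun u => ⟨ofFormalElt u, toFormalElt_ofFormalElt u⟩⟩

/-- Maps between coefficient rings are determined by their truncations. -/
lemma algHom_eq_of_trunc {P : CRing Λ k} (g g' : P.carrier →ₐ[Λ] R.carrier)
    (h : ∀ n, (R.truncHom n).1.comp g = (R.truncHom n).1.comp g') : g = g' := by
  apply AlgHom.ext
  intro x
  rw [← sub_eq_zero]
  refine IsHausdorff.haus (I := maximalIdeal R.carrier) inferInstance _ fun n => ?_
  rw [SModEq.zero, smul_eq_mul, Ideal.mul_top]
  have h1 : (R.truncHom n).1 (g x) = (R.truncHom n).1 (g' x) := congrArg (fun f => f x) (h n)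
  rw [← sub_eq_zero, ← map_sub, truncHom_eq_zero_iff] at h1
  exact Ideal.pow_le_pow_right (Nat.le_succ n) h1

/-- Compatible maps to the truncations glue. -/
theorem exists_glue {P : CRing Λ k} (φ : ∀ n, HomSet P.carrier P.res (R.trunc n))
    (hφ : ∀ n, HomSet.map (R.truncMap n) (φ (n + 1)) = φ n) :
    ∃ g : P.carrier →ₐ[Λ] R.carrier, R.res.comp g = P.res ∧ ∀ n, (R.truncHom n).1.comp g = (φ n).1 := by
  have ha : StrictMono (fun n : ℕ => n + 1) := fun a b h => Nat.succ_lt_succ h
  let f : (n : ℕ) → P.carrier →+* R.carrier ⧸ maximalIdeal R.carrier ^ (n + 1) := fun n => (φ n).1.toRingHom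
  have hf : ∀ {m : ℕ}, (Ideal.Quotient.factorPow (maximalIdeal R.carrier) (ha.monotone m.le_succ)).comp (f (m + 1)) = f m := by
    intro m
    apply RingHom.ext
    intro x
    have h1 : (R.truncMap m) ((φ (m + 1)).1 x) = (φ m).1 x := congrArg (fun g => g.1 x) (hφ m)
    refine Eq.trans ?_ h1
    obtain ⟨y, hy⟩ := truncHom_surjective (m + 1) ((φ (m + 1)).1 x)
    change Ideal.Quotient.factorPow (maximalIdeal R.carrier) (Nat.le_succ (m + 1)) ((φ (m + 1)).1 x) = _
    rw [← hy]
    rfl
  let g := IsAdicComplete.StrictMono.liftRingHom (maximalIdeal R.carrier) ha f hf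
  have hg : ∀ n x, Ideal.Quotient.mk _ (g x) = f n x := fun n x =>
    IsAdicComplete.StrictMono.mk_liftRingHom (maximalIdeal R.carrier) ha f hf x
  have hg' : ∀ n x, (R.truncHom n).1 (g x) = (φ n).1 x := fun n x => hg n x
  have hc : ∀ l : Λ, g (algebraMap Λ _ l) = algebraMap Λ _ l := by
    intro l
    rw [← sub_eq_zero]
    refine IsHausdorff.haus (I := maximalIdeal R.carrier) inferInstance _ fun n => ?_
    rw [SModEq.zero, smul_eq_mul, Ideal.mul_top]
    have h1 : (R.truncHom n).1 (g (algebraMap Λ _ l)) = (R.truncHom n).1 (algebraMap Λ _ l) := by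
      rw [hg', AlgHom.commutes, AlgHom.commutes]
    rw [← sub_eq_zero, ← map_sub, truncHom_eq_zero_iff] at h1
    exact Ideal.pow_le_pow_right (Nat.le_succ n) h1
  refine ⟨{ g with commutes' := hc }, ?_, fun n => AlgHom.ext (hg' n)⟩
  apply AlgHom.ext
  intro x
  have h1 : (R.trunc 0).res ((R.truncHom 0).1 (g x)) = R.res (g x) := homSet_res (R.truncHom 0) (g x)
  refine h1.symm.trans ?_
  rw [hg', homSet_res]

/-- Families over `R` come from a unique map out of a universal pair. -/
theorem existsUnique_hom (P : CRing Λ k) (ξ : Family P.carrier P.res F) (hξ : IsUniversal ξ)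
    (R : CRing Λ k) (ζ : Family R.carrier R.res F) :
    ∃! g : P.carrier →ₐ[Λ] R.carrier, ∃ hg : R.res.comp g = P.res, ξ.along g hg = ζ := by
  choose φ hφ using fun n => (hξ (R.trunc n)).2 (ζ.app _ (R.truncHom n))
  obtain ⟨g, hg1, hg2⟩ := exists_glue φ fun n => (hξ _).1 (by
    rw [ξ.natural, hφ, hφ, ← ζ.natural, CRing.truncMap_truncHom])
  have key : ∀ (g' : P.carrier →ₐ[Λ] R.carrier) (hg' : R.res.comp g' = P.res), ξ.along g' hg' = ζ ↔
      ∀ n, (R.truncHom n).1.comp g' = (φ n).1 := by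
    intro g' hg'
    constructor
    · rintro h n
      have h1 : ξ.app _ ⟨(R.truncHom n).1.comp g', by rw [← AlgHom.comp_assoc, (R.truncHom n).2, hg']⟩ =
          ζ.app _ (R.truncHom n) := congrArg (fun ζ => Family.app ζ _ (R.truncHom n)) h
      rw [← hφ n] at h1
      exact congrArg Subtype.val ((hξ _).1 h1)
    · intro h
      apply toFormalElt_injective
      apply FormalElt.ext'
      intro n
      change ξ.app _ ⟨(R.truncHom n).1.comp g', _⟩ = ζ.app _ (R.truncHom n)
      rw [← hφ n]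
      congr 1
      exact Subtype.ext (h n)
  refine ⟨g, ⟨hg1, (key g hg1).2 hg2⟩, ?_⟩
  rintro g' ⟨hg', h⟩
  apply algHom_eq_of_trunc
  intro n
  rw [(key g' hg').1 h n, hg2]

lemma along_along {P Q : CRing Λ k} (ξ : Family P.carrier P.res F) (g : P.carrier →ₐ[Λ] Q.carrier)
    (hg : Q.res.comp g = P.res) (h : Q.carrier →ₐ[Λ] R.carrier) (hh : R.res.comp h = Q.res)
    (hgh : R.res.comp (h.comp g) = P.res) : (ξ.along g hg).along h hh = ξ.along (h.comp g) hgh :=
  family_ext fun _ _ => rfl

lemma along_id {P : CRing Λ k} (ξ : Family P.carrier P.res F) (h : P.res.comp (AlgHom.id Λ P.carrier) = P.res) :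
    ξ.along (AlgHom.id Λ P.carrier) h = ξ := family_ext fun _ _ => rfl

/-- Two pro-representing pairs are uniquely isomorphic. -/
theorem existsUnique_algEquiv (P Q : ProRep F) :
    ∃! e : P.ring.carrier ≃ₐ[Λ] Q.ring.carrier,
      ∃ he : Q.ring.res.comp e.toAlgHom = P.ring.res, P.family.along e.toAlgHom he = Q.family := by
  obtain ⟨g, ⟨hg, hgξ⟩, hgu⟩ := existsUnique_hom P.ring P.family P.universal Q.ring Q.family
  obtain ⟨h, ⟨hh, hhξ⟩, hhu⟩ := existsUnique_hom Q.ring Q.family Q.universal P.ring P.family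
  have h1 : h.comp g = AlgHom.id Λ _ := by
    have hc : P.ring.res.comp (h.comp g) = P.ring.res := by rw [← AlgHom.comp_assoc, hh, hg]
    exact (existsUnique_hom P.ring P.family P.universal P.ring P.family).unique
      ⟨hc, by rw [← along_along _ g hg h hh hc, hgξ, hhξ]⟩ ⟨AlgHom.comp_id _, along_id _ _⟩
  have h2 : g.comp h = AlgHom.id Λ _ := by
    have hc : Q.ring.res.comp (g.comp h) = Q.ring.res := by rw [← AlgHom.comp_assoc, hg, hh]
    exact (existsUnique_hom Q.ring Q.family Q.universal Q.ring Q.family).unique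
      ⟨hc, by rw [← along_along _ h hh g hg hc, hhξ, hgξ]⟩ ⟨AlgHom.comp_id _, along_id _ _⟩
  refine ⟨AlgEquiv.ofAlgHom g h h2 h1, ⟨hg, hgξ⟩, ?_⟩
  rintro e ⟨he, heξ⟩
  have h3 := hgu e.toAlgHom ⟨he, heξ⟩
  apply AlgEquiv.ext
  intro x
  exact congrArg (fun f => f x) h3

end K680.Formal
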