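import Groth.Agent.Sga3A.LiftGL
import Mathlib.RingTheory.RingHom.Flat
import Mathlib.RingTheory.Flat.Basic

/-! Bases of quotients of coefficient extensions, and gluing of ideals with free quotients along fibre
products of coefficient rings. -/

set_option autoImplicit false
set_option linter.style.haveILetI false
universe v

namespace K680.LHAlg

section defs

variable {A R : Type*} [CommRing A] [CommRing R] {ι : Type*}

/-- The linear combination `∑ α(aᵢ) rᵢ`. -/
def lc (α : A →+* R) (r : ι → R) (a : ι →₀ A) : R := a.sum fun i c => α c * r i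

lemma lc_add (α : A →+* R) (r : ι → R) (a b : ι →₀ A) : lc α r (a + b) = lc α r a + lc α r b := by
  classical
  unfold lc
  exact Finsupp.sum_add_index' (fun i => by rw [map_zero, zero_mul]) fun i c d => by rw [map_add, add_mul]

lemma lc_neg (α : A →+* R) (r : ι → R) (a : ι →₀ A) : lc α r (-a) = -lc α r a := by
  unfold lc
  rw [Finsupp.sum_neg_index (fun i => by rw [map_zero, zero_mul]), Finsupp.sum, Finsupp.sum,
    ← Finset.sum_neg_distrib]
  exact Finset.sum_congr rfl fun i _ => by rw [map_neg, neg_mul]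

lemma lc_sub (α : A →+* R) (r : ι → R) (a b : ι →₀ A) : lc α r (a - b) = lc α r a - lc α r b := by
  rw [sub_eq_add_neg, lc_add, lc_neg, sub_eq_add_neg]

lemma lc_zero (α : A →+* R) (r : ι → R) : lc α r 0 = 0 := by
  unfold lc
  rw [Finsupp.sum_zero_index]

lemma lc_smul (α : A →+* R) (r : ι → R) (c : A) (a : ι →₀ A) : lc α r (c • a) = α c * lc α r a := by
  unfold lc
  rw [Finsupp.sum_smul_index (fun i => by rw [map_zero, zero_mul]), Finsupp.sum, Finsupp.sum, Finset.mul_sum]
  exact Finset.sum_congr rfl fun i _ => by rw [map_mul, mul_assoc]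

/-- Compatibility of linear combinations with ring maps. -/
lemma map_lc {A' R' : Type*} [CommRing A'] [CommRing R'] {α : A →+* R} {α' : A' →+* R'} {r : ι → R}
    {r' : ι → R'} (p : A →+* A') (ρ : R →+* R') (h : ρ.comp α = α'.comp p) (hr : ∀ i, ρ (r i) = r' i)
    (a : ι →₀ A) : ρ (lc α r a) = lc α' r' (a.mapRange p (map_zero p)) := by
  unfold lc
  rw [Finsupp.sum_mapRange_index (fun i => by rw [map_zero, zero_mul]), Finsupp.sum, Finsupp.sum, map_sum]
  refine Finset.sum_congr rfl fun i _ => ?_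
  rw [map_mul, hr]
  exact congrArg (· * r' i) (RingHom.congr_fun h _)

/-- The classes of the `rᵢ` are an `A`-basis of `R/J`. -/
structure IsBas (α : A →+* R) (J : Ideal R) (r : ι → R) : Prop where
  span : ∀ x : R, ∃ a : ι →₀ A, x - lc α r a ∈ J
  indep : ∀ a : ι →₀ A, lc α r a ∈ J → a = 0

lemma flat_of_isBas {α : A →+* R} {J : Ideal R} {r : ι → R} (h : IsBas α J r) :
    ((Ideal.Quotient.mk J).comp α).Flat := by
  letI : Algebra A (R ⧸ J) := ((Ideal.Quotient.mk J).comp α).toAlgebra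
  let f : (ι →₀ A) →ₗ[A] R ⧸ J :=
    { toFun := fun a => Ideal.Quotient.mk J (lc α r a)
      map_add' := fun a b => by rw [lc_add, map_add]
      map_smul' := fun c a => by
        rw [lc_smul, map_mul, RingHom.id_apply, Algebra.smul_def]
        rfl }
  have hf : Function.Bijective f := by
    constructor
    · intro a b hab
      have h1 : lc α r (a - b) ∈ J := by
        rw [lc_sub]
        exact Ideal.Quotient.eq.1 hab
      exact sub_eq_zero.1 (h.indep _ h1)
    · intro x
      obtain ⟨x, rfl⟩ := Ideal.Quotient.mk_surjective x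
      obtain ⟨a, ha⟩ := h.span x
      exact ⟨a, (Ideal.Quotient.eq.2 ha).symm⟩
  exact Module.Flat.of_linearEquiv (LinearEquiv.ofBijective f hf).symm

/-- Over a nilpotent ideal `m`, a flat quotient whose reduction has the classes of the `rᵢ` as a basis. -/
lemma isBas_of_flat {α : A →+* R} {J : Ideal R} {r : ι → R} {m : Ideal A} (hm : IsNilpotent m)
    (hfl : ((Ideal.Quotient.mk J).comp α).Flat) (h1 : ∀ x : R, ∃ a : ι →₀ A, x - lc α r a ∈ J ⊔ m.map α)
    (h2 : ∀ a : ι →₀ A, lc α r a ∈ J ⊔ m.map α → ∀ i, a i ∈ m) : IsBas α J r := by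
  letI : Algebra A (R ⧸ J) := ((Ideal.Quotient.mk J).comp α).toAlgebra
  let f : (ι →₀ A) →ₗ[A] R ⧸ J :=
    { toFun := fun a => Ideal.Quotient.mk J (lc α r a)
      map_add' := fun a b => by rw [lc_add, map_add]
      map_smul' := fun c a => by
        rw [lc_smul, map_mul, RingHom.id_apply, Algebra.smul_def]
        rfl }
  haveI : Module.Flat A (R ⧸ J) := hfl
  have key : ∀ x : R, Ideal.Quotient.mk J x ∈ m • (⊤ : Submodule A (R ⧸ J)) ↔ x ∈ J ⊔ m.map α := by
    intro x
    have e1 : m • (⊤ : Submodule A (R ⧸ J)) = (m.map (algebraMap A (R ⧸ J))).restrictScalars A :=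
      Ideal.smul_top_eq_map m
    rw [e1]
    change Ideal.Quotient.mk J x ∈ m.map ((Ideal.Quotient.mk J).comp α) ↔ _
    rw [← Ideal.map_map, Ideal.mem_quotient_iff_mem_sup, sup_comm]
  have hf : Function.Bijective f := by
    refine Groth.Agent.Sga3A.LiftGL.bijective_of_nilpotent hm f ?_ ?_
    · intro n
      obtain ⟨x, rfl⟩ := Ideal.Quotient.mk_surjective n
      obtain ⟨a, ha⟩ := h1 x
      refine ⟨a, ?_⟩
      have := (key (x - lc α r a)).2 ha
      rwa [map_sub] at this
    · intro a ha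
      have h3 := h2 a ((key _).1 ha)
      classical
      rw [← a.sum_single]
      refine Submodule.sum_mem _ fun i _ => ?_
      have h4 : Finsupp.single i (a i) = a i • Finsupp.single i (1 : A) := by
        rw [Finsupp.smul_single, smul_eq_mul, mul_one]
      rw [h4]
      exact Submodule.smul_mem_smul (h3 i) Submodule.mem_top
  constructor
  · intro x
    obtain ⟨a, ha⟩ := hf.2 (Ideal.Quotient.mk J x)
    exact ⟨a, Ideal.Quotient.eq.1 ha.symm⟩
  · intro a ha
    refine hf.1 ?_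
    rw [map_zero]
    exact Ideal.Quotient.eq_zero_iff_mem.2 ha

/-- Two nested ideals with a common basis of the quotients agree. -/
lemma eq_of_isBas {α : A →+* R} {K J : Ideal R} {r : ι → R} (hK : ∀ x : R, ∃ a : ι →₀ A, x - lc α r a ∈ K)
    (hJ : ∀ a : ι →₀ A, lc α r a ∈ J → a = 0) (h : K ≤ J) : K = J := by
  refine le_antisymm h fun x hx => ?_
  obtain ⟨a, ha⟩ := hK x
  have h1 : lc α r a ∈ J := by
    have := J.sub_mem hx (h ha)
    rwa [sub_sub_cancel] at this
  rw [hJ a h1, lc_zero, sub_zero] at ha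
  exact ha

/-- `R` is generated as an `A`-module by the image of `ρ`. -/
def Gen {R₀ : Type*} [CommRing R₀] (α : A →+* R) (ρ : R₀ →+* R) : Prop :=
  ∀ x : R, x ∈ AddSubgroup.closure {y : R | ∃ (a : A) (s : R₀), y = α a * ρ s}

lemma Gen.of_comp {R₀ R₁ : Type*} [CommRing R₀] [CommRing R₁] {α : A →+* R} {ρ : R₁ →+* R} {τ : R₀ →+* R₁}
    (h : Gen α (ρ.comp τ)) : Gen α ρ := fun x => by
  refine AddSubgroup.closure_mono ?_ (h x)
  rintro _ ⟨a, s, rfl⟩
  exact ⟨a, τ s, rfl⟩

/-- The spanning property modulo the extension of an ideal. -/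
lemma span_map {B R₁ : Type*} [CommRing B] [CommRing R₁] {α : A →+* R} {β : B →+* R₁} {p : B →+* A}
    {ρ : R₁ →+* R} (h : ρ.comp β = α.comp p) (hg : Gen α ρ) {r₁ : ι → R₁} {r : ι → R}
    (hr : ∀ i, ρ (r₁ i) = r i) {J : Ideal R₁} (hJ : ∀ x : R₁, ∃ b : ι →₀ B, x - lc β r₁ b ∈ J) (x : R) :
    ∃ a : ι →₀ A, x - lc α r a ∈ J.map ρ := by
  refine AddSubgroup.closure_induction ?_ ?_ ?_ ?_ (hg x)
  · rintro _ ⟨a, s, rfl⟩
    obtain ⟨b, hb⟩ := hJ s
    refine ⟨a • b.mapRange p (map_zero p), ?_⟩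
    rw [lc_smul, ← map_lc p ρ h hr, ← mul_sub, ← map_sub]
    exact Ideal.mul_mem_left _ _ (Ideal.mem_map_of_mem _ hb)
  · exact ⟨0, by rw [lc_zero, sub_zero]; exact Ideal.zero_mem _⟩
  · rintro x y _ _ ⟨a, ha⟩ ⟨b, hb⟩
    refine ⟨a + b, ?_⟩
    rw [lc_add, add_sub_add_comm]
    exact Ideal.add_mem _ ha hb
  · rintro x _ ⟨a, ha⟩
    refine ⟨-a, ?_⟩
    rw [lc_neg, neg_sub_neg, ← neg_sub]
    exact neg_mem ha

/-- Base change of a basis. -/
lemma eq_map_of_isBas {B R₁ : Type*} [CommRing B] [CommRing R₁] {α : A →+* R} {β : B →+* R₁} {p : B →+* A}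
    {ρ : R₁ →+* R} (h : ρ.comp β = α.comp p) (hg : Gen α ρ) {r₁ : ι → R₁} {r : ι → R}
    (hr : ∀ i, ρ (r₁ i) = r i) {J : Ideal R₁} {K : Ideal R} (hJ : IsBas β J r₁) (hK : IsBas α K r)
    (hJK : J.map ρ ≤ K) : J.map ρ = K :=
  eq_of_isBas (span_map h hg hr hJ.span) hK.indep hJK

end defs

/-- Gluing of ideals with free quotients along a fibre product of coefficient rings. -/
theorem isBas_inf {ι B A' A'' A RB R' R'' RA : Type*} [CommRing B] [CommRing A'] [CommRing A''] [CommRing A]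
    [CommRing RB] [CommRing R'] [CommRing R''] [CommRing RA]
    {p' : B →+* A'} {p'' : B →+* A''} {f' : A' →+* A} {f'' : A'' →+* A}
    (hsurj : ∀ a' a'', f' a' = f'' a'' → ∃ b, p' b = a' ∧ p'' b = a'')
    (hinj : ∀ b, p' b = 0 → p'' b = 0 → b = 0)
    {β : B →+* RB} {α' : A' →+* R'} {α'' : A'' →+* R''} {α : A →+* RA}
    {ρ' : RB →+* R'} {ρ'' : RB →+* R''} {σ' : R' →+* RA} {σ'' : R'' →+* RA}
    (hρ' : ρ'.comp β = α'.comp p') (hρ'' : ρ''.comp β = α''.comp p'')
    (hσ' : σ'.comp α' = α.comp f') (hσ'' : σ''.comp α'' = α.comp f'')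
    (hρσ : σ'.comp ρ' = σ''.comp ρ'')
    {rB : ι → RB} {r' : ι → R'} {r'' : ι → R''} {rA : ι → RA}
    (hr' : ∀ i, ρ' (rB i) = r' i) (hr'' : ∀ i, ρ'' (rB i) = r'' i)
    (hrA' : ∀ i, σ' (r' i) = rA i) (hrA'' : ∀ i, σ'' (r'' i) = rA i)
    {J' : Ideal R'} {J'' : Ideal R''} {J : Ideal RA} (h' : IsBas α' J' r') (h'' : IsBas α'' J'' r'')
    (hJ' : J'.map σ' ≤ J) (hJ'' : J''.map σ'' ≤ J) (h : IsBas α J rA) :
    IsBas β (J'.comap ρ' ⊓ J''.comap ρ'') rB := by
  constructor
  · intro x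
    obtain ⟨a', ha'⟩ := h'.span (ρ' x)
    obtain ⟨a'', ha''⟩ := h''.span (ρ'' x)
    have h1 : σ' (ρ' x) - lc α rA (a'.mapRange f' (map_zero f')) ∈ J := by
      rw [← map_lc f' σ' hσ' hrA', ← map_sub]
      exact hJ' (Ideal.mem_map_of_mem _ ha')
    have h2 : σ' (ρ' x) - lc α rA (a''.mapRange f'' (map_zero f'')) ∈ J := by
      rw [← RingHom.comp_apply, hρσ, RingHom.comp_apply, ← map_lc f'' σ'' hσ'' hrA'', ← map_sub]
      exact hJ'' (Ideal.mem_map_of_mem _ ha'')
    have h3 : a'.mapRange f' (map_zero f') = a''.mapRange f'' (map_zero f'') := by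
      have h4 := J.sub_mem h2 h1
      rw [sub_sub_sub_cancel_left, ← lc_sub] at h4
      exact sub_eq_zero.1 (h.indep _ h4)
    have h5 : ∀ i, ∃ b, p' b = a' i ∧ p'' b = a'' i := fun i => hsurj _ _ (by
      have := DFunLike.congr_fun h3 i
      rwa [Finsupp.mapRange_apply, Finsupp.mapRange_apply] at this)
    choose b hb' hb'' using h5
    classical
    let bf : ι →₀ B := Finsupp.onFinset (a'.support ∪ a''.support) (fun i => b i) (by
      intro i hi
      by_contra hn
      rw [Finset.notMem_union, Finsupp.notMem_support_iff, Finsupp.notMem_support_iff] at hn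
      exact hi (hinj _ (by rw [hb', hn.1]) (by rw [hb'', hn.2])))
    have hbf' : bf.mapRange p' (map_zero p') = a' := Finsupp.ext fun i => hb' i
    have hbf'' : bf.mapRange p'' (map_zero p'') = a'' := Finsupp.ext fun i => hb'' i
    refine ⟨bf, Ideal.mem_inf.2 ⟨?_, ?_⟩⟩
    · rw [Ideal.mem_comap, map_sub, map_lc p' ρ' hρ' hr', hbf']
      exact ha'
    · rw [Ideal.mem_comap, map_sub, map_lc p'' ρ'' hρ'' hr'', hbf'']
      exact ha''
  · intro b hb
    obtain ⟨hb1, hb2⟩ := Ideal.mem_inf.1 hb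
    rw [Ideal.mem_comap, map_lc p' ρ' hρ' hr'] at hb1
    rw [Ideal.mem_comap, map_lc p'' ρ'' hρ'' hr''] at hb2
    have h1 := h'.indep _ hb1
    have h2 := h''.indep _ hb2
    refine Finsupp.ext fun i => hinj _ ?_ ?_
    · have := DFunLike.congr_fun h1 i
      rwa [Finsupp.mapRange_apply] at this
    · have := DFunLike.congr_fun h2 i
      rwa [Finsupp.mapRange_apply] at this

/-- The kernel of the reduction. -/
lemma ker_eq {k R₀ A R : Type*} [CommRing k] [CommRing R₀] [CommRing A] [CommRing R]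
    {c₀ : k →+* R₀} {e : k →+* A} {res : A →+* k} (hres : ∀ c, res (e c) = c)
    {α : A →+* R} {ι₀ : R₀ →+* R} {κ : R →+* R₀} (h1 : ∀ c, α (e c) = ι₀ (c₀ c))
    (h2 : ∀ s, κ (ι₀ s) = s) (h3 : ∀ a, κ (α a) = c₀ (res a)) (hg : Gen α ι₀) :
    RingHom.ker κ = (RingHom.ker res).map α := by
  apply le_antisymm
  · have key : ∀ x : R, x - ι₀ (κ x) ∈ (RingHom.ker res).map α := by
      intro x
      refine AddSubgroup.closure_induction ?_ ?_ ?_ ?_ (hg x)
      · rintro _ ⟨a, s, rfl⟩
        rw [map_mul, h2, h3, map_mul, ← h1, ← sub_mul, ← map_sub]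
        refine Ideal.mul_mem_right _ _ (Ideal.mem_map_of_mem _ ?_)
        rw [RingHom.mem_ker, map_sub, hres, sub_self]
      · rw [map_zero, map_zero, sub_zero]
        exact Ideal.zero_mem _
      · intro x y _ _ hx hy
        rw [map_add, map_add, add_sub_add_comm]
        exact Ideal.add_mem _ hx hy
      · intro x _ hx
        rw [map_neg, map_neg, neg_sub_neg, ← neg_sub]
        exact neg_mem hx
    intro x hx
    have := key x
    rw [RingHom.mem_ker] at hx
    rwa [hx, map_zero, sub_zero] at this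
  · rw [Ideal.map_le_iff_le_comap]
    intro a ha
    rw [RingHom.mem_ker] at ha
    rw [Ideal.mem_comap, RingHom.mem_ker, h3, ha, map_zero]

/-- The basis of the quotient over an Artinian coefficient ring from a basis over the residue field. -/
theorem isBas_of_flat' {ι k R₀ A R : Type*} [CommRing k] [CommRing R₀] [CommRing A] [CommRing R]
    {c₀ : k →+* R₀} {e : k →+* A} {res : A →+* k} (hres : ∀ c, res (e c) = c)
    {α : A →+* R} {ι₀ : R₀ →+* R} {κ : R →+* R₀} (h1 : ∀ c, α (e c) = ι₀ (c₀ c))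
    (h2 : ∀ s, κ (ι₀ s) = s) (h3 : ∀ a, κ (α a) = c₀ (res a)) (hg : Gen α ι₀)
    (hm : IsNilpotent (RingHom.ker res)) {J : Ideal R} (hfl : ((Ideal.Quotient.mk J).comp α).Flat)
    {s : ι → R₀} (hs : IsBas c₀ (J.map κ) s) : IsBas α J (fun i => ι₀ (s i)) := by
  have hker := ker_eq hres h1 h2 h3 hg
  have hk : ∀ x : R, κ x ∈ J.map κ ↔ x ∈ J ⊔ (RingHom.ker res).map α := by
    intro x
    rw [← hker, ← Ideal.mem_comap, Ideal.comap_map_of_surjective κ (fun s => ⟨ι₀ s, h2 s⟩)]
    rfl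
  have hlc : ∀ a : ι →₀ A, κ (lc α (fun i => ι₀ (s i)) a) = lc c₀ s (a.mapRange res (map_zero res)) :=
    fun a => map_lc res κ (RingHom.ext h3) (fun i => h2 _) a
  refine isBas_of_flat hm hfl ?_ ?_
  · intro x
    obtain ⟨c, hc⟩ := hs.span (κ x)
    refine ⟨c.mapRange e (map_zero e), ?_⟩
    rw [← hk, map_sub, hlc]
    have : (c.mapRange e (map_zero e)).mapRange res (map_zero res) = c := Finsupp.ext fun i => hres _
    rwa [this]
  · intro a ha i
    rw [← hk, hlc] at ha
    have h4 := hs.indep _ ha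
    have := DFunLike.congr_fun h4 i
    rwa [Finsupp.mapRange_apply] at this

/-- Every quotient of an algebra over a field has a basis coming from the algebra. -/
theorem exists_isBas {k : Type*} {R₀ : Type v} [Field k] [CommRing R₀] (c₀ : k →+* R₀) (J : Ideal R₀) :
    ∃ (ι : Type v) (s : ι → R₀), IsBas c₀ J s := by
  letI : Algebra k (R₀ ⧸ J) := ((Ideal.Quotient.mk J).comp c₀).toAlgebra
  let b := Module.Basis.ofVectorSpace k (R₀ ⧸ J)
  have hsur := Ideal.Quotient.mk_surjective (I := J)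
  choose s hs using fun i => hsur (b i)
  have key : ∀ c, Ideal.Quotient.mk J (lc c₀ s c) = Finsupp.linearCombination k b c := by
    intro c
    rw [lc, Finsupp.sum, map_sum, Finsupp.linearCombination_apply, Finsupp.sum]
    refine Finset.sum_congr rfl fun i _ => ?_
    rw [map_mul, hs, Algebra.smul_def]
    rfl
  refine ⟨_, s, ⟨fun x => ?_, fun c hc => ?_⟩⟩
  · refine ⟨b.repr (Ideal.Quotient.mk J x), ?_⟩
    rw [← Ideal.Quotient.eq, key, b.linearCombination_repr]
  · have h1 := Ideal.Quotient.eq_zero_iff_mem.2 hc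
    rw [key] at h1
    have h2 := b.linearIndependent
    rw [linearIndependent_iff] at h2
    exact h2 _ h1

end K680.LHAlg
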