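import Groth.Agent.Deform.K680.LHAlg
import Groth.Agent.Deform.K680.FlatIdeal
import Groth.Agent.Sga7.H331.Sec
import Groth.Agent.Divis.IdealComap
import Groth.Prelude.Def_ArtFun6
import Mathlib.Algebra.Category.Ring.Constructions
import Mathlib.RingTheory.HopkinsLevitzki

/-! Charts of `Y ×_k Spec A` over affine opens of `Y`. -/

set_option autoImplicit false
set_option linter.style.haveILetI false
universe u
open CategoryTheory CategoryTheory.Limits AlgebraicGeometry ArtFun ArtFun.Art
open Groth.Agent.Sga7.H331.Sec K680.LHAlg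

namespace K680.LHChart

variable {k : Type u} [Field k] {Y : Scheme.{u}} (y : Y ⟶ specPt k)

instance isAffineHom_fst (A : Art k k) : IsAffineHom (pullback.fst y (specOver A)) := by
  haveI : IsAffineHom (specOver A) := isAffineHom_of_isAffine _
  exact MorphismProperty.of_isPullback (P := @IsAffineHom) (IsPullback.of_hasPullback y (specOver A)).flip
    inferInstance

/-- The chart of `Y ×_k Spec A` over an affine open of `Y`. -/
noncomputable def V (A : Art k k) (U : Y.affineOpens) : (XA y A).affineOpens :=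
  ⟨pullback.fst y (specOver A) ⁻¹ᵁ U.1, U.2.preimage _⟩

lemma iSup_V (A : Art k k) {I : Type*} (U : I → Y.affineOpens) (hU : ⨆ i, (U i).1 = ⊤) :
    ⨆ i, (V y A (U i)).1 = ⊤ := by
  change ⨆ i, pullback.fst y (specOver A) ⁻¹ᵁ (U i).1 = ⊤
  rw [← Scheme.Hom.preimage_iSup, hU]
  rfl

lemma V_le {A B : Art k k} (g : A ⟶ B) (U : Y.affineOpens) : (V y B U).1 ≤ XAmap y g ⁻¹ᵁ (V y A U).1 := by
  change _ ≤ XAmap y g ⁻¹ᵁ pullback.fst y (specOver A) ⁻¹ᵁ U.1
  rw [← Scheme.Hom.comp_preimage, XAmap_fst]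
  exact le_rfl

lemma V_eq {A B : Art k k} (g : A ⟶ B) (U : Y.affineOpens) : (V y B U).1 = XAmap y g ⁻¹ᵁ (V y A U).1 := by
  change _ = XAmap y g ⁻¹ᵁ pullback.fst y (specOver A) ⁻¹ᵁ U.1
  rw [← Scheme.Hom.comp_preimage, XAmap_fst]
  rfl

lemma le_V (A : Art k k) (U : Y.affineOpens) : U.1 ≤ XAincl y A ⁻¹ᵁ (V y A U).1 := by
  change _ ≤ XAincl y A ⁻¹ᵁ pullback.fst y (specOver A) ⁻¹ᵁ U.1
  rw [← Scheme.Hom.comp_preimage, XAincl_fst]
  exact le_rfl

/-- Coefficients. -/
noncomputable def al (A : Art k k) (U : Y.affineOpens) : A →+* Γ(XA y A, (V y A U).1) :=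
  (co (A := CommRingCat.of A) (XApr y A) (V y A U).1).hom

/-- Coefficients over the field. -/
noncomputable def c₀ (U : Y.affineOpens) : k →+* Γ(Y, U.1) := (co (A := CommRingCat.of k) y U.1).hom

lemma V_le_fst (A : Art k k) (U : Y.affineOpens) : (V y A U).1 ≤ pullback.fst y (specOver A) ⁻¹ᵁ U.1 := le_rfl

/-- Functions on the base. -/
noncomputable def io (A : Art k k) (U : Y.affineOpens) : Γ(Y, U.1) →+* Γ(XA y A, (V y A U).1) :=
  ((pullback.fst y (specOver A)).appLE U.1 (V y A U).1 (V_le_fst y A U)).hom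

/-- Change of coefficients. -/
noncomputable def rho {A B : Art k k} (g : A ⟶ B) (U : Y.affineOpens) :
    Γ(XA y A, (V y A U).1) →+* Γ(XA y B, (V y B U).1) :=
  ((XAmap y g).appLE (V y A U).1 (V y B U).1 (V_le y g U)).hom

/-- Reduction to the closed fibre. -/
noncomputable def ka (A : Art k k) (U : Y.affineOpens) : Γ(XA y A, (V y A U).1) →+* Γ(Y, U.1) :=
  ((XAincl y A).appLE (V y A U).1 U.1 (le_V y A U)).hom

lemma appLE_congr_hom {X Z : Scheme.{u}} {f g : X ⟶ Z} (h : f = g) {U : Z.Opens} {W : X.Opens} (e : W ≤ f ⁻¹ᵁ U)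
    (e' : W ≤ g ⁻¹ᵁ U) : f.appLE U W e = g.appLE U W e' := by
  subst h; rfl

lemma rho_comp_io {A B : Art k k} (g : A ⟶ B) (U : Y.affineOpens) :
    (rho y g U).comp (io y A U) = io y B U := by
  rw [rho, io, ← CommRingCat.hom_comp, Scheme.Hom.appLE_comp_appLE]
  exact congrArg CommRingCat.Hom.hom (appLE_congr_hom (XAmap_fst y g) _ _)

lemma ka_comp_io (A : Art k k) (U : Y.affineOpens) :
    (ka y A U).comp (io y A U) = RingHom.id _ := by
  rw [ka, io, ← CommRingCat.hom_comp, Scheme.Hom.appLE_comp_appLE]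
  refine (congrArg CommRingCat.Hom.hom (appLE_congr_hom (XAincl_fst y A) _ le_rfl)).trans ?_
  have h : (𝟙 Y : Y ⟶ Y).appLE U.1 U.1 le_rfl = 𝟙 _ := by
    simp only [Scheme.Hom.appLE, Scheme.Hom.id_app]
    exact (Category.id_comp _).trans (Y.presheaf.map_id _)
  exact congrArg CommRingCat.Hom.hom h

lemma ka_comp_rho {A B : Art k k} (g : A ⟶ B) (U : Y.affineOpens) :
    (ka y B U).comp (rho y g U) = ka y A U := by
  rw [ka, rho, ← CommRingCat.hom_comp, Scheme.Hom.appLE_comp_appLE]
  exact congrArg CommRingCat.Hom.hom (appLE_congr_hom (XAincl_XAmap y g) _ _)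

lemma rho_comp_rho {A B C : Art k k} (g : A ⟶ B) (h : B ⟶ C) (U : Y.affineOpens) :
    (rho y h U).comp (rho y g U) = rho y (g ≫ h) U := by
  rw [rho, rho, ← CommRingCat.hom_comp, Scheme.Hom.appLE_comp_appLE]
  exact congrArg CommRingCat.Hom.hom (appLE_congr_hom (XAmap_comp y g h).symm _ _)

lemma rho_comp_al {A B : Art k k} (g : A ⟶ B) (U : Y.affineOpens) :
    (rho y g U).comp (al y A U) = (al y B U).comp g.toAlgHom.toRingHom := by
  have := co_appLE (A := CommRingCat.of A) (A' := CommRingCat.of B) (XApr y A) (XApr y B)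
    (φ := CommRingCat.ofHom g.toAlgHom.toRingHom) (XAmap_snd y g) (V_le y g U)
  exact congrArg CommRingCat.Hom.hom this

lemma ka_comp_al (A : Art k k) (U : Y.affineOpens) :
    (ka y A U).comp (al y A U) = (c₀ y U).comp A.res.toRingHom := by
  have := co_appLE (A := CommRingCat.of A) (A' := CommRingCat.of k) (XApr y A) y
    (φ := CommRingCat.ofHom A.res.toRingHom) (XAincl_snd y A) (le_V y A U)
  exact congrArg CommRingCat.Hom.hom this

lemma io_comp_c₀ (A : Art k k) (U : Y.affineOpens) :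
    (io y A U).comp (c₀ y U) = (al y A U).comp (ofBase A).toAlgHom.toRingHom := by
  have := co_appLE (A := CommRingCat.of k) (A' := CommRingCat.of A) y (XApr y A)
    (φ := CommRingCat.ofHom (ofBase A).toAlgHom.toRingHom) pullback.condition (V := U.1) (V' := (V y A U).1) le_rfl
  exact congrArg CommRingCat.Hom.hom this

lemma isPushout (A : Art k k) (U : Y.affineOpens) :
    IsPushout (CommRingCat.ofHom (ofBase A).toAlgHom.toRingHom) (CommRingCat.ofHom (c₀ y U))
      (CommRingCat.ofHom (al y A U)) (CommRingCat.ofHom (io y A U)) :=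
  isPushout_co (A := CommRingCat.of k) (A' := CommRingCat.of A) y (XApr y A)
    (φ := CommRingCat.ofHom (ofBase A).toAlgHom.toRingHom) (h := pullback.fst y (specOver A))
    (IsPullback.of_hasPullback _ _) (V := U.1) U.2 (V' := (V y A U).1) rfl

lemma gen_io (A : Art k k) (U : Y.affineOpens) : Gen (al y A U) (io y A U) := by
  letI : Algebra k Γ(Y, U.1) := (c₀ y U).toAlgebra
  letI : Algebra A Γ(XA y A, (V y A U).1) := (al y A U).toAlgebra
  letI : Algebra Γ(Y, U.1) Γ(XA y A, (V y A U).1) := (io y A U).toAlgebra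
  letI : Algebra k Γ(XA y A, (V y A U).1) := ((io y A U).comp (c₀ y U)).toAlgebra
  haveI : IsScalarTower k Γ(Y, U.1) Γ(XA y A, (V y A U).1) := IsScalarTower.of_algebraMap_eq' rfl
  haveI : IsScalarTower k A Γ(XA y A, (V y A U).1) := IsScalarTower.of_algebraMap_eq' (io_comp_c₀ y A U)
  have h1 : Algebra.IsPushout k A Γ(Y, U.1) Γ(XA y A, (V y A U).1) :=
    CommRingCat.isPushout_iff_isPushout.1 (isPushout y A U)
  intro x
  refine h1.1.inductionOn x (motive := fun x => x ∈ AddSubgroup.closure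
    {z | ∃ (a : A) (s : Γ(Y, U.1)), z = al y A U a * io y A U s}) ?_ ?_ ?_ ?_
  · exact AddSubgroup.zero_mem _
  · intro s
    refine AddSubgroup.subset_closure ⟨1, s, ?_⟩
    rw [map_one, one_mul]
    rfl
  · intro a n hn
    refine AddSubgroup.closure_induction ?_ ?_ ?_ ?_ hn
    · rintro _ ⟨b, s, rfl⟩
      refine AddSubgroup.subset_closure ⟨a * b, s, ?_⟩
      rw [Algebra.smul_def, map_mul, mul_assoc]
      rfl
    · rw [smul_zero]
      exact AddSubgroup.zero_mem _
    · intro p q _ _ hp hq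
      rw [smul_add]
      exact AddSubgroup.add_mem _ hp hq
    · intro p _ hp
      rw [smul_neg]
      exact neg_mem hp
  · intro p q hp hq
    exact AddSubgroup.add_mem _ hp hq

lemma gen_rho {A B : Art k k} (g : A ⟶ B) (U : Y.affineOpens) : Gen (al y B U) (rho y g U) :=
  Gen.of_comp (τ := io y A U) (by rw [rho_comp_io]; exact gen_io y B U)

/-- Flatness over the coefficient ring on the charts. -/
theorem flatOver_iff (A : Art k k) (I : (XA y A).IdealSheafData) {ι : Type*} (U : ι → Y.affineOpens)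
    (hU : ⨆ i, (U i).1 = ⊤) :
    FlatOver Y y A I ↔ ∀ i, ((Ideal.Quotient.mk (I.ideal (V y A (U i)))).comp (al y A (U i))).Flat := by
  rw [FlatOver, K680.FlatIdeal.flat_iff I (XApr y A) (fun i => V y A (U i)) (iSup_V y A U hU)]
  refine forall_congr' fun i => ?_
  have h1 : (XApr y A).appLE ⊤ (V y A (U i)).1 le_top =
      (Scheme.ΓSpecIso (CommRingCat.of A)).hom ≫ co (A := CommRingCat.of A) (XApr y A) (V y A (U i)).1 := by
    rw [co, Iso.hom_inv_id_assoc]
  rw [h1, CommRingCat.hom_comp]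
  have h2 := RingHom.Flat.respectsIso
  let e := (Scheme.ΓSpecIso (CommRingCat.of A)).commRingCatIsoToRingEquiv
  constructor
  · intro h
    have h3 := h2.2 _ e.symm h
    have h4 : ((Ideal.Quotient.mk (I.ideal (V y A (U i)))).comp
      ((co (A := CommRingCat.of A) (XApr y A) (V y A (U i)).1).hom.comp
        (Scheme.ΓSpecIso (CommRingCat.of A)).hom.hom)).comp e.symm.toRingHom =
        (Ideal.Quotient.mk (I.ideal (V y A (U i)))).comp (al y A (U i)) := by
      ext a
      change Ideal.Quotient.mk _ ((co (A := CommRingCat.of A) (XApr y A) (V y A (U i)).1).hom (e (e.symm a))) = _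
      rw [e.apply_symm_apply]
      rfl
    rwa [h4] at h3
  · intro h
    exact h2.2 _ e h

/-- The reduction of an ideal sheaf on a chart. -/
lemma ideal_comap_incl (A : Art k k) (I : (XA y A).IdealSheafData) (U : Y.affineOpens) :
    (I.comap (XAincl y A)).ideal U = (I.ideal (V y A U)).map (ka y A U) :=
  Groth.Agent.Divis.IdealComap.ideal_comap I (XAincl y A) (V y A U) U (le_V y A U)

lemma ideal_comap_map {A B : Art k k} (g : A ⟶ B) (I : (XA y A).IdealSheafData) (U : Y.affineOpens) :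
    (I.comap (XAmap y g)).ideal (V y B U) = (I.ideal (V y A U)).map (rho y g U) :=
  Groth.Agent.Divis.IdealComap.ideal_comap I (XAmap y g) (V y A U) (V y B U) (V_le y g U)

lemma isNilpotent_ker (A : Art k k) : IsNilpotent (RingHom.ker A.res.toRingHom) := by
  have h : RingHom.ker A.res.toRingHom = IsLocalRing.maximalIdeal A := by
    ext a
    rw [mem_maximalIdeal_iff, RingHom.mem_ker]
    rfl
  rw [h]
  exact (isArtinianRing_iff_isNilpotent_maximalIdeal A).mp inferInstance

/-- A basis of the reduction gives a basis. -/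
theorem isBas {A : Art k k} {I₀ : Y.IdealSheafData} (I : (localHilb Y y I₀).obj A) (U : Y.affineOpens)
    {ι : Type*} {s : ι → Γ(Y, U.1)} (hs : IsBas (c₀ y U) (I₀.ideal U) s) :
    IsBas (al y A U) (I.1.ideal (V y A U)) (fun i => io y A U (s i)) := by
  refine isBas_of_flat' (c₀ := c₀ y U) (e := (ofBase A).toAlgHom.toRingHom) (res := A.res.toRingHom)
    (κ := ka y A U) (fun c => A.res.commutes c)
    (fun c => (RingHom.congr_fun (io_comp_c₀ y A U) c).symm)
    (fun s => RingHom.congr_fun (ka_comp_io y A U) s)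
    (fun a => RingHom.congr_fun (ka_comp_al y A U) a)
    (gen_io y A U) (isNilpotent_ker A) ?_ ?_
  · have := (flatOver_iff y A I.1 (fun U : Y.affineOpens => U) (iSup_affineOpens_eq_top Y)).1 I.2.1
    exact this U
  · rw [← ideal_comap_incl, I.2.2]
    exact hs

end K680.LHChart
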