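import Groth.Agent.Deform.K680.NodeObj
import Groth.Agent.SGA7.K565.DefFun
import Groth.Agent.SGA7.K565.SmallTangent2

/-! The deformation functor of the node is not prorepresentable. -/

set_option autoImplicit false
set_option linter.style.haveILetI false
universe u
open CategoryTheory CategoryTheory.Limits AlgebraicGeometry ArtFun ArtFun.Art
open Polynomial K680.NodeObj K565.DefCat K565.DefFun

namespace K680.Node

section general

variable {Λ k : Type u} [CommRing Λ] [Field k] [Algebra Λ k] {X : Scheme.{u}} {x : X ⟶ specPt k}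

/-- Lifting of automorphisms along any base change morphism. -/
theorem exists_lift_of_autLift {A' A : Art Λ k} {p : A' ⟶ A} (h : AutLift (X := X) (x := x) p)
    {η : DefSch (Λ := Λ) X x A'} {ξ : DefSch (Λ := Λ) X x A} (b : BC η p ξ) (e : ξ.Iso ξ) :
    ∃ e' : η.Iso η, e.iso.hom ≫ b.t = b.t ≫ e'.iso.hom := by
  obtain ⟨e0, he0⟩ := b.exists_iso (BC.canonical η p)
  obtain ⟨e', he'⟩ := h η (e0.symm.trans (e.trans e0))
  refine ⟨e', ?_⟩
  have h1 := baseChange_hom_t p e'
  have h2 : (e'.baseChange p).iso.hom = e0.iso.inv ≫ e.iso.hom ≫ e0.iso.hom := by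
    have := congrArg (fun t => DefSch.Iso.iso t) he'
    exact congrArg (fun t => CategoryTheory.Iso.hom t) this
  rw [h2, Category.assoc, Category.assoc, he0, Iso.inv_comp_eq, ← Category.assoc, he0] at h1
  exact h1

/-- Left exactness from prorepresentability, hence lifting of automorphisms. -/
theorem autLift_of_isProrepresentable (hk : Function.Surjective (algebraMap Λ k))
    (hX : IsProrepresentable (defFunctor (Λ := Λ) X x)) {A' A : Art Λ k} (p : A' ⟶ A)
    (hp : Function.Surjective p) : AutLift (X := X) (x := x) p := by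
  obtain ⟨P⟩ := hX
  obtain ⟨C, p₁, p₂, h⟩ := K565.ArtTools.exists_isFibreProd hk p p hp
  exact autLift_of_cmp_injective hp h
    (K565.SmallTangent2.isLeftExact_of_isUniversal P.family P.universal p₁ p₂ p p h).1

variable {B₁ : Type u} [CommRing B₁] [Algebra k B₁] {A B : Art Λ k}

/-- Ring-level description of base change morphisms. -/
noncomputable def bcOf (g : A ⟶ B) (D : K681.AlgDef k B₁ A) (D' : K681.AlgDef k B₁ B)
    (φ : D.carrier →+* D'.carrier)
    (hφ : ∀ a : A, φ (algebraMap A D.carrier a) = algebraMap B D'.carrier (g a))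
    (hπ : ∀ d, D'.π (φ d) = D.π d) : BC D.toDefSch g D'.toDefSch where
  t := Spec.map (CommRingCat.ofHom φ)
  isPullback := isPullback_SpecMap_of_isPushout _ _ _ _ (K681.AlgDef.isPushout_of_map g D D' φ hφ hπ).flip
  i_t := by
    change Spec.map _ ≫ Spec.map _ = Spec.map _
    rw [← Spec.map_comp, ← CommRingCat.ofHom_comp]
    congr 2
    exact RingHom.ext hπ

/-- Ring-level description of automorphisms. -/
theorem exists_aut (D : K681.AlgDef k B₁ A) (φ : D.carrier →+* D.carrier)
    (hφ : ∀ a : A, φ (algebraMap A D.carrier a) = algebraMap A D.carrier a)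
    (hπ : ∀ d, D.π (φ d) = D.π d) : ∃ e : D.toDefSch.Iso D.toDefSch, e.iso.hom = Spec.map (CommRingCat.ofHom φ) :=
  ⟨isoOfMorphism (η := D.toDefSch) (η' := D.toDefSch) (Spec.map (CommRingCat.ofHom φ))
    (by
      change Spec.map _ ≫ Spec.map _ = Spec.map _
      rw [← Spec.map_comp, ← CommRingCat.ofHom_comp]
      congr 2
      exact RingHom.ext hφ)
    (by
      change Spec.map _ ≫ Spec.map _ = Spec.map _
      rw [← Spec.map_comp, ← CommRingCat.ofHom_comp]
      congr 2
      exact RingHom.ext hπ), rfl⟩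

/-- Lifting of automorphisms of algebras. -/
theorem exists_ringHom_lift (g : A ⟶ B) (h : AutLift (X := Spec (CommRingCat.of B₁))
      (x := K681.AlgDef.str k B₁) g) (D : K681.AlgDef k B₁ A) (D' : K681.AlgDef k B₁ B)
    (φ : D.carrier →+* D'.carrier)
    (hφ : ∀ a : A, φ (algebraMap A D.carrier a) = algebraMap B D'.carrier (g a))
    (hπ : ∀ d, D'.π (φ d) = D.π d) (σ : D'.carrier →+* D'.carrier)
    (hσ : ∀ a : B, σ (algebraMap B D'.carrier a) = algebraMap B D'.carrier a)
    (hσπ : ∀ d, D'.π (σ d) = D'.π d) :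
    ∃ ψ : D.carrier →+* D.carrier, (∀ a : A, ψ (algebraMap A D.carrier a) = algebraMap A D.carrier a) ∧
      ∀ d, φ (ψ d) = σ (φ d) := by
  obtain ⟨e, he⟩ := exists_aut D' σ hσ hσπ
  obtain ⟨e', he'⟩ := exists_lift_of_autLift h (bcOf g D D' φ hφ hπ) e
  obtain ⟨ψ, -, hψ⟩ := K681.AlgDef.exists_algEquiv_of_iso _ _ e'
  rw [← hψ, he] at he'
  have h2 : CommRingCat.ofHom φ ≫ CommRingCat.ofHom σ =
      CommRingCat.ofHom (ψ : D.carrier →+* D.carrier) ≫ CommRingCat.ofHom φ := by
    apply Spec.map_injective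
    rw [Spec.map_comp, Spec.map_comp]
    exact he'
  exact ⟨(ψ : D.carrier →+* D.carrier), fun a => ψ.commutes a, fun d => (congrArg (fun t => t.hom d) h2).symm⟩

end general

variable (k : Type u) [Field k]

/-- `x ↦ (1 + xy) x`, `y ↦ y`. -/
noncomputable def tau : MvPolynomial (Fin 2) k →ₐ[k] MvPolynomial (Fin 2) k :=
  MvPolynomial.aeval (fun j : Fin 2 => if j = 0 then (1 + s k) * MvPolynomial.X 0 else MvPolynomial.X 1)

lemma tau_X0 : tau k (MvPolynomial.X 0) = (1 + s k) * MvPolynomial.X 0 := by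
  rw [tau, MvPolynomial.aeval_X, if_pos rfl]

lemma tau_X1 : tau k (MvPolynomial.X 1) = MvPolynomial.X 1 := by
  rw [tau, MvPolynomial.aeval_X, if_neg (by decide)]

lemma tau_s : tau k (s k) = (1 + s k) * s k := by
  rw [s, map_mul, tau_X0, tau_X1, mul_assoc]
  rfl

/-- The reduction map. -/
noncomputable def phi : Sn k 3 →+* Sn k 2 := Ideal.Quotient.factor (Ideal.map_mono (span_le (by decide)))

/-- The automorphism over `k[t]/(t²)`. -/
noncomputable def sigma : Sn k 2 →+* Sn k 2 :=
  Ideal.quotientMap _ (tau k).toRingHom (by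
    rw [map_eq, Ideal.span_singleton_le_iff_mem, Ideal.mem_comap]
    change tau k (s k ^ 2) ∈ _
    rw [map_pow, tau_s, mul_pow]
    exact Ideal.mul_mem_left _ _ (Ideal.mem_span_singleton_self _))

lemma sigma_mk (c : MvPolynomial (Fin 2) k) : sigma k (Ideal.Quotient.mk _ c) = Ideal.Quotient.mk _ (tau k c) := rfl

lemma sigma_st (a : Rn k 2) : sigma k (st 2 a) = st 2 a := by
  obtain ⟨p, rfl⟩ := Ideal.Quotient.mk_surjective a
  rw [st_mk, sigma_mk]
  have h : ((Ideal.Quotient.mk ((Ideal.span {(X : k[X]) ^ 2}).map (i k))).comp (tau k).toRingHom).comp (i k) =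
      (Ideal.Quotient.mk ((Ideal.span {(X : k[X]) ^ 2}).map (i k))).comp (i k) := by
    refine Polynomial.ringHom_ext (fun c => ?_) ?_
    · change Ideal.Quotient.mk _ (tau k (i k (Polynomial.C c))) = Ideal.Quotient.mk _ (i k (Polynomial.C c))
      rw [i_C]
      congr 1
      exact (tau k).commutes c
    · change Ideal.Quotient.mk _ (tau k (i k X)) = Ideal.Quotient.mk _ (i k X)
      rw [i_X, tau_s, Ideal.Quotient.eq, map_eq]
      have e : (1 + s k) * s k - s k = s k ^ 2 := by ring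
      rw [e]
      exact Ideal.mem_span_singleton_self _
  exact RingHom.congr_fun h p

lemma pi_sigma (d : Sn k 2) : pi 2 two_ne_zero (sigma k d) = pi 2 two_ne_zero d := by
  obtain ⟨c, rfl⟩ := Ideal.Quotient.mk_surjective d
  rw [sigma_mk, pi_mk, pi_mk]
  have h : (Ideal.Quotient.mk (Ideal.span {(MvPolynomial.X 0 * MvPolynomial.X 1 :
      MvPolynomial (Fin 2) k)})).comp (tau k).toRingHom = Ideal.Quotient.mk _ := by
    refine MvPolynomial.ringHom_ext (fun c => ?_) (fun j => ?_)
    · change Ideal.Quotient.mk _ (tau k (MvPolynomial.C c)) = _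
      congr 1
      exact (tau k).commutes c
    · change Ideal.Quotient.mk _ (tau k (MvPolynomial.X j)) = _
      fin_cases j
      · change Ideal.Quotient.mk _ (tau k (MvPolynomial.X 0)) = Ideal.Quotient.mk _ (MvPolynomial.X 0)
        rw [tau_X0, Ideal.Quotient.eq]
        have e : (1 + s k) * MvPolynomial.X 0 - MvPolynomial.X 0 = MvPolynomial.X 0 * s k := by ring
        rw [e]
        exact Ideal.mul_mem_left _ _ (Ideal.mem_span_singleton_self _)
      · change Ideal.Quotient.mk _ (tau k (MvPolynomial.X 1)) = Ideal.Quotient.mk _ (MvPolynomial.X 1)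
        rw [tau_X1]
  exact RingHom.congr_fun h c

lemma phi_mk (c : MvPolynomial (Fin 2) k) : phi k (Ideal.Quotient.mk _ c) = Ideal.Quotient.mk _ c :=
  Ideal.Quotient.factor_mk _ _

lemma phi_st (a : Rn k 3) :
    phi k (st 3 a) = st 2 (Ideal.Quotient.factor (span_le (by decide : 2 ≤ 3)) a) := by
  obtain ⟨p, rfl⟩ := Ideal.Quotient.mk_surjective a
  rw [st_mk, phi_mk, Ideal.Quotient.factor_mk, st_mk]

lemma pi_phi (d : Sn k 3) : pi 2 two_ne_zero (phi k d) = pi 3 three_ne_zero d := by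
  obtain ⟨c, rfl⟩ := Ideal.Quotient.mk_surjective d
  rw [phi_mk, pi_mk, pi_mk]

/-- The automorphism does not lift. -/
theorem no_lift (ψ : Sn k 3 →+* Sn k 3) (h1 : ∀ a, ψ (st 3 a) = st 3 a)
    (h2 : ∀ d, phi k (ψ d) = sigma k (phi k d)) : False := by
  obtain ⟨u, hu⟩ := Ideal.Quotient.mk_surjective (ψ (Ideal.Quotient.mk _ (MvPolynomial.X 0)))
  obtain ⟨v, hv⟩ := Ideal.Quotient.mk_surjective (ψ (Ideal.Quotient.mk _ (MvPolynomial.X 1)))
  have hs : u * v - s k ∈ Ideal.span {s k ^ 3} := by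
    rw [← map_eq, ← Ideal.Quotient.eq, map_mul, hu, hv, ← map_mul, ← map_mul]
    have h3 := h1 (Ideal.Quotient.mk _ X)
    rw [st_mk, i_X] at h3
    exact h3
  have hu2 : u - (1 + s k) * MvPolynomial.X 0 ∈ Ideal.span {s k ^ 2} := by
    rw [← map_eq, ← Ideal.Quotient.eq]
    have h3 := h2 (Ideal.Quotient.mk _ (MvPolynomial.X 0))
    rw [← hu] at h3
    have h4 : sigma k (phi k (Ideal.Quotient.mk _ (MvPolynomial.X 0))) =
      Ideal.Quotient.mk _ (tau k (MvPolynomial.X 0)) := rfl
    rw [h4, tau_X0] at h3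
    exact h3
  have hv2 : v - MvPolynomial.X 1 ∈ Ideal.span {s k ^ 2} := by
    rw [← map_eq, ← Ideal.Quotient.eq]
    have h3 := h2 (Ideal.Quotient.mk _ (MvPolynomial.X 1))
    rw [← hv] at h3
    have h4 : sigma k (phi k (Ideal.Quotient.mk _ (MvPolynomial.X 1))) =
      Ideal.Quotient.mk _ (tau k (MvPolynomial.X 1)) := rfl
    rw [h4, tau_X1] at h3
    exact h3
  obtain ⟨c, hc⟩ := Ideal.mem_span_singleton'.1 hs
  obtain ⟨a, ha⟩ := Ideal.mem_span_singleton'.1 hu2
  obtain ⟨b, hb⟩ := Ideal.mem_span_singleton'.1 hv2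
  have hu3 : u = (1 + s k) * MvPolynomial.X 0 + a * s k ^ 2 := by rw [ha]; ring
  have hv3 : v = MvPolynomial.X 1 + b * s k ^ 2 := by rw [hb]; ring
  have hs0 : s k ≠ 0 := mul_ne_zero (MvPolynomial.X_ne_zero 0) (MvPolynomial.X_ne_zero 1)
  have hsdef : MvPolynomial.X 0 * MvPolynomial.X 1 = s k := rfl
  have key : s k ^ 2 * (c * s k) = s k ^ 2 * (1 + a * MvPolynomial.X 1 + b * (1 + s k) * MvPolynomial.X 0 +
      a * b * s k ^ 2) := by
    rw [hu3, hv3] at hc
    linear_combination hc + (1 + s k) * hsdef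
  have key2 := mul_left_cancel₀ (pow_ne_zero 2 hs0) key
  have key3 := congrArg (MvPolynomial.aeval (R := k) (fun _ : Fin 2 => (0 : k))) key2
  have hs00 : MvPolynomial.aeval (R := k) (fun _ : Fin 2 => (0 : k)) (s k) = 0 := by
    rw [s, map_mul, MvPolynomial.aeval_X, zero_mul]
  simp only [map_add, map_mul, map_pow, map_one, hs00, MvPolynomial.aeval_X] at key3
  simp at key3

theorem not_isProrepresentable : ¬ IsProrepresentable (defFunctor (Λ := k) (Spec (CommRingCat.of (B₀ k)))
    (K681.AlgDef.str k (B₀ k))) := by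
  intro h
  have h1 := autLift_of_isProrepresentable Function.surjective_id h
    (tr (k := k) three_ne_zero two_ne_zero (by decide)) (tr_surjective _ _ _)
  obtain ⟨ψ, hψ, hψ'⟩ := exists_ringHom_lift _ h1 (Dn (k := k) 3 three_ne_zero) (Dn (k := k) 2 two_ne_zero)
    (phi k) (phi_st k) (pi_phi k) (sigma k) (sigma_st k) (pi_sigma k)
  exact no_lift k ψ hψ hψ'

end K680.Node
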