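import Groth.Agent.Deform.K681.AlgDef
import Groth.Agent.ArtFun.K724.Basic
import Mathlib.RingTheory.Flat.TorsionFree
import Mathlib.RingTheory.MvPolynomial.Basic
import Mathlib.RingTheory.Polynomial.Basic
import Mathlib.RingTheory.TensorProduct.Quotient
import Mathlib.RingTheory.Flat.Stability
import Mathlib.RingTheory.PrincipalIdealDomain

/-! The family `xy = t` over `k[t]/(t^n)`. -/

set_option autoImplicit false
set_option linter.style.haveILetI false
universe u
open CategoryTheory CategoryTheory.Limits AlgebraicGeometry ArtFun ArtFun.Art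
open Polynomial

namespace K680.NodeObj

variable (k : Type u) [Field k]

/-- `xy`. -/
noncomputable def s : MvPolynomial (Fin 2) k := MvPolynomial.X 0 * MvPolynomial.X 1

/-- `k[t] → k[x, y]`, `t ↦ xy`. -/
noncomputable def i : k[X] →+* MvPolynomial (Fin 2) k := (Polynomial.aeval (s k)).toRingHom

lemma i_X : i k X = s k := Polynomial.aeval_X _

lemma i_C (c : k) : i k (Polynomial.C c) = MvPolynomial.C c := Polynomial.aeval_C _ c

/-- A retraction of `i`. -/
noncomputable def r : MvPolynomial (Fin 2) k →+* k[X] :=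
  (MvPolynomial.aeval (R := k) (fun j : Fin 2 => if j = 0 then (X : k[X]) else 1)).toRingHom

lemma r_i (p : k[X]) : r k (i k p) = p := by
  have h : ((MvPolynomial.aeval (R := k) (fun j : Fin 2 => if j = 0 then (X : k[X]) else 1)).comp
      (Polynomial.aeval (s k))) = AlgHom.id k k[X] := by
    ext
    simp [s]
  exact DFunLike.congr_fun h p

lemma i_injective : Function.Injective (i k) := fun p q h => by
  rw [← r_i k p, h, r_i]

theorem flat_i : (i k).Flat := by
  letI : Algebra k[X] (MvPolynomial (Fin 2) k) := (i k).toAlgebra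
  change Module.Flat k[X] (MvPolynomial (Fin 2) k)
  rw [Module.Flat.flat_iff_torsion_eq_bot_of_isBezout]
  rw [eq_bot_iff]
  rintro m ⟨⟨a, ha⟩, h⟩
  have h1 : i k a * m = 0 := h
  have h2 : i k a ≠ 0 := by
    rw [Ne, map_eq_zero_iff _ (i_injective k)]
    exact nonZeroDivisors.ne_zero ha
  exact (mul_eq_zero.1 h1).resolve_left h2

/-- The coefficient ring `k[t]/(t^n)`. -/
abbrev Rn (n : ℕ) : Type u := k[X] ⧸ Ideal.span {(X : k[X]) ^ n}

/-- The total ring `k[x,y]/((xy)^n)`. -/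
abbrev Sn (n : ℕ) : Type u := MvPolynomial (Fin 2) k ⧸ (Ideal.span {(X : k[X]) ^ n}).map (i k)

/-- The node. -/
abbrev B₀ : Type u := MvPolynomial (Fin 2) k ⧸
  Ideal.span {(MvPolynomial.X 0 * MvPolynomial.X 1 : MvPolynomial (Fin 2) k)}

lemma map_eq (n : ℕ) : (Ideal.span {(X : k[X]) ^ n}).map (i k) = Ideal.span {s k ^ n} := by
  rw [Ideal.map_span, Set.image_singleton, map_pow, i_X]

variable {k}

/-- The augmentation. -/
noncomputable def res (n : ℕ) (hn : n ≠ 0) : Rn k n →ₐ[k] k :=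
  Ideal.Quotient.liftₐ _ (Polynomial.aeval (0 : k)) (fun a ha => by
    obtain ⟨b, rfl⟩ := Ideal.mem_span_singleton'.1 ha
    rw [map_mul, map_pow, Polynomial.aeval_X, zero_pow hn, mul_zero])

lemma res_mk (n : ℕ) (hn : n ≠ 0) (p : k[X]) : res n hn (Ideal.Quotient.mk _ p) = Polynomial.aeval (0 : k) p := rfl

lemma res_surjective (n : ℕ) (hn : n ≠ 0) : Function.Surjective (res (k := k) n hn) := fun c =>
  ⟨algebraMap k _ c, (res n hn).commutes c⟩

lemma res_eq_zero (n : ℕ) (hn : n ≠ 0) (p : k[X]) (h : res n hn (Ideal.Quotient.mk _ p) = 0) : ∃ q, p = q * X := by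
  rw [res_mk] at h
  have h1 : p.coeff 0 = 0 := by
    rw [Polynomial.coeff_zero_eq_aeval_zero]
    exact h
  obtain ⟨q, hq⟩ := Polynomial.X_dvd_iff.2 h1
  exact ⟨q, by rw [hq, mul_comm]⟩

/-- The object of `Art k k`. -/
noncomputable def An (n : ℕ) (hn : n ≠ 0) : Art k k :=
  K724.Basic.mkObj (Rn k n) (res n hn) (res_surjective n hn) (fun a h => by
    obtain ⟨p, rfl⟩ := Ideal.Quotient.mk_surjective a
    obtain ⟨q, rfl⟩ := res_eq_zero n hn p h
    refine ⟨n, ?_⟩
    rw [← map_pow, Ideal.Quotient.eq_zero_iff_mem, mul_pow]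
    exact Ideal.mul_mem_left _ _ (Ideal.mem_span_singleton_self _))

lemma span_le {n m : ℕ} (h : m ≤ n) : Ideal.span {(X : k[X]) ^ n} ≤ Ideal.span {(X : k[X]) ^ m} := by
  rw [Ideal.span_singleton_le_iff_mem]
  exact Ideal.mem_span_singleton.2 (pow_dvd_pow _ h)

/-- The transition map. -/
noncomputable def tr {n m : ℕ} (hn : n ≠ 0) (hm : m ≠ 0) (h : m ≤ n) : An (k := k) n hn ⟶ An m hm :=
  homMk (A := An (k := k) n hn) (B := An m hm)
    (Ideal.Quotient.factorₐ k (span_le h) : Rn k n →ₐ[k] Rn k m) (by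
    refine AlgHom.ext fun a => ?_
    obtain ⟨p, rfl⟩ := Ideal.Quotient.mk_surjective a
    rfl)

lemma tr_surjective {n m : ℕ} (hn : n ≠ 0) (hm : m ≠ 0) (h : m ≤ n) :
    Function.Surjective (tr (k := k) hn hm h) := by
  intro a
  obtain ⟨p, rfl⟩ := Ideal.Quotient.mk_surjective a
  exact ⟨Ideal.Quotient.mk _ p, rfl⟩

lemma flat_Sn (n : ℕ) : letI : Algebra k[X] (MvPolynomial (Fin 2) k) := (i k).toAlgebra
    Module.Flat (k[X] ⧸ Ideal.span {(X : k[X]) ^ n}) (MvPolynomial (Fin 2) k ⧸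
      (Ideal.span {(X : k[X]) ^ n}).map (algebraMap k[X] (MvPolynomial (Fin 2) k))) := by
  letI : Algebra k[X] (MvPolynomial (Fin 2) k) := (i k).toAlgebra
  haveI : Module.Flat k[X] (MvPolynomial (Fin 2) k) := flat_i k
  exact Module.Flat.of_linearEquiv
    (Algebra.TensorProduct.quotIdealMapEquivQuotTensor (MvPolynomial (Fin 2) k)
      (Ideal.span {(X : k[X]) ^ n})).toLinearEquiv

/-- The structure map. -/
noncomputable def st (n : ℕ) : Rn k n →+* Sn k n := Ideal.quotientMap _ (i k) Ideal.le_comap_map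

lemma st_mk (n : ℕ) (p : k[X]) : st n (Ideal.Quotient.mk _ p) = Ideal.Quotient.mk _ (i k p) := rfl

lemma flat_st (n : ℕ) : (st (k := k) n).Flat := by
  letI : Algebra k[X] (MvPolynomial (Fin 2) k) := (i k).toAlgebra
  have h1 : (algebraMap (k[X] ⧸ Ideal.span {(X : k[X]) ^ n}) (MvPolynomial (Fin 2) k ⧸
      (Ideal.span {(X : k[X]) ^ n}).map (algebraMap k[X] (MvPolynomial (Fin 2) k)))).Flat :=
    RingHom.flat_algebraMap_iff.2 (flat_Sn n)
  exact h1

lemma le_node (n : ℕ) (hn : n ≠ 0) : (Ideal.span {(X : k[X]) ^ n}).map (i k) ≤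
    Ideal.span {(MvPolynomial.X 0 * MvPolynomial.X 1 : MvPolynomial (Fin 2) k)} := by
  rw [map_eq, Ideal.span_singleton_le_iff_mem]
  exact Ideal.pow_mem_of_mem _ (Ideal.mem_span_singleton_self _) _ (Nat.pos_of_ne_zero hn)

/-- The reduction. -/
noncomputable def pi (n : ℕ) (hn : n ≠ 0) : Sn k n →+* B₀ k := Ideal.Quotient.factor (le_node n hn)

lemma pi_mk (n : ℕ) (hn : n ≠ 0) (c : MvPolynomial (Fin 2) k) :
    pi n hn (Ideal.Quotient.mk _ c) = Ideal.Quotient.mk _ c := rfl

lemma pi_st (n : ℕ) (hn : n ≠ 0) (a : Rn k n) : pi n hn (st n a) = algebraMap k (B₀ k) (res n hn a) := by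
  obtain ⟨p, rfl⟩ := Ideal.Quotient.mk_surjective a
  change Ideal.Quotient.mk _ (i k p) = Ideal.Quotient.mk _ (MvPolynomial.C (Polynomial.aeval (0 : k) p))
  rw [Ideal.Quotient.eq]
  obtain ⟨q, hq⟩ : ∃ q, p - Polynomial.C (Polynomial.aeval (0 : k) p) = q * X := by
    have h1 : (p - Polynomial.C (Polynomial.aeval (0 : k) p)).coeff 0 = 0 := by
      rw [Polynomial.coeff_sub, Polynomial.coeff_C_zero, Polynomial.coeff_zero_eq_aeval_zero, sub_self]
    obtain ⟨q, hq⟩ := Polynomial.X_dvd_iff.2 h1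
    exact ⟨q, by rw [hq, mul_comm]⟩
  rw [← i_C, ← map_sub, hq, map_mul, i_X]
  exact Ideal.mul_mem_left _ _ (Ideal.mem_span_singleton_self _)

lemma ker_pi (n : ℕ) (hn : n ≠ 0) :
    RingHom.ker (pi (k := k) n hn) = (RingHom.ker (res (k := k) n hn)).map (st n) := by
  apply le_antisymm
  · intro z hz
    obtain ⟨c, rfl⟩ := Ideal.Quotient.mk_surjective z
    have h1 : c ∈ Ideal.span {(MvPolynomial.X 0 * MvPolynomial.X 1 : MvPolynomial (Fin 2) k)} :=
      Ideal.Quotient.eq_zero_iff_mem.1 hz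
    obtain ⟨b, rfl⟩ := Ideal.mem_span_singleton'.1 h1
    rw [map_mul]
    refine Ideal.mul_mem_left _ _ ?_
    have h2 : (Ideal.Quotient.mk (Ideal.span {(X : k[X]) ^ n}) X : Rn k n) ∈ RingHom.ker (res (k := k) n hn) :=
      Polynomial.aeval_X (0 : k)
    have h3 := Ideal.mem_map_of_mem (st n) h2
    rw [st_mk, i_X] at h3
    exact h3
  · rw [Ideal.map_le_iff_le_comap]
    intro a ha
    obtain ⟨p, rfl⟩ := Ideal.Quotient.mk_surjective a
    obtain ⟨q, rfl⟩ := res_eq_zero n hn p ha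
    rw [Ideal.mem_comap, RingHom.mem_ker, st_mk, pi_mk, Ideal.Quotient.eq_zero_iff_mem, map_mul, i_X]
    exact Ideal.mul_mem_left _ _ (Ideal.mem_span_singleton_self _)

/-- The family `xy = t` over `k[t]/(t^n)`. -/
noncomputable def Dn (n : ℕ) (hn : n ≠ 0) : K681.AlgDef k (B₀ k) (An (k := k) n hn) where
  carrier := Sn k n
  algebra := (show (An (k := k) n hn : Type u) →+* Sn k n from st n).toAlgebra
  flat := flat_st n
  π := pi n hn
  comp := pi_st n hn
  surj := Ideal.Quotient.factor_surjective _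
  ker := by
    have h : IsLocalRing.maximalIdeal (An (k := k) n hn) = RingHom.ker (res (k := k) n hn) := by
      ext a
      exact mem_maximalIdeal_iff (An (k := k) n hn) a
    rw [ker_pi, h]
    rfl

end K680.NodeObj
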