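import Groth.Agent.Deform.K680.AutRig
import Groth.Agent.Ega3B.ProjProper
import Groth.Agent.S12309

/-! Prorepresentability of the deformation functor in the absence of vector fields, given a hull. -/

set_option autoImplicit false
universe u
open CategoryTheory CategoryTheory.Limits AlgebraicGeometry ArtFun ArtFun.Art

namespace K680.RigPro

variable {k : Type u} [Field k] {X : Scheme.{u}} {x : X ⟶ Spec (CommRingCat.of k)}

/-- Without vector fields, a hull of the deformation functor prorepresents it. -/
theorem isProrepresentable [QuasiSeparated x] (h0 : Subsingleton (Omega.sheaf x ⟶ Coh.structureModule X))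
    (hull : HasHull (defFunctor (Λ := k) X x)) : IsProrepresentable (defFunctor (Λ := k) X x) := by
  haveI : IsAdicComplete (IsLocalRing.maximalIdeal k) k := by
    rw [IsLocalRing.maximalIdeal_eq_bot]
    infer_instance
  refine (Groth.Agent.S12309.result k k Function.surjective_id X x hull).2 fun A' A p _ ξ' e => ?_
  refine ⟨DefSch.Iso.refl _, K565.DefFun.iso_ext ?_⟩
  rw [K680.AutRig.main.1 h0 A _ e, K680.AutRig.main.1 h0 A _ ((DefSch.Iso.refl ξ').baseChange p)]

theorem isProper_of_proj (hproj : ∃ (n : ℕ) (c : X ⟶ CohB1.ProjSpaceOver n (Spec (CommRingCat.of k))),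
      IsClosedImmersion c ∧ c ≫ CohB1.ProjSpaceOver.toBase n (Spec (CommRingCat.of k)) = x) : IsProper x := by
  obtain ⟨n, c, hc, rfl⟩ := hproj
  haveI := Groth.Agent.Ega3B.ProjProper.isProper_toBase n (Spec (CommRingCat.of k))
  infer_instance

end K680.RigPro
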