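import Groth.Agent.Deform.K680.Versal

/-! A functor with a hull and trivial tangent space is the one-point functor. -/

set_option autoImplicit false
universe u v
open CategoryTheory

namespace K680.Rigid

open ArtFun ArtFun.Art IsLocalRing K680.Tow K680.Versal

variable {Λ : Type u} {k : Type u} [CommRing Λ] [Field k] [Algebra Λ k]

/-- If `h_R(k[ε])` is a point then `h_R` is the one-point functor. -/
theorem homSet_subsingleton (hk : Function.Surjective (algebraMap Λ k)) {R : Type u} [CommRing R] [Algebra Λ R]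
    {resR : R →ₐ[Λ] k} (h : Subsingleton (HomSet R resR (dual Λ k))) (A : Art Λ k) :
    Subsingleton (HomSet R resR A) := by
  let F : Art Λ k ⥤ Type := (Functor.const _).obj PUnit
  let ξ : Family R resR F := ⟨fun _ _ => PUnit.unit, fun _ _ => rfl⟩
  refine ⟨fun φ ψ => injective_of_tangent hk (F := F) ?_ ξ (fun a b _ => h.elim a b) A rfl⟩
  intro B A A' p₁ p₂ f hf _ a b _
  exact Subsingleton.elim (α := PUnit) a b

/-- A functor with one-point value at `k`, a versal family and trivial tangent functor `h_R(k[ε])`. -/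
theorem subsingleton_of_hull (hk : Function.Surjective (algebraMap Λ k)) {F : Art Λ k ⥤ Type v} (h0 : H0 F)
    (hF : HasHull F) (ht : Subsingleton (TangentSpace F)) (A : Art Λ k) : Subsingleton (F.obj A) := by
  obtain ⟨⟨R, ξ, hv, hb⟩⟩ := hF
  have h1 : Subsingleton (HomSet R.carrier R.res (dual Λ k)) :=
    ⟨fun a b => hb.1 (ht.elim (TangentSpace.mk _) (TangentSpace.mk _))⟩
  have h2 := homSet_subsingleton hk h1 A
  refine ⟨fun x y => ?_⟩
  obtain ⟨φ, rfl⟩ := surjective_of_isVersal h0 ξ hv A x
  obtain ⟨ψ, rfl⟩ := surjective_of_isVersal h0 ξ hv A y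
  rw [h2.elim φ ψ]

end K680.Rigid
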