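import Groth.Agent.SGA7.K565.TOneDef
import Groth.Agent.SGA7.K565.LciT2
import Groth.Agent.DefT.K694.NineCanon
import Groth.Agent.DefT.K694.Smooth1
import Groth.Agent.DefT.K694.Pres
import Groth.Agent.Flat2H.LCIMaps2

/-!
# `T¹(C/k, M) → T¹(B/k, M)` is bijective when `C/B` is a formally smooth local complete intersection with `B` Noetherian
-/

set_option autoImplicit false
universe u w t m

open CotT TensorProduct

namespace K680.T1Bij

section T2

variable {B C : Type u} [CommRing B] [CommRing C] [Algebra B C] [IsNoetherianRing B]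

omit [IsNoetherianRing B] in
lemma ker_presOf {ι : Type w} {σ : Type t} (f : MvPolynomial ι B →ₐ[B] C) (hf : Function.Surjective f)
    (r : σ → MvPolynomial ι B) (hr : Ideal.span (Set.range r) = RingHom.ker f.toRingHom) :
    (K694.Pres.presOf f hf r hr).toExtension.ker = RingHom.ker f.toRingHom :=
  (K565.LciT2.span_rel (K694.Pres.presOf f hf r hr)).symm.trans hr

/-- `T²` vanishes for local complete intersections. -/
theorem subsingleton_T2 (h : LCI.IsLCI B C) {ι : Type w} {σ : Type t} (P : Algebra.Presentation B C ι σ)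
    (M : Type m) [AddCommGroup M] [Module C M] : Subsingleton (T2 P M) := by
  obtain ⟨n, f, hf, -⟩ := h.2
  let e : MvPolynomial (ULift.{u} (Fin n)) B ≃ₐ[B] MvPolynomial (Fin n) B :=
    MvPolynomial.renameEquiv B Equiv.ulift
  obtain ⟨φ, hφ, hK⟩ : ∃ φ : MvPolynomial (ULift.{u} (Fin n)) B →ₐ[B] C, Function.Surjective φ ∧
      LCI.IsKoszulRegularIdeal (RingHom.ker φ.toRingHom) :=
    ⟨f.comp e.toAlgHom, hf.comp e.surjective,
      Groth.Agent.Flat2H.LCIMaps.IsLCI.kerK_of_equiv h e (f.comp e.toAlgHom) (hf.comp e.surjective)⟩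
  let K : Ideal (MvPolynomial (ULift.{u} (Fin n)) B) := RingHom.ker φ.toRingHom
  have hr : Ideal.span (Set.range (Subtype.val : K → MvPolynomial (ULift.{u} (Fin n)) B)) =
      RingHom.ker φ.toRingHom := by
    rw [Subtype.range_coe]
    exact Ideal.span_eq K
  have hN : IsNoetherianRing (K694.Pres.presOf φ hφ Subtype.val hr).toExtension.Ring :=
    inferInstanceAs (IsNoetherianRing (MvPolynomial (ULift.{u} (Fin n)) B))
  have hk : LCI.IsKoszulRegularIdeal (K694.Pres.presOf φ hφ Subtype.val hr).toExtension.ker := by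
    rw [ker_presOf]
    exact hK
  have := K565.LciT2.subsingleton_T2 (K694.Pres.presOf φ hφ Subtype.val hr) hk M
  exact K694.Pres.subsingleton_T2_transfer (K694.Pres.presOf φ hφ Subtype.val hr) P M

end T2

section Bij

variable (k B C : Type u) [CommRing k] [CommRing B] [CommRing C] [Algebra k B] [Algebra k C] [Algebra B C]
  [IsScalarTower k B C] [IsNoetherianRing B] [Algebra.FormallySmooth B C]
  (M : Type m) [AddCommGroup M] [Module C M] [Module B M] [IsScalarTower B C M]

theorem bijective_T1pull (h : LCI.IsLCI B C) : Function.Bijective ((canonHom k B k C).T1pull M) := by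
  obtain ⟨-, -, h1, -, δ₀, δ₁, -, -, h2, -⟩ := K694.NineCanon.nine (canon k B) (canon B C) (canon k C)
    (canonHom k B k C) (canonHom k C B C) M
  have s1 : Subsingleton (T1 (canon B C) M) := K694.Smooth1.subsingleton_T1 _ M
  have s2 : Subsingleton (T2 (canon B C) M) := subsingleton_T2 h _ M
  constructor
  · rw [← LinearMap.ker_eq_bot, LinearMap.ker_eq_bot']
    intro x hx
    obtain ⟨y, rfl⟩ := (h1 x).1 hx
    rw [Subsingleton.elim y 0, map_zero]
  · intro x
    exact (h2 x).1 (Subsingleton.elim _ _)

end Bij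

end K680.T1Bij
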