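import Groth.Agent.DefT.K694.Comp
import Groth.Agent.DefT.K694.Pres
import Mathlib.Algebra.Module.FinitePresentation
import Mathlib.RingTheory.Polynomial.Basic

/-!
# `T¹` commutes with localization of the coefficients, naturality
-/

set_option autoImplicit false
universe u v w t m m' u' v' w' t'

open CotT TensorProduct K694.Basic K694.Hom

namespace K680.T1Loc

section Nat

variable {A : Type u} {B : Type v} {ι : Type w} {σ : Type t}
variable [CommRing A] [CommRing B] [Algebra A B]
variable (P : Algebra.Presentation A B ι σ)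
variable {M : Type m} {N : Type m'} [AddCommGroup M] [Module B M] [AddCommGroup N] [Module B N]

lemma T1map_homToT1 (f : M →ₗ[B] N) (φ : P.toExtension.Cotangent →ₗ[B] M) :
    T1map P f (homToT1 P M φ) = homToT1 P N (f ∘ₗ φ) := rfl

end Nat

section Nat2

variable {A : Type u} {B : Type v} {ι : Type w} {σ : Type t}
variable {A' : Type u'} {B' : Type v'} {ι' : Type w'} {σ' : Type t'}
variable [CommRing A] [CommRing B] [Algebra A B] [CommRing A'] [CommRing B'] [Algebra A' B']
variable [Algebra A A'] [Algebra B B'] [Algebra A B'] [IsScalarTower A A' B'] [IsScalarTower A B B']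
variable {P : Algebra.Presentation A B ι σ} {P' : Algebra.Presentation A' B' ι' σ'} (h : PresHom P P')
variable {M : Type m} {N : Type m'} [AddCommGroup M] [Module B' M] [Module B M] [IsScalarTower B B' M]
  [AddCommGroup N] [Module B' N] [Module B N] [IsScalarTower B B' N]

theorem T1pull_T1map (f : M →ₗ[B'] N) (x : T1 P' M) :
    h.T1pull N (T1map P' f x) = T1map P (f.restrictScalars B) (h.T1pull M x) := by
  obtain ⟨φ, rfl⟩ := homToT1_surjective P' M x
  rw [T1map_homToT1, T1pull_homToT1, T1pull_homToT1, T1map_homToT1]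
  rfl

end Nat2

section Fin

variable {A : Type u} {B : Type v} {ι : Type w} {σ : Type t}
variable [CommRing A] [CommRing B] [Algebra A B] [IsNoetherianRing B]
variable (P : Algebra.Presentation A B ι σ) [Finite ι] [hC : Module.Finite B P.toExtension.Cotangent]
variable (M : Type m) [AddCommGroup M] [Module B M]

omit [IsNoetherianRing B] hC in
lemma finite_L0 : Module.Finite B (L0 P) := Module.Finite.of_basis P.cotangentSpaceBasis

lemma finite_hom (L : Type*) [AddCommGroup L] [Module B L] [Module.Finite B L] [Module.Finite B M] :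
    Module.Finite B (L →ₗ[B] M) := by
  obtain ⟨n, f, hf⟩ := Module.Finite.exists_fin' B L
  have h1 : Function.Injective (LinearMap.lcomp B M f) := fun φ ψ h => LinearMap.ext fun x => by
    obtain ⟨y, rfl⟩ := hf x
    exact LinearMap.congr_fun h y
  have h2 : Module.Finite B ((Fin n → B) →ₗ[B] M) := inferInstance
  have h3 : IsNoetherian B ((Fin n → B) →ₗ[B] M) := isNoetherian_of_isNoetherianRing_of_finite _ _
  exact Module.Finite.of_injective _ h1

omit [Finite ι] in
/-- `T¹` with finite coefficients is finite. -/
theorem finite_T1 [Module.Finite B M] : Module.Finite B (T1 P M) := by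
  have := finite_hom (B := B) M P.toExtension.Cotangent
  exact Module.Finite.of_surjective _ (homToT1_surjective P M)

end Fin

section Loc

variable {A : Type u} {B : Type v} {ι : Type w} {σ : Type t}
variable [CommRing A] [CommRing B] [Algebra A B]
variable (P : Algebra.Presentation A B ι σ) (W : Submonoid B)
variable {M : Type m} {N : Type m'} [AddCommGroup M] [Module B M] [AddCommGroup N] [Module B N]
  (f : M →ₗ[B] N) [IsLocalizedModule W f]

/-- Injectivity up to torsion. -/
theorem exists_smul_eq_zero [Finite ι] [hC : Module.Finite B P.toExtension.Cotangent] (x : T1 P M)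
    (hx : T1map P f x = 0) : ∃ w ∈ W, w • x = 0 := by
  obtain ⟨φ, rfl⟩ := homToT1_surjective P M x
  rw [T1map_homToT1, homToT1_eq_zero_iff] at hx
  obtain ⟨ψ, hψ⟩ := hx
  have : Module.Free B (L0 P) := Module.Free.of_basis P.cotangentSpaceBasis
  have h0 : Module.Finite B (L0 P) := finite_L0 P
  have : Module.FinitePresentation B (L0 P) := Module.finitePresentation_of_projective _ _
  obtain ⟨ψ', s, hs⟩ := Module.FinitePresentation.exists_lift_of_isLocalizedModule W f ψ
  have h1 : f ∘ₗ (ψ' ∘ₗ P.toExtension.cotangentComplex) = f ∘ₗ ((s : B) • φ) := by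
    rw [← LinearMap.comp_assoc, hs, LinearMap.comp_smul]
    rw [← hψ]
    rfl
  obtain ⟨s', hs'⟩ := Module.Finite.exists_smul_of_comp_eq_of_isLocalizedModule W f _ _ h1
  refine ⟨s' * s, W.mul_mem s'.2 s.2, ?_⟩
  rw [mul_smul, ← map_smul, ← map_smul, homToT1_eq_zero_iff]
  exact ⟨(s' : B) • ψ', hs'⟩

/-- Surjectivity up to denominators. -/
theorem exists_T1map_eq_smul [Module.FinitePresentation B P.toExtension.Cotangent] (y : T1 P N) :
    ∃ w ∈ W, ∃ x : T1 P M, T1map P f x = w • y := by
  obtain ⟨φ, rfl⟩ := homToT1_surjective P N y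
  obtain ⟨ψ, s, hs⟩ := Module.FinitePresentation.exists_lift_of_isLocalizedModule W f φ
  refine ⟨s, s.2, homToT1 P M ψ, ?_⟩
  rw [T1map_homToT1, hs, ← map_smul]
  rfl

end Loc

section Canon

variable {A B : Type u} [CommRing A] [CommRing B] [Algebra A B] [IsNoetherianRing A] [Algebra.FiniteType A B]

variable (A B) in
/-- A finite type algebra over a Noetherian ring has a good presentation. -/
theorem exists_pres : ∃ (n : ℕ) (σ : Type u) (P : Algebra.Presentation A B (Fin n) σ),
    Module.Finite B P.toExtension.Cotangent := by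
  obtain ⟨n, f, hf⟩ := Algebra.FiniteType.iff_quotient_mvPolynomial''.1 (inferInstance : Algebra.FiniteType A B)
  let K : Ideal (MvPolynomial (Fin n) A) := RingHom.ker f.toRingHom
  have hr : Ideal.span (Set.range (Subtype.val : K → MvPolynomial (Fin n) A)) =
      RingHom.ker f.toRingHom := by
    rw [Subtype.range_coe]
    exact Ideal.span_eq K
  refine ⟨n, K, K694.Pres.presOf f hf Subtype.val hr, ?_⟩
  have hN : IsNoetherianRing (K694.Pres.presOf f hf Subtype.val hr).toExtension.Ring :=
    inferInstanceAs (IsNoetherianRing (MvPolynomial (Fin n) A))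
  have : Module.Finite B (B ⊗[(K694.Pres.presOf f hf Subtype.val hr).toExtension.Ring]
    (K694.Pres.presOf f hf Subtype.val hr).toExtension.ker) := inferInstance
  exact Module.Finite.equiv (K694.Pres.presOf f hf Subtype.val hr).toExtension.cotangentEquiv

/-- `T¹(B/A, B)` is a finite module. -/
theorem finite_canon (M : Type m) [AddCommGroup M] [Module B M] [Module.Finite B M] :
    Module.Finite B (T1 (canon A B) M) := by
  obtain ⟨n, σ, P, hP⟩ := exists_pres A B
  have : IsNoetherianRing B := Algebra.FiniteType.isNoetherianRing A B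
  have := finite_T1 P M
  exact Module.Finite.equiv (K694.Comp.T1cmp (canon A B) P M)

variable (W : Submonoid B) {M : Type m} {N : Type m'} [AddCommGroup M] [Module B M] [AddCommGroup N] [Module B N]
  (f : M →ₗ[B] N) [IsLocalizedModule W f]

theorem canon_exists_smul_eq_zero (x : T1 (canon A B) M) (hx : T1map (canon A B) f x = 0) :
    ∃ w ∈ W, w • x = 0 := by
  obtain ⟨n, σ, P, hP⟩ := exists_pres A B
  obtain ⟨h⟩ := nonempty_presHom P (canon A B)
  obtain ⟨w, hw, h1⟩ := exists_smul_eq_zero P W f (h.T1pull M x) (by
    have := T1pull_T1map h f x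
    rw [hx, map_zero] at this
    exact this.symm)
  refine ⟨w, hw, (K694.Comp.bijective_T1pull M h).1 ?_⟩
  rw [map_smul, h1, map_zero]

theorem canon_exists_T1map_eq_smul (y : T1 (canon A B) N) :
    ∃ w ∈ W, ∃ x : T1 (canon A B) M, T1map (canon A B) f x = w • y := by
  obtain ⟨n, σ, P, hP⟩ := exists_pres A B
  have : IsNoetherianRing B := Algebra.FiniteType.isNoetherianRing A B
  have := Module.finitePresentation_of_finite B P.toExtension.Cotangent
  obtain ⟨h⟩ := nonempty_presHom P (canon A B)
  obtain ⟨w, hw, x', hx'⟩ := exists_T1map_eq_smul P W f (h.T1pull N y)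
  obtain ⟨x, rfl⟩ := (K694.Comp.bijective_T1pull M h).2 x'
  refine ⟨w, hw, x, (K694.Comp.bijective_T1pull N h).1 ?_⟩
  rw [map_smul, ← hx']
  exact T1pull_T1map h f x

end Canon

end K680.T1Loc
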