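import Groth.Agent.Deform.K680.T1Bij
import Groth.Agent.Deform.K680.T1Loc

/-!
# Compatible classes in `T¹` along good ring maps
-/

set_option autoImplicit false
universe u

open CotT TensorProduct K565.TOneDef

namespace K680.T1Compat

variable {k : Type u} [CommRing k] {B C D : Type u} [CommRing B] [CommRing C] [CommRing D]
  [Algebra k B] [Algebra k C] [Algebra k D]

/-- Formally smooth local complete intersection maps. -/
def Good (φ : B →ₐ[k] C) : Prop :=
  letI : Algebra B C := φ.toRingHom.toAlgebra
  Algebra.FormallySmooth B C ∧ LCI.IsLCI B C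

theorem exists_compat [IsNoetherianRing B] {φ : B →ₐ[k] C} (hφ : Good φ) (t : T k B) :
    ∃ s : T k C, Compat φ t s := by
  let _ : Algebra B C := φ.toRingHom.toAlgebra
  have _ : IsScalarTower k B C := IsScalarTower.of_algebraMap_eq fun c => (φ.commutes c).symm
  have _ : Algebra.FormallySmooth B C := hφ.1
  obtain ⟨s, hs⟩ := (T1Bij.bijective_T1pull k B C C hφ.2).2 (push k B C t)
  exact ⟨s, hs⟩

theorem compat_unique [IsNoetherianRing B] {φ : B →ₐ[k] C} (hφ : Good φ) {t : T k B}
    {s s' : T k C} (h : Compat φ t s) (h' : Compat φ t s') : s = s' := by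
  let _ : Algebra B C := φ.toRingHom.toAlgebra
  have _ : IsScalarTower k B C := IsScalarTower.of_algebraMap_eq fun c => (φ.commutes c).symm
  have _ : Algebra.FormallySmooth B C := hφ.1
  have e : pull k B C s = push k B C t := h
  have e' : pull k B C s' = push k B C t := h'
  exact (T1Bij.bijective_T1pull k B C C hφ.2).1 (e.trans e'.symm)

theorem compat_of_comp [IsNoetherianRing B] {φ : B →ₐ[k] C} (hφ : Good φ) {ψ : C →ₐ[k] D}
    {χ : B →ₐ[k] D} (hχ : χ = ψ.comp φ) {t : T k B}
    {s : T k C} {r : T k D} (h : Compat φ t s) (h' : Compat χ t r) : Compat ψ s r := by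
  subst hχ
  let i1 : Algebra B C := φ.toRingHom.toAlgebra
  let i2 : Algebra C D := ψ.toRingHom.toAlgebra
  let i3 : Algebra B D := (ψ.comp φ).toRingHom.toAlgebra
  have _ : IsScalarTower k B C := IsScalarTower.of_algebraMap_eq fun c => (φ.commutes c).symm
  have _ : IsScalarTower k C D := IsScalarTower.of_algebraMap_eq fun c => (ψ.commutes c).symm
  have _ : IsScalarTower k B D := IsScalarTower.of_algebraMap_eq fun c => ((ψ.comp φ).commutes c).symm
  have _ : IsScalarTower B C D := IsScalarTower.of_algebraMap_eq fun c => rfl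
  have _ : Algebra.FormallySmooth B C := hφ.1
  have e : pull k B C s = push k B C t := h
  have e' : pull k B D r = push k B D t := h'
  change pull k C D r = push k C D s
  refine (T1Bij.bijective_T1pull k B C D hφ.2).1 ?_
  have h1 : (canonHom k B k C).T1pull D (pull k C D r) = pull k B D r :=
    (K694.Comp.T1pull_comp (canonHom k B k C) (canonHom k C k D) D (canonHom k B k D) r).symm
  have h2 : (canonHom k B k C).T1pull D (push k C D s) =
      T1map (canon k B) ((Algebra.linearMap C D).restrictScalars B) (pull k B C s) :=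
    T1Loc.T1pull_T1map (canonHom k B k C) (Algebra.linearMap C D) s
  rw [h1, h2, e, e']
  obtain ⟨c, rfl⟩ := K694.Basic.homToT1_surjective (canon k B) B t
  change T1map (canon k B) (Algebra.linearMap B D) _ =
    T1map (canon k B) ((Algebra.linearMap C D).restrictScalars B) (T1map (canon k B) (Algebra.linearMap B C) _)
  rw [T1Loc.T1map_homToT1, T1Loc.T1map_homToT1, T1Loc.T1map_homToT1, ← LinearMap.comp_assoc]
  rfl

section Loc

variable [IsNoetherianRing k] [Algebra.FiniteType k B]

theorem exists_pow_smul_eq_zero (g : B) (φ : B →ₐ[k] C)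
    (hg : letI := φ.toRingHom.toAlgebra; IsLocalization.Away g C) {t : T k B} (h : Compat φ t 0) :
    ∃ n : ℕ, g ^ n • t = 0 := by
  let _ : Algebra B C := φ.toRingHom.toAlgebra
  have _ : IsScalarTower k B C := IsScalarTower.of_algebraMap_eq fun c => (φ.commutes c).symm
  have _ : IsLocalization.Away g C := hg
  have h1 : pull k B C 0 = push k B C t := h
  rw [map_zero] at h1
  have h2 : IsLocalizedModule (.powers g) (Algebra.linearMap B C) := inferInstance
  obtain ⟨_, ⟨n, rfl⟩, h3⟩ := T1Loc.canon_exists_smul_eq_zero (A := k) (.powers g) (Algebra.linearMap B C) t h1.symm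
  exact ⟨n, h3⟩

theorem exists_pow_smul_compat (g : B) (φ : B →ₐ[k] C)
    (hg : letI := φ.toRingHom.toAlgebra; IsLocalization.Away g C) (s : T k C) :
    ∃ (n : ℕ) (t : T k B), Compat φ t (φ (g ^ n) • s) := by
  let _ : Algebra B C := φ.toRingHom.toAlgebra
  have _ : IsScalarTower k B C := IsScalarTower.of_algebraMap_eq fun c => (φ.commutes c).symm
  have _ : IsLocalization.Away g C := hg
  have h2 : IsLocalizedModule (.powers g) (Algebra.linearMap B C) := inferInstance
  obtain ⟨_, ⟨n, rfl⟩, t, ht⟩ := T1Loc.canon_exists_T1map_eq_smul (A := k) (.powers g) (Algebra.linearMap B C)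
    (pull k B C s)
  refine ⟨n, t, ?_⟩
  change pull k B C (φ (g ^ n) • s) = push k B C t
  refine Eq.trans ?_ ht.symm
  change _ = g ^ n • pull k B C s
  rw [← map_smul]
  rfl

end Loc

end K680.T1Compat
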