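import Groth.Agent.Deform.K680.T1Pre
import Groth.Agent.CohqA.AffSec
import Groth.Agent.PerfC.FPSections
import Groth.Agent.Picfga.ChiCech
import Groth.Agent.S0002

/-!
# Compatible families of classes in `T¹` on a proper scheme form a finite-dimensional space
-/

set_option autoImplicit false
universe u

open CategoryTheory AlgebraicGeometry Opposite TopologicalSpace CotT K565.TOneDef
open Groth.Agent.Dual.H366

namespace K680.T1Fin

open K680.T1Compat K680.T1Pre

section Sheaf

variable {k : Type u} [CommRing k] {X : Scheme.{u}} (x : X ⟶ Spec (CommRingCat.of k))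

/-- The sheaf of classes in `T¹`. -/
noncomputable def T1sh : X.Modules := (CohB1.sheafifyMod X).obj (famPre x)

open Groth.Agent.Sga67.Sec

/-- The section of the sheaf given by a family. -/
noncomputable def sec (U : X.Opens) : Fam x U →ₗ[Γ(X, U)] Groth.Agent.Sga67.Sec.Sec (T1sh x) U :=
  (papp (eta (famPre x)) U).comp (toPre x U).toLinearMap

theorem sec_fres {U V : X.Opens} (h : V ≤ U) (t : Fam x U) :
    sec x V (fres h t) = res (T1sh x) h (sec x U t) :=
  papp_pres (eta (famPre x)) h (toPre x U t)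

variable [IsNoetherianRing k] [LocallyOfFiniteType x]

theorem bijective_sec {U : X.Opens} (hU : IsAffineOpen U) : Function.Bijective (sec x U) :=
  ((locP x).bijective hU).comp (toPre x U).bijective

theorem isQCoh : Coh.IsQCoh (T1sh x) := by
  refine Groth.Agent.CohqA.AffSec.isQCoh_of_loc _ fun p => ?_
  obtain ⟨U, hU, hp, -⟩ := exists_isAffineOpen_mem_and_subset (x := p) (U := ⊤) trivial
  refine ⟨U, hU, hp, fun g s hs => (locP x).exists_pow_smul hU g s hs, fun g t => ?_⟩
  obtain ⟨t', rfl⟩ := ((locP x).bijective (hU.basicOpen g)).2 t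
  obtain ⟨n, s, hs⟩ := (locP x).surj U hU g t'
  refine ⟨n, papp (eta (famPre x)) U s, ?_⟩
  refine (papp_pres (eta (famPre x)) (X.basicOpen_le g) s).symm.trans ?_
  rw [hs, map_smul, ← map_pow]
  rfl

theorem finite_sections {U : X.Opens} (hU : IsAffineOpen U) : Module.Finite Γ(X, U) Γ(T1sh x, U) := by
  have := finiteType x hU
  have hN : IsNoetherianRing (Sec x U) := Algebra.FiniteType.isNoetherianRing k _
  have hN' : IsNoetherianRing Γ(X, U) := hN
  have hf : Module.Finite (Sec x U) (T k (Sec x U)) := T1Loc.finite_canon (Sec x U)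
  have i2 : Module.Finite Γ(X, U) (TV x U) := hf
  let ev : Fam x U →ₗ[Γ(X, U)] TV x U :=
    { toFun := fun t => t.1 ⟨⟨U, hU⟩, le_rfl⟩
      map_add' := fun _ _ => rfl
      map_smul' := fun r t => by
        rw [T1Pre.smul_apply]
        have h4 : rs (x := x) (le_refl U) r = r := congrArg (fun f => f.hom r) (X.presheaf.map_id (op U))
        rw [h4]
        rfl }
  have hev : Function.Injective ev := fun t t' h => ext_top x hU h
  have i3 : Module.Finite Γ(X, U) (Fam x U) := Module.Finite.of_injective ev hev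
  exact Module.Finite.of_surjective (sec x U) (bijective_sec x hU).2

theorem isCoh : Coh.IsCoh (T1sh x) := by
  refine ⟨isQCoh x, ?_⟩
  refine (Groth.Agent.CohqA.FinLocal.isFT_iff _).2 fun p => ?_
  obtain ⟨U, hU, hp, -⟩ := exists_isAffineOpen_mem_and_subset (x := p) (U := ⊤) trivial
  exact ⟨U, hp, (Groth.Agent.CohqA.AffSec.gfg_iff hU (isQCoh x)).2 (finite_sections x hU)⟩

/-- A global family giving the zero section is zero. -/
theorem eq_zero_of_sec {t : Fam x ⊤} (h : sec x ⊤ t = 0) : t = 0 := by
  refine Subtype.ext (funext fun V => ?_)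
  have h1 : sec x V.1.1 (fres V.2 t) = 0 := by
    rw [sec_fres, h, map_zero]
  have h2 : fres V.2 t = 0 := (bijective_sec x V.1.2).1 (h1.trans (map_zero _).symm)
  exact congrArg (fun t => t.1 ⟨V.1, le_rfl⟩) h2

end Sheaf

section Fin

variable {k : Type u} [Field k] {X : Scheme.{u}} (x : X ⟶ Spec (CommRingCat.of k))

/-- The family of a compatible system. -/
noncomputable def toFam (t : G x) : Fam x ⊤ := ⟨fun V => t.1 V.1, fun V W h => t.2 V.1 W.1 h⟩

theorem toFam_injective : Function.Injective (toFam x) := by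
  intro t t' h
  apply Subtype.ext
  funext V
  exact congrArg (fun t : Fam x ⊤ => t.1 ⟨V, le_top⟩) h

variable [X.Over (Spec (CommRingCat.of k))]

open Groth.Agent.Picfga.ChiCech

theorem toFam_smul (c : k) (t : G (X ↘ Spec (CommRingCat.of k))) :
    toFam (X ↘ Spec (CommRingCat.of k)) (c • t) =
      str (X := X) k ⊤ c • toFam (X ↘ Spec (CommRingCat.of k)) t := by
  apply Subtype.ext
  funext V
  refine Eq.trans ?_ (T1Pre.smul_apply _ _ V).symm
  have e1 : rs (x := (X ↘ Spec (CommRingCat.of k))) V.2 (str (X := X) k ⊤ c) =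
      algebraMap k (Sec (X ↘ Spec (CommRingCat.of k)) V.1.1) c :=
    DFunLike.congr_fun (strHom_res (X ↘ Spec (CommRingCat.of k)) V.2) c
  have e2 : rs (x := (X ↘ Spec (CommRingCat.of k))) V.2 (str (X := X) k ⊤ c) • (toFam _ t).1 V =
      algebraMap k (Sec (X ↘ Spec (CommRingCat.of k)) V.1.1) c • (toFam _ t).1 V :=
    congrArg (fun r : Sec (X ↘ Spec (CommRingCat.of k)) V.1.1 => r • (toFam _ t).1 V) e1
  refine Eq.trans ?_ e2.symm
  exact (algebraMap_smul (Sec (X ↘ Spec (CommRingCat.of k)) V.1.1) c
    (show T k (Sec (X ↘ Spec (CommRingCat.of k)) V.1.1) from t.1 V.1)).symm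

/-- The map to global sections. -/
noncomputable def toSec : G (X ↘ Spec (CommRingCat.of k)) →ₗ[k] SecA k (T1sh (X ↘ Spec (CommRingCat.of k))) ⊤ where
  toFun t := toSecA (sec _ ⊤ (toFam _ t))
  map_add' t t' := map_add (sec (X ↘ Spec (CommRingCat.of k)) ⊤) (toFam _ t) (toFam _ t')
  map_smul' c t := by
    rw [toFam_smul, map_smul]
    rfl

theorem toSec_injective [LocallyOfFiniteType (X ↘ Spec (CommRingCat.of k))] :
    Function.Injective (toSec (k := k) (X := X)) := by
  intro t t' ht
  refine toFam_injective _ (sub_eq_zero.1 (eq_zero_of_sec _ ?_))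
  rw [map_sub, sub_eq_zero]
  exact ht

end Fin

variable {k : Type u} [Field k] {X : Scheme.{u}} (x : X ⟶ Spec (CommRingCat.of k))

open Groth.Agent.Picfga.ChiCech in
/-- **Finiteness.** -/
theorem finite_G [IsProper x] : Module.Finite k (G x) := by
  let _ : X.Over (Spec (CommRingCat.of k)) := ⟨x⟩
  have _ : IsProper (X ↘ Spec (CommRingCat.of k)) := inferInstanceAs (IsProper x)
  have h1 : Module.Finite k (Coh.HH X (T1sh (X ↘ Spec (CommRingCat.of k))) 0) :=
    Groth.Agent.S0002.result k X (T1sh (X ↘ Spec (CommRingCat.of k))) (isCoh _) 0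
  have h2 : Module.Finite k (SecA k (T1sh (X ↘ Spec (CommRingCat.of k))) ⊤) := Module.Finite.equiv (h0Top k _)
  exact Module.Finite.of_injective (toSec (k := k) (X := X)) toSec_injective

end K680.T1Fin
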