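import Groth.Agent.Deform.K680.T1Compat
import Groth.Agent.Dual.H366.ExtQCoh
import Mathlib.AlgebraicGeometry.Morphisms.Smooth
import Mathlib.AlgebraicGeometry.Morphisms.FiniteType

/-!
# The presheaf of compatible families of classes in `T¹` localizes on affine opens
-/

set_option autoImplicit false
universe u

open CategoryTheory AlgebraicGeometry Opposite TopologicalSpace CotT K565.TOneDef
open Groth.Agent.Dual.H366

namespace K680.T1Pre

open K680.T1Compat

variable {k : Type u} [CommRing k] {X : Scheme.{u}} (x : X ⟶ Spec (CommRingCat.of k))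

section Geo

theorem strHom_eq (V : X.Opens) : strHom x V =
    (x.appLE ⊤ V le_top).hom.comp (Scheme.ΓSpecIso (CommRingCat.of k)).inv.hom := by
  rfl

theorem finiteType [LocallyOfFiniteType x] {V : X.Opens} (hV : IsAffineOpen V) :
    Algebra.FiniteType k (Sec x V) := by
  have h1 : (x.appLE ⊤ V le_top).hom.FiniteType :=
    HasRingHomProperty.appLE @LocallyOfFiniteType x inferInstance ⟨⊤, isAffineOpen_top _⟩ ⟨V, hV⟩ le_top
  let e := (Scheme.ΓSpecIso (CommRingCat.of k)).commRingCatIsoToRingEquiv
  have h3 : ((x.appLE ⊤ V le_top).hom.comp e.symm.toRingHom).FiniteType :=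
    RingHom.finiteType_respectsIso.2 _ e.symm h1
  exact h3

theorem good_res {V W : X.Opens} (hV : IsAffineOpen V) (hW : IsAffineOpen W) (h : W ≤ V) :
    Good (res x h) := by
  have e1 : ((𝟙 X : X ⟶ X).appLE V W h).hom = (X.presheaf.map (homOfLE h).op).hom := by
    exact congrArg CommRingCat.Hom.hom (Category.id_comp _)
  constructor
  · have h1 : ((𝟙 X : X ⟶ X).appLE V W h).hom.Smooth :=
      HasRingHomProperty.appLE @Smooth (𝟙 X) inferInstance ⟨V, hV⟩ ⟨W, hW⟩ h
    rw [e1] at h1
    let _ : Algebra (Sec x V) (Sec x W) := (res x h).toRingHom.toAlgebra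
    have h2 : Algebra.Smooth (Sec x V) (Sec x W) := h1
    exact h2.1
  · let LM : MorphismProperty Scheme.{u} :=
      Groth.Agent.Flat2H.AlgProp.toMor (fun A B => LCI.IsLCI A B)
    have hLM : HasRingHomProperty LM (Groth.Agent.Flat2H.AlgProp.toRingHom
        (fun (A B : Type u) [CommRing A] [CommRing B] [Algebra A B] => LCI.IsLCI A B)) :=
      Groth.Agent.Flat2H.LCIMaps2.isLocal_isLCI.hasRingHomProperty
    have hid : LM (𝟙 X) := by
      rw [HasRingHomProperty.iff_exists_appLE (P := LM)
        Groth.Agent.Flat2H.LCIMaps2.isLocal_isLCI.holdsForComp_source]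
      intro p
      obtain ⟨U, hU, hp, -⟩ := exists_isAffineOpen_mem_and_subset (x := p) (U := ⊤) trivial
      refine ⟨⟨U, hU⟩, ⟨U, hU⟩, hp, le_rfl, ?_⟩
      have e2 : ((𝟙 X : X ⟶ X).appLE U U le_rfl).hom = RingHom.id _ := by
        exact congrArg CommRingCat.Hom.hom ((Category.id_comp _).trans (X.presheaf.map_id _))
      rw [e2]
      exact Groth.Agent.Flat2H.LCIMaps2.isLCI_self _
    have h1 := HasRingHomProperty.appLE LM (𝟙 X) hid ⟨V, hV⟩ ⟨W, hW⟩ h
    rw [e1] at h1
    exact h1

theorem away_res {V : X.Opens} (hV : IsAffineOpen V) (g : Γ(X, V)) :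
    letI := (res x (X.basicOpen_le g)).toRingHom.toAlgebra
    IsLocalization.Away (show Sec x V from g) (Sec x (X.basicOpen g)) :=
  hV.isLocalization_basicOpen g

end Geo

/-- Classes over an open. -/
def TV (V : X.Opens) : Type u := T k (Sec x V)

noncomputable instance (V : X.Opens) : AddCommGroup (TV x V) := inferInstanceAs (AddCommGroup (T k (Sec x V)))

noncomputable instance (V : X.Opens) : Module (Sec x V) (TV x V) := inferInstanceAs (Module (Sec x V) (T k (Sec x V)))

noncomputable instance (V : X.Opens) : Module Γ(X, V) (TV x V) := inferInstanceAs (Module (Sec x V) (TV x V))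

/-- Compatibility of classes over opens. -/
def Cp {V W : X.Opens} (h : W ≤ V) (t : TV x V) (s : TV x W) : Prop := Compat (res x h) t s

variable {x} in
lemma Cp.add {V W : X.Opens} {h : W ≤ V} {t t' : TV x V} {s s' : TV x W} (h1 : Cp x h t s) (h2 : Cp x h t' s') :
    Cp x h (t + t') (s + s') := Compat.add h1 h2

lemma Cp.zero {V W : X.Opens} (h : W ≤ V) : Cp x h (0 : TV x V) (0 : TV x W) := Compat.zero _

variable {x} in
lemma Cp.smul {V W : X.Opens} {h : W ≤ V} {t : TV x V} {s : TV x W} (b : Sec x V) (h1 : Cp x h t s) :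
    Cp x h (b • t) (res x h b • s) := Compat.smul' b h1

/-- Compatible families on the affine opens inside `U`. -/
noncomputable def Fam (U : X.Opens) : AddSubgroup (∀ V : {V : X.affineOpens // V.1 ≤ U}, TV x V.1.1) where
  carrier := {t | ∀ (V W : {V : X.affineOpens // V.1 ≤ U}) (h : W.1.1 ≤ V.1.1), Cp x h (t V) (t W)}
  add_mem' := fun ha hb V W h => (ha V W h).add (hb V W h)
  zero_mem' := fun _ _ _ => Cp.zero _ _
  neg_mem' := fun {a} ha V W h => by
    have := (ha V W h).smul (-1 : Sec x V.1.1)
    rwa [map_neg, map_one, neg_one_smul, neg_one_smul] at this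

variable {x}

/-- Restriction of functions. -/
noncomputable abbrev rs {U V : X.Opens} (h : V ≤ U) : Γ(X, U) →+* Sec x V :=
  (X.presheaf.map (homOfLE h).op).hom

lemma res_rs {U V W : X.Opens} (h : V ≤ U) (h' : W ≤ V) (r : Γ(X, U)) :
    res x h' (rs (x := x) h r) = rs (h'.trans h) r :=
  res_res x h h' r

noncomputable instance smulFam (U : X.Opens) : SMul Γ(X, U) (Fam x U) where
  smul r t := ⟨fun V => rs (x := x) V.2 r • t.1 V, fun V W h => by
    have := (t.2 V W h).smul (rs (x := x) V.2 r)
    rwa [res_rs] at this⟩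

lemma smul_apply {U : X.Opens} (r : Γ(X, U)) (t : Fam x U) (V) : (r • t).1 V = rs (x := x) V.2 r • t.1 V := rfl

noncomputable instance moduleFam (U : X.Opens) : Module Γ(X, U) (Fam x U) where
  one_smul t := Subtype.ext (funext fun V => by rw [smul_apply, map_one, one_smul])
  mul_smul r r' t := Subtype.ext (funext fun V => by
    rw [smul_apply, smul_apply, smul_apply, map_mul, mul_smul])
  smul_zero r := Subtype.ext (funext fun V => by
    rw [smul_apply]
    exact smul_zero _)
  smul_add r t t' := Subtype.ext (funext fun V => smul_add _ _ _)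
  add_smul r r' t := Subtype.ext (funext fun V => by
    rw [smul_apply, map_add, add_smul]
    rfl)
  zero_smul t := Subtype.ext (funext fun V => by
    rw [smul_apply, map_zero, zero_smul]
    rfl)

/-- Restriction of families. -/
noncomputable def fres {U U' : X.Opens} (h : U' ≤ U) : Fam x U →+ Fam x U' where
  toFun t := ⟨fun V => t.1 ⟨V.1, V.2.trans h⟩, fun _ _ hVW => t.2 _ _ hVW⟩
  map_zero' := rfl
  map_add' _ _ := rfl

lemma fres_apply {U U' : X.Opens} (h : U' ≤ U) (t : Fam x U) (V) : (fres h t).1 V = t.1 ⟨V.1, V.2.trans h⟩ := rfl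

lemma fres_smul {U U' : X.Opens} (h : U' ≤ U) (r : Γ(X, U)) (t : Fam x U) :
    fres h (r • t) = (X.presheaf.map (homOfLE h).op).hom r • fres h t := by
  refine Subtype.ext (funext fun V => ?_)
  rw [smul_apply, fres_apply, fres_apply, smul_apply]
  congr 1
  exact (res_rs (x := x) h V.2 r).symm

variable (x)

/-- The presheaf of abelian groups. -/
noncomputable def famAb : TopCat.Presheaf AddCommGrpCat.{u} X where
  obj U := AddCommGrpCat.of (Fam x U.unop)
  map f := AddCommGrpCat.ofHom (fres f.unop.le)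
  map_id _ := rfl
  map_comp _ _ := rfl

noncomputable instance (U : (Opens X)ᵒᵖ) :
    Module ((X.sheaf.obj ⋙ forget₂ CommRingCat RingCat.{u}).obj U) ((famAb x).obj U) :=
  inferInstanceAs (Module Γ(X, U.unop) (Fam x U.unop))

/-- The presheaf of modules of compatible families. -/
noncomputable def famPre : CohB1.PMod X :=
  PresheafOfModules.ofPresheaf (R := X.sheaf.obj ⋙ forget₂ CommRingCat RingCat.{u}) (famAb x) (by
    intro U V f r t
    exact fres_smul f.unop.le r t)

open Groth.Agent.Sga67.Sec in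
/-- Sections of `famPre`. -/
noncomputable def toPre (U : X.Opens) : Fam x U ≃ₗ[Γ(X, U)] PSec (famPre x) U where
  toFun t := t
  invFun t := t
  left_inv _ := rfl
  right_inv _ := rfl
  map_add' _ _ := rfl
  map_smul' _ _ := rfl

open Groth.Agent.Sga67.Sec in
theorem pres_toPre {U V : X.Opens} (h : V ≤ U) (t : Fam x U) :
    pres (famPre x) h (toPre x U t) = toPre x V (fres h t) := rfl

section Loc

variable [IsNoetherianRing k] [LocallyOfFiniteType x]

/-- A family on an affine open is determined by its top value. -/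
theorem ext_top {U : X.Opens} (hU : IsAffineOpen U) {t t' : Fam x U}
    (h : t.1 ⟨⟨U, hU⟩, le_rfl⟩ = t'.1 ⟨⟨U, hU⟩, le_rfl⟩) : t = t' := by
  refine Subtype.ext (funext fun V => ?_)
  have := finiteType x hU
  have : IsNoetherianRing (Sec x U) := Algebra.FiniteType.isNoetherianRing k _
  have h1 := t.2 ⟨⟨U, hU⟩, le_rfl⟩ V V.2
  have h2 := t'.2 ⟨⟨U, hU⟩, le_rfl⟩ V V.2
  rw [h] at h1
  exact compat_unique (good_res x hU V.1.2 V.2) h1 h2

/-- Every class on an affine open extends to a family. -/
theorem exists_fam {U : X.Opens} (hU : IsAffineOpen U) (s : TV x U) :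
    ∃ t : Fam x U, ∀ V, Cp x V.2 s (t.1 V) := by
  have := finiteType x hU
  have : IsNoetherianRing (Sec x U) := Algebra.FiniteType.isNoetherianRing k _
  choose t ht using fun V : {V : X.affineOpens // V.1 ≤ U} => exists_compat (good_res x hU V.1.2 V.2) s
  refine ⟨⟨t, fun V W h => ?_⟩, ht⟩
  refine compat_of_comp (good_res x hU V.1.2 V.2) (χ := res x W.2) ?_ (ht V) (ht W)
  exact AlgHom.ext fun r => (res_res x V.2 h r).symm

open Groth.Agent.Sga67.Sec in
theorem locP : ExtQCoh.LocP (famPre x) := by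
  constructor
  · intro U hU g s hs
    have := finiteType x hU
    obtain ⟨t, rfl⟩ := (toPre x U).surjective s
    rw [pres_toPre] at hs
    have h0 : fres (X.basicOpen_le g) t = 0 := hs
    have h1 := t.2 ⟨⟨U, hU⟩, le_rfl⟩ ⟨⟨X.basicOpen g, hU.basicOpen g⟩, X.basicOpen_le g⟩ (X.basicOpen_le g)
    have h2 : t.1 ⟨⟨X.basicOpen g, hU.basicOpen g⟩, X.basicOpen_le g⟩ = 0 :=
      congrArg (fun t => t.1 ⟨⟨X.basicOpen g, hU.basicOpen g⟩, le_rfl⟩) h0
    rw [h2] at h1
    obtain ⟨n, hn⟩ := exists_pow_smul_eq_zero (show Sec x U from g) _ (away_res x hU g) h1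
    refine ⟨n, ?_⟩
    rw [← map_smul]
    have h3 : g ^ n • t = 0 := by
      refine ext_top x hU ?_
      rw [smul_apply, map_pow]
      have h4 : rs (x := x) (le_refl U) g = g := congrArg (fun f => f.hom g) (X.presheaf.map_id (op U))
      rw [h4]
      exact hn
    rw [h3, map_zero]
  · intro U hU g t
    have := finiteType x hU
    obtain ⟨t, rfl⟩ := (toPre x _).surjective t
    obtain ⟨n, s, hs⟩ := exists_pow_smul_compat (show Sec x U from g) _ (away_res x hU g)
      (t.1 ⟨⟨X.basicOpen g, hU.basicOpen g⟩, le_rfl⟩)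
    obtain ⟨f, hf⟩ := exists_fam x hU s
    refine ⟨n, toPre x U f, ?_⟩
    rw [pres_toPre, ← map_smul]
    congr 1
    refine ext_top x (hU.basicOpen g) ?_
    have : IsNoetherianRing (Sec x U) := Algebra.FiniteType.isNoetherianRing k _
    refine compat_unique (good_res x hU (hU.basicOpen g) (X.basicOpen_le g))
      (hf ⟨⟨X.basicOpen g, hU.basicOpen g⟩, X.basicOpen_le g⟩) ?_
    refine Eq.mp ?_ hs
    congr 1
    rw [smul_apply]
    congr 1
    have h4 : ∀ r, rs (x := x) (le_refl (X.basicOpen g)) r = r := fun r =>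
      congrArg (fun f => f.hom r) (X.presheaf.map_id (op (X.basicOpen g)))
    rw [h4]
    rfl

end Loc

end K680.T1Pre
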