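import Groth.Agent.Deform.K680.T1Pre
import Mathlib.RingTheory.Jacobson.Artinian

/-!
# `T¹` is finite-dimensional when the non-smooth locus is finite
-/

set_option autoImplicit false
universe u v

open CategoryTheory AlgebraicGeometry Opposite TopologicalSpace CotT K565.TOneDef

namespace K680.T1Van

section Alg

lemma isMaximal_of_finite {A : Type u} [CommRing A] [IsJacobsonRing A] [Finite (PrimeSpectrum A)] (p : Ideal A)
    [hp : p.IsPrime] : p.IsMaximal := by
  classical
  have hfin : Finite {J : Ideal A // p ≤ J ∧ J.IsMaximal} :=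
    Finite.of_injective (fun J : {J : Ideal A // p ≤ J ∧ J.IsMaximal} => (⟨J.1, J.2.2.isPrime⟩ : PrimeSpectrum A))
      (fun J J' h => Subtype.ext (congrArg PrimeSpectrum.asIdeal h))
  have := Fintype.ofFinite {J : Ideal A // p ≤ J ∧ J.IsMaximal}
  have h1 : p.jacobson = p := IsJacobsonRing.out inferInstance hp.isRadical
  have h2 : Finset.univ.inf (fun J : {J : Ideal A // p ≤ J ∧ J.IsMaximal} => J.1) ≤ p := by
    refine le_trans ?_ h1.le
    refine le_sInf fun J hJ => ?_
    exact Finset.inf_le (f := fun J : {J : Ideal A // p ≤ J ∧ J.IsMaximal} => J.1) (Finset.mem_univ ⟨J, hJ⟩)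
  obtain ⟨J, -, hJ⟩ := (hp.inf_le' (s := Finset.univ)
    (f := fun J : {J : Ideal A // p ≤ J ∧ J.IsMaximal} => J.1)).1 h2
  have : J.1 = p := le_antisymm hJ J.2.1
  rw [← this]
  exact J.2.2

variable {k : Type u} {B : Type v} [Field k] [CommRing B] [Algebra k B] [Algebra.FiniteType k B]

variable (k) in
theorem finite_module (M : Type*) [AddCommGroup M] [Module B M] [Module k M] [IsScalarTower k B M]
    [Module.Finite B M] (Z : Set (PrimeSpectrum B)) (hZ : Z.Finite)
    (h : ∀ p : PrimeSpectrum B, p ∉ Z → ∃ g : B, g ∉ p.asIdeal ∧ ∀ m : M, ∃ n : ℕ, g ^ n • m = 0) :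
    Module.Finite k M := by
  classical
  let I : Ideal B := Module.annihilator B M
  have key : ∀ p : PrimeSpectrum B, I ≤ p.asIdeal → p ∈ Z := by
    intro p hIp
    by_contra hp
    obtain ⟨g, hg, hM⟩ := h p hp
    obtain ⟨s, hs⟩ := (inferInstance : Module.Finite B M)
    choose n hn using hM
    have h1 : g ^ (∑ m ∈ s, n m) ∈ I := by
      rw [Module.mem_annihilator]
      intro m
      have hm : m ∈ Submodule.span B (s : Set M) := by rw [hs]; trivial
      induction hm using Submodule.span_induction with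
      | mem m hm =>
        rw [← Finset.add_sum_erase s n hm, pow_add, mul_comm, mul_smul, hn, smul_zero]
      | zero => rw [smul_zero]
      | add x y _ _ hx hy => rw [smul_add, hx, hy, add_zero]
      | smul a x _ hx => rw [smul_comm, hx, smul_zero]
    exact hg (p.2.mem_of_pow_mem _ (hIp h1))
  have hfin : Finite (PrimeSpectrum (B ⧸ I)) := by
    have := hZ.to_subtype
    refine Finite.of_injective (fun p : PrimeSpectrum (B ⧸ I) =>
      (⟨PrimeSpectrum.comap (Ideal.Quotient.mk I) p, key _ ?_⟩ : Z)) ?_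
    · intro x hx
      change Ideal.Quotient.mk I x ∈ p.asIdeal
      rw [Ideal.Quotient.eq_zero_iff_mem.2 hx]
      exact zero_mem _
    · intro p q hpq
      exact PrimeSpectrum.comap_injective_of_surjective _ Ideal.Quotient.mk_surjective
        (congrArg Subtype.val hpq)
  have hJ : IsJacobsonRing (B ⧸ I) := isJacobsonRing_of_finiteType (A := k)
  have h0 : Module.Finite k (B ⧸ I) := by
    rw [Module.finite_iff_krullDimLE_zero, Ring.krullDimLE_zero_iff]
    intro p hp
    exact isMaximal_of_finite p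
  let i1 : Module (B ⧸ I) M := Module.quotientAnnihilator
  have i2 : IsScalarTower B (B ⧸ I) M := ⟨fun b q m => by
    obtain ⟨q, rfl⟩ := Ideal.Quotient.mk_surjective q
    change (b * q) • m = b • q • m
    rw [mul_smul]⟩
  have i3 : Module.Finite (B ⧸ I) M := Module.Finite.of_restrictScalars_finite B (B ⧸ I) M
  have i4 : IsScalarTower k (B ⧸ I) M := ⟨fun c q m => by
    obtain ⟨q, rfl⟩ := Ideal.Quotient.mk_surjective q
    change (c • q) • m = c • q • m
    rw [smul_assoc]⟩
  exact Module.Finite.trans (B ⧸ I) M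

end Alg

section T

open K680.T1Compat

variable {k : Type u} [CommRing k] [IsNoetherianRing k] {B : Type u} [CommRing B] [Algebra k B]
  [Algebra.FiniteType k B]

/-- Classes are killed by a power of `g` if `B_g` is smooth. -/
theorem exists_pow_smul_of_smooth (g : B) {C : Type u} [CommRing C] [Algebra k C] (φ : B →ₐ[k] C)
    (hφ : Good φ) (hg : letI := φ.toRingHom.toAlgebra; IsLocalization.Away g C) [Algebra.FormallySmooth k C]
    (t : T k B) : ∃ n : ℕ, g ^ n • t = 0 := by
  have : IsNoetherianRing B := Algebra.FiniteType.isNoetherianRing k _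
  obtain ⟨s, hs⟩ := exists_compat hφ t
  have : Subsingleton (T k C) := K694.Smooth1.subsingleton_T1 _ _
  rw [Subsingleton.elim s 0] at hs
  exact exists_pow_smul_eq_zero g φ hg hs

end T

section Geo

variable {k : Type u} [Field k] {X : Scheme.{u}} (x : X ⟶ Spec (CommRingCat.of k))

theorem smooth_sec {U : X.Opens} (hU : Smooth (U.ι ≫ x)) {V : X.Opens} (hV : IsAffineOpen V) (hVU : V ≤ U) :
    Algebra.Smooth k (Sec x V) := by
  let W : U.toScheme.Opens := U.ι ⁻¹ᵁ V
  have hVr : V ≤ U.ι.opensRange := by rwa [Scheme.Opens.opensRange_ι]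
  have hW : IsAffineOpen W := by
    rw [← Scheme.Hom.isAffineOpen_iff_of_isOpenImmersion U.ι]
    have : U.ι ''ᵁ W = V := by
      change U.ι ''ᵁ (U.ι ⁻¹ᵁ V) = V
      rw [Scheme.Hom.image_preimage_eq_opensRange_inf, inf_eq_right]
      exact hVr
    rwa [this]
  have h1 : ((U.ι ≫ x).appLE ⊤ W le_top).hom.Smooth :=
    HasRingHomProperty.appLE @Smooth (U.ι ≫ x) hU ⟨⊤, isAffineOpen_top _⟩ ⟨W, hW⟩ le_top
  have h2 : x.appLE ⊤ V le_top ≫ U.ι.appLE V W le_rfl = (U.ι ≫ x).appLE ⊤ W le_top :=
    Scheme.Hom.appLE_comp_appLE _ _ _ _ _ _ _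
  rw [← h2] at h1
  have h3 : IsIso (U.ι.appLE V W le_rfl) := by
    rw [← Scheme.Hom.app_eq_appLE]
    exact Scheme.Hom.isIso_app U.ι V hVr
  let e1 := (asIso (U.ι.appLE V W le_rfl)).commRingCatIsoToRingEquiv
  have h4 : (e1.symm.toRingHom.comp (x.appLE ⊤ V le_top ≫ U.ι.appLE V W le_rfl).hom).Smooth :=
    RingHom.Smooth.respectsIso.1 _ e1.symm h1
  have h5 : e1.symm.toRingHom.comp (x.appLE ⊤ V le_top ≫ U.ι.appLE V W le_rfl).hom =
      (x.appLE ⊤ V le_top).hom := by
    ext r
    exact e1.symm_apply_apply _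
  rw [h5] at h4
  let e := (Scheme.ΓSpecIso (CommRingCat.of k)).commRingCatIsoToRingEquiv
  have h6 : ((x.appLE ⊤ V le_top).hom.comp e.symm.toRingHom).Smooth :=
    RingHom.Smooth.respectsIso.2 _ e.symm h4
  exact h6

/-- **Finiteness of `T¹` for finite non-smooth locus.** -/
theorem finite_T [LocallyOfFiniteType x] (U : X.Opens) (hU : Smooth (U.ι ≫ x)) (hfin : ((U : Set X)ᶜ).Finite)
    {V : X.Opens} (hV : IsAffineOpen V) : Module.Finite k (T k (Sec x V)) := by
  have h0 := T1Pre.finiteType x hV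
  have hN : IsNoetherianRing (Sec x V) := Algebra.FiniteType.isNoetherianRing k _
  have h1 : Module.Finite (Sec x V) (T k (Sec x V)) := T1Loc.finite_canon (Sec x V)
  let Z : Set (PrimeSpectrum (Sec x V)) := (fun p => hV.fromSpec p) ⁻¹' (U : Set X)ᶜ
  have hZ : Z.Finite := hfin.preimage (hV.fromSpec.isOpenEmbedding.injective.injOn)
  refine finite_module k (T k (Sec x V)) Z hZ fun p hp => ?_
  have hpU : hV.fromSpec p ∈ U := by
    by_contra hn
    exact hp hn
  have hpV : hV.fromSpec p ∈ V := by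
    have : hV.fromSpec p ∈ hV.fromSpec.opensRange := ⟨p, rfl⟩
    rwa [hV.opensRange_fromSpec] at this
  obtain ⟨g, hgU, hpg⟩ := hV.exists_basicOpen_le ⟨hV.fromSpec p, hpU⟩ hpV
  refine ⟨g, ?_, fun t => ?_⟩
  · have h2 : p ∈ hV.fromSpec ⁻¹ᵁ (X.basicOpen g) := hpg
    rw [hV.fromSpec_preimage_basicOpen] at h2
    exact h2
  · have := smooth_sec x hU (hV.basicOpen g) hgU
    exact exists_pow_smul_of_smooth (show Sec x V from g) _ (T1Pre.good_res x hV (hV.basicOpen g) (X.basicOpen_le g))
      (T1Pre.away_res x hV g) t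

end Geo

end K680.T1Van
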