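import Groth.Agent.Deform.K680.OI

/-! Towers of elements over decreasing sequences of open ideals, and the families they define. -/

set_option autoImplicit false
universe u v
open CategoryTheory

namespace K680.Tow

open ArtFun ArtFun.Art IsLocalRing K680.Opn

variable {Λ : Type u} {k : Type u} [CommRing Λ] [Field k] [Algebra Λ k]

lemma map_map (F : Art Λ k ⥤ Type v) {A B C : Art Λ k} (f : A ⟶ B) (g : B ⟶ C) (x : F.obj A) :
    F.map g (F.map f x) = F.map (f ≫ g) x := by
  rw [F.map_comp]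
  rfl

lemma map_id_apply (F : Art Λ k ⥤ Type v) {A : Art Λ k} (x : F.obj A) : F.map (𝟙 A) x = x := by
  rw [F.map_id]
  rfl

/-- A compatible system of elements over a decreasing sequence of open ideals. -/
structure Tower (P : CRing Λ k) (F : Art Λ k ⥤ Type v) where
  /-- the ideals -/
  J : ℕ → OI P
  anti : ∀ n, (J (n + 1)).J ≤ (J n).J
  /-- the elements -/
  elt : ∀ n, F.obj (J n).art
  compat : ∀ n, F.map (OI.trans (anti n)) (elt (n + 1)) = elt n

namespace Tower

variable {P : CRing Λ k} {F : Art Λ k ⥤ Type v} (T : Tower P F)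

lemma antitone : Antitone fun n => (T.J n).J := antitone_nat_of_succ_le T.anti

lemma compat_le {m n : ℕ} (h : m ≤ n) : F.map (OI.trans (T.antitone h)) (T.elt n) = T.elt m := by
  induction n, h using Nat.le_induction with
  | base => rw [OI.trans_self, map_id_apply]
  | succ n hn ih => rw [← ih, ← T.compat n, map_map, OI.trans_comp]

/-- The intersection. -/
noncomputable def inf : Ideal P.carrier := ⨅ n, (T.J n).J

lemma inf_le (n : ℕ) : T.inf ≤ (T.J n).J := iInf_le _ n

lemma inf_le_max : T.inf ≤ maximalIdeal P.carrier := (T.inf_le 0).trans (T.J 0).le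

/-- The limit ring. -/
noncomputable def ring : CRing Λ k := quotCRing P T.inf T.inf_le_max

/-- The projection to the limit ring. -/
noncomputable def proj : P.carrier →ₐ[Λ] T.ring.carrier := quotProj P T.inf T.inf_le_max

lemma proj_surjective : Function.Surjective T.proj := quotProj_surjective _ _ _

lemma res_comp_proj : T.ring.res.comp T.proj = P.res := res_comp_quotProj _ _ _

/-- Restriction of maps to `P`. -/
noncomputable def rs {A : Art Λ k} (φ : HomSet T.ring.carrier T.ring.res A) : HomSet P.carrier P.res A :=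
  restr T.proj T.res_comp_proj φ

lemma rs_injective {A : Art Λ k} :
    Function.Injective (T.rs : HomSet T.ring.carrier T.ring.res A → HomSet P.carrier P.res A) :=
  restr_injective T.proj T.res_comp_proj T.proj_surjective

lemma rs_map {A B : Art Λ k} (f : A ⟶ B) (φ : HomSet T.ring.carrier T.ring.res A) :
    T.rs (HomSet.map f φ) = HomSet.map f (T.rs φ) := rfl

lemma rs_apply_of_mem {A : Art Λ k} (φ : HomSet T.ring.carrier T.ring.res A) {a : P.carrier}
    (ha : a ∈ T.inf) : (T.rs φ).1 a = 0 := by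
  have h1 : T.proj a = 0 := (quotProj_eq_zero_iff P T.inf T.inf_le_max a).2 ha
  change φ.1 (T.proj a) = 0
  rw [h1, map_zero]

lemma exists_level {A : Art Λ k} (φ : HomSet T.ring.carrier T.ring.res A) :
    ∃ n, ∀ a ∈ (T.J n).J, (T.rs φ).1 a = 0 :=
  exists_le_ker T.J T.anti (T.rs φ) fun _ ha => T.rs_apply_of_mem φ ha

/-- A map out of `P` which kills some member of the tower comes from the limit ring. -/
lemma exists_rs_eq {A : Art Λ k} (φ : HomSet P.carrier P.res A) (n : ℕ) (h : ∀ a ∈ (T.J n).J, φ.1 a = 0) :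
    ∃ ψ : HomSet T.ring.carrier T.ring.res A, T.rs ψ = φ :=
  ⟨quotDesc P T.inf T.inf_le_max φ fun a ha => h a (T.inf_le n ha), restr_quotDesc _ _ _ _ _⟩

lemma val_independent {A : Art Λ k} (φ : HomSet P.carrier P.res A) {m n : ℕ}
    (hm : ∀ a ∈ (T.J m).J, φ.1 a = 0) (hn : ∀ a ∈ (T.J n).J, φ.1 a = 0) :
    F.map ((T.J m).desc φ hm) (T.elt m) = F.map ((T.J n).desc φ hn) (T.elt n) := by
  wlog h : m ≤ n generalizing m n
  · exact (this hn hm (le_of_not_ge h)).symm
  · rw [← T.compat_le h, map_map, OI.trans_desc]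

/-- The family over the limit ring. -/
noncomputable def family : Family T.ring.carrier T.ring.res F where
  app A φ := F.map ((T.J (T.exists_level φ).choose).desc (T.rs φ) (T.exists_level φ).choose_spec) (T.elt _)
  natural {A B} f φ := by
    have h : ∀ a ∈ (T.J (T.exists_level φ).choose).J, (T.rs (HomSet.map f φ)).1 a = 0 := fun a ha => by
      change f.toAlgHom ((T.rs φ).1 a) = 0
      rw [(T.exists_level φ).choose_spec a ha, map_zero]
    rw [T.val_independent (T.rs (HomSet.map f φ)) (T.exists_level (HomSet.map f φ)).choose_spec h, map_map,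
      OI.desc_comp]
    rfl

lemma family_app {A : Art Λ k} (φ : HomSet T.ring.carrier T.ring.res A) (n : ℕ)
    (h : ∀ a ∈ (T.J n).J, (T.rs φ).1 a = 0) :
    T.family.app A φ = F.map ((T.J n).desc (T.rs φ) h) (T.elt n) :=
  T.val_independent (T.rs φ) _ h

/-- The value of the family at the projection to the `n`-th level. -/
lemma exists_level_hom (n : ℕ) : ∃ ψ : HomSet T.ring.carrier T.ring.res (T.J n).art,
    T.rs ψ = (T.J n).hom ∧ T.family.app _ ψ = T.elt n := by
  obtain ⟨ψ, hψ⟩ := T.exists_rs_eq (T.J n).hom n fun a ha => ((T.J n).hom_eq_zero_iff a).2 ha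
  refine ⟨ψ, hψ, ?_⟩
  have h : ∀ a ∈ (T.J n).J, (T.rs ψ).1 a = 0 := fun a ha => by rw [hψ]; exact ((T.J n).hom_eq_zero_iff a).2 ha
  rw [T.family_app ψ n h]
  have : (T.J n).desc (T.rs ψ) h = 𝟙 _ := by
    apply OI.hom_ext
    rw [OI.map_desc_hom, hψ]
    exact Subtype.ext (AlgHom.ext fun _ => rfl)
  rw [this, map_id_apply]

end Tower

/-- `K` is a minimal ideal between `m J` and `J` over which `η` lifts. -/
structure IsStep (F : Art Λ k ⥤ Type v) {P : CRing Λ k} (J : OI P) (η : F.obj J.art) (K : OI P)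
    (ζ : F.obj K.art) : Prop where
  mul_le : maximalIdeal P.carrier * J.J ≤ K.J
  le : K.J ≤ J.J
  map_eq : F.map (OI.trans le) ζ = η
  minimal : ∀ (L : OI P) (hL : L.J ≤ J.J), maximalIdeal P.carrier * J.J ≤ L.J → L.J ≤ K.J →
    (∃ y : F.obj L.art, F.map (OI.trans hL) y = η) → K.J ≤ L.J

/-- A minimal ideal exists. -/
theorem exists_isStep (F : Art Λ k ⥤ Type v) {P : CRing Λ k} (J : OI P) (η : F.obj J.art) :
    ∃ (K : OI P) (ζ : F.obj K.art), IsStep F J η K ζ := by
  classical
  -- ideals of the Artinian ring `P / m J`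
  let M : OI P := J.mulMax
  let S : Set (Ideal (P.carrier ⧸ M.J)) := {I | ∃ (L : OI P) (hL : L.J ≤ J.J), M.J ≤ L.J ∧
    I = L.J.map (Ideal.Quotient.mk M.J) ∧ ∃ y : F.obj L.art, F.map (OI.trans hL) y = η}
  have hne : S.Nonempty := ⟨_, J, le_rfl, Ideal.mul_le_right, rfl, η, by rw [OI.trans_self, map_id_apply]⟩
  obtain ⟨I, ⟨K, hK, hMK, rfl, ζ, hζ⟩, hmin⟩ := WellFounded.has_min (wellFounded_lt (α := Ideal (P.carrier ⧸ M.J))) S hne
  refine ⟨K, ζ, hMK, hK, hζ, fun L hL hML hLK hy => ?_⟩
  have hML : M.J ≤ L.J := hML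
  have h1 := hmin (L.J.map (Ideal.Quotient.mk M.J)) ⟨L, hL, hML, rfl, hy⟩
  have h2 : L.J.map (Ideal.Quotient.mk M.J) ≤ K.J.map (Ideal.Quotient.mk M.J) := Ideal.map_mono hLK
  have h3 : L.J.map (Ideal.Quotient.mk M.J) = K.J.map (Ideal.Quotient.mk M.J) := by
    by_contra hne
    exact h1 (lt_of_le_of_ne h2 hne)
  have h4 := congrArg (Ideal.comap (Ideal.Quotient.mk M.J)) h3
  rw [Ideal.comap_map_of_surjective _ Ideal.Quotient.mk_surjective,
    Ideal.comap_map_of_surjective _ Ideal.Quotient.mk_surjective, ← RingHom.ker_eq_comap_bot, Ideal.mk_ker,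
    sup_eq_left.2 hML, sup_eq_left.2 hMK] at h4
  rw [h4]

/-- The recursive construction of the tower. -/
theorem exists_tower (F : Art Λ k ⥤ Type v) {P : CRing Λ k} (J₀ : OI P) (η₀ : F.obj J₀.art) :
    ∃ (T : Tower P F) (h₀ : T.J 0 = J₀), h₀ ▸ T.elt 0 = η₀ ∧
      ∀ n, IsStep F (T.J n) (T.elt n) (T.J (n + 1)) (T.elt (n + 1)) := by
  classical
  let St := Σ J : OI P, F.obj J.art
  let next : St → St := fun s => ⟨(exists_isStep F s.1 s.2).choose, (exists_isStep F s.1 s.2).choose_spec.choose⟩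
  have hnext : ∀ s : St, IsStep F s.1 s.2 (next s).1 (next s).2 := fun s =>
    (exists_isStep F s.1 s.2).choose_spec.choose_spec
  let seq : ℕ → St := fun n => Nat.rec ⟨J₀, η₀⟩ (fun _ s => next s) n
  have hseq : ∀ n, IsStep F (seq n).1 (seq n).2 (seq (n + 1)).1 (seq (n + 1)).2 := fun n => hnext (seq n)
  exact ⟨⟨fun n => (seq n).1, fun n => (hseq n).le, fun n => (seq n).2, fun n => (hseq n).map_eq⟩, rfl, rfl, hseq⟩

end K680.Tow
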